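import Mathlib

/-! Subgroups `A₄` of `GL₂(ℤ/2ᵏ)`. -/

set_option autoImplicit false
set_option linter.style.haveILetI false

namespace Cfsg.Agent.H22.A4Z

open Subgroup Matrix

theorem m2 {R : Type*} {a b c d e f g h : R} (H : !![a, b; c, d] = !![e, f; g, h]) :
    a = e ∧ b = f ∧ c = g ∧ d = h :=
  ⟨congrFun (congrFun H 0) 0, congrFun (congrFun H 0) 1, congrFun (congrFun H 1) 0,
    congrFun (congrFun H 1) 1⟩

theorem m2' {R : Type*} {a b c d e f g h : R} (h1 : a = e) (h2 : b = f) (h3 : c = g) (h4 : d = h) :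
    !![a, b; c, d] = !![e, f; g, h] := by rw [h1, h2, h3, h4]

theorem shape {R : Type*} [CommRing R] (h3 : IsUnit (3 : R)) (t : Matrix (Fin 2) (Fin 2) R)
    (hA : t * t = 1)
    (hB : t * (!![0, -1; 1, -1] * t * !![-1, 1; -1, 0]) = !![-1, 1; -1, 0] * t * !![0, -1; 1, -1])
    (hC : (!![0, -1; 1, -1] * t * !![-1, 1; -1, 0]) * t = !![-1, 1; -1, 0] * t * !![0, -1; 1, -1]) :
    ∃ x z : R, 2 * x = 0 ∧ 2 * z = 0 ∧ t = !![1 + x, z - x; z, 1 - x] := by
  obtain ⟨i, hi⟩ := h3.exists_right_inv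
  obtain ⟨a, b, x, z, rfl⟩ : ∃ a b x z : R, t = !![a + x, -b + z - x; b + z, a - b - x] := by
    refine ⟨i * (t 0 0 + 2 * t 1 1 - t 0 1 + t 1 0), i * (-(t 0 0 - t 1 1) - 2 * (t 0 1 - t 1 0)),
      i * (2 * (t 0 0 - t 1 1) + (t 0 1 - t 1 0)), i * (t 1 0 + t 0 0 - t 1 1 + 2 * t 0 1), ?_⟩
    conv_lhs => rw [eta_fin_two t]
    exact m2' (by linear_combination (-t 0 0) * hi) (by linear_combination (-t 0 1) * hi)
      (by linear_combination (-t 1 0) * hi) (by linear_combination (-t 1 1) * hi)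
  simp only [mul_fin_two, one_fin_two] at hA hB hC
  obtain ⟨A1, A2, A3, A4⟩ := m2 hA
  obtain ⟨B1, B2, B3, B4⟩ := m2 hB
  obtain ⟨C1, C2, C3, C4⟩ := m2 hC
  have c : ∀ y : R, 3 * y = 0 → y = 0 := fun y hy => by linear_combination (-y) * hi + i * hy
  have hN : x ^ 2 - x * z + z ^ 2 = 0 := c _ (by
    linear_combination (B1 - C1) + 2 * (B4 - C4) - (B2 - C2) + (B3 - C3))
  have ha : a = 1 := by
    have := c (x ^ 2 - x * z + z ^ 2 - 1 + a) (by
      linear_combination (A1 - B1) + 2 * (A4 - B4) - (A2 - B2) + (A3 - B3))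
    linear_combination this - hN
  have hb : b = 0 := by
    have := c (b - (x ^ 2 - x * z + z ^ 2)) (by
      linear_combination -((A1 - B1) - (A4 - B4)) - 2 * ((A2 - B2) - (A3 - B3)))
    linear_combination this + hN
  subst ha hb
  refine ⟨x, z, by linear_combination A1 - hN, by linear_combination A3, by simp⟩

variable {k : ℕ}

theorem unit_or (x : ZMod (2 ^ k)) : IsUnit x ∨ ∃ y, x = 2 * y := by
  obtain ⟨n, rfl⟩ := ZMod.natCast_zmod_surjective x
  rcases Nat.even_or_odd n with ⟨m, rfl⟩ | h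
  · exact Or.inr ⟨m, by push_cast; ring⟩
  · exact Or.inl ((ZMod.isUnit_iff_coprime _ _).2 (Nat.Coprime.pow_right _ h.coprime_two_right))

theorem two_pow : (2 : ZMod (2 ^ k)) ^ k = 0 := by exact_mod_cast ZMod.natCast_self (2 ^ k)

theorem unit_odd (y : ZMod (2 ^ k)) : IsUnit (1 + 2 * y) :=
  IsNilpotent.isUnit_one_add ((Commute.all _ _).isNilpotent_mul_right ⟨k, two_pow⟩)

theorem tors (hk : 1 ≤ k) {x : ZMod (2 ^ k)} (h : 2 * x = 0) : x = 0 ∨ x = 2 ^ (k - 1) := by
  obtain ⟨n, rfl⟩ := ZMod.natCast_zmod_surjective x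
  obtain ⟨j, rfl⟩ := Nat.exists_eq_add_of_le' hk
  have : 2 ^ (j + 1) ∣ 2 * n := (ZMod.natCast_eq_zero_iff _ _).1 (by exact_mod_cast h)
  rw [pow_succ'] at this
  obtain ⟨m, rfl⟩ := Nat.dvd_of_mul_dvd_mul_left two_pos this
  have h2 := two_pow (k := j + 1)
  rcases Nat.even_or_odd' m with ⟨i, rfl | rfl⟩
  · left; push_cast; linear_combination (i : ZMod (2 ^ (j + 1))) * h2
  · right; push_cast
    linear_combination (i : ZMod (2 ^ (j + 1))) * h2

/-- the standard element of order three -/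
def W (R : Type*) [CommRing R] : GL (Fin 2) R :=
  ⟨!![0, -1; 1, -1], !![-1, 1; -1, 0], by simp [one_fin_two], by simp [one_fin_two]⟩

theorem conj_W (hk : 1 ≤ k) {w : GL (Fin 2) (ZMod (2 ^ k))} (h3 : w ^ 3 = 1) (h1 : w ≠ 1) :
    ∃ g : GL (Fin 2) (ZMod (2 ^ k)), g * w * g⁻¹ = W _ := by
  obtain ⟨a, b, c, d, hw⟩ : ∃ a b c d, (w : Matrix (Fin 2) (Fin 2) (ZMod (2 ^ k))) = !![a, b; c, d] :=
    ⟨_, _, _, _, eta_fin_two _⟩
  have h4 : (w : Matrix (Fin 2) (Fin 2) (ZMod (2 ^ k))) * w * w = 1 := by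
    have := congrArg Units.val h3
    simpa [pow_succ] using this
  have hdet : (a * d - b * c) ^ 3 = 1 := by
    have := congrArg det h4
    rw [det_mul, det_mul, det_one, hw, det_fin_two_of] at this
    linear_combination this
  rw [hw] at h4
  simp only [mul_fin_two, one_fin_two] at h4
  obtain ⟨A1, A2, A3, A4⟩ := m2 h4
  have hd : a * d - b * c = 1 := by
    set δ := a * d - b * c
    have hu : IsUnit (δ ^ 2 + δ + 1) := by
      rcases unit_or (δ + 1) with h | ⟨y, hy⟩
      · rcases unit_or δ with h' | ⟨y, hy⟩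
        · exfalso
          haveI : Fact (1 < 2 ^ k) := ⟨Nat.one_lt_two_pow (by omega)⟩
          let φ := ZMod.castHom (dvd_pow_self 2 (by omega : k ≠ 0)) (ZMod 2)
          have e1 := h.map φ
          have e2 := h'.map φ
          rw [map_add, map_one] at e1
          revert e1 e2
          generalize φ δ = u
          revert u
          decide
        · have := unit_odd (y * (δ + 1))
          rwa [show 1 + 2 * (y * (δ + 1)) = δ ^ 2 + δ + 1 by rw [hy]; ring] at this
      · have := unit_odd (y * δ)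
        rwa [show 1 + 2 * (y * δ) = δ ^ 2 + δ + 1 by linear_combination (-δ) * hy] at this
    have : (δ ^ 2 + δ + 1) * (δ - 1) = 0 := by linear_combination hdet
    linear_combination hu.mul_right_eq_zero.1 this
  rcases unit_or c with hc | ⟨y, hy⟩
  · have h5 : (a + d) ^ 2 - 1 = 0 := hc.mul_right_eq_zero.1 (by linear_combination A3 + c * hd)
    have h6 : a + d = -1 := by linear_combination -A1 + a * h5 - (2 * a + d) * hd
    have hu : IsUnit (det !![1, a; 0, c]) := by simpa [det_fin_two_of] using hc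
    let g := GeneralLinearGroup.mk'' !![1, a; 0, c] hu
    refine ⟨g⁻¹, ?_⟩
    rw [inv_inv, mul_assoc, inv_mul_eq_iff_eq_mul]
    apply Units.ext
    rw [Units.val_mul, Units.val_mul, hw]
    change _ * !![1, a; 0, c] = !![1, a; 0, c] * !![0, -1; 1, -1]
    simp only [mul_fin_two]
    exact m2' (by ring) (by linear_combination a * h6 - hd)
      (by ring) (by linear_combination c * h6)
  · exfalso
    have hu : IsUnit ((a + d) ^ 2 - 1) := by
      rcases unit_or (a + d) with h | ⟨u, hu⟩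
      · exfalso
        let φ := ZMod.castHom (dvd_pow_self 2 (by omega : k ≠ 0)) (ZMod 2)
        have e1 := h.map φ
        have e2 := congrArg φ hd
        rw [hy] at e2
        simp only [map_add, map_one, map_sub, map_mul, map_ofNat] at e1 e2
        revert e1 e2
        generalize φ a = u
        generalize φ b = u'
        generalize φ d = u''
        generalize φ y = u'''
        revert u u' u'' u'''
        decide
      · have := (unit_odd (-2 * u ^ 2)).neg
        rwa [show -(1 + 2 * (-2 * u ^ 2)) = (a + d) ^ 2 - 1 by rw [hu]; ring] at this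
    have hb : b = 0 := hu.mul_right_eq_zero.1 (by linear_combination A2 + b * hd)
    have hc : c = 0 := hu.mul_right_eq_zero.1 (by linear_combination A3 + c * hd)
    have had : a - d = 0 := hu.mul_right_eq_zero.1 (by linear_combination A1 - A4 + (a - d) * hd)
    have had' : d = a := by linear_combination -had
    subst had' hb hc
    have : d = 1 := by linear_combination A1 - d * hd
    subst this
    exact h1 (Units.ext (by rw [hw]; simp [one_fin_two]))

abbrev A4 := alternatingGroup (Fin 4)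

def x4 : A4 := ⟨Equiv.swap 0 1 * Equiv.swap 1 2, Equiv.Perm.mem_alternatingGroup.2 (by decide)⟩
def y4 : A4 := ⟨Equiv.swap 0 1 * Equiv.swap 2 3, Equiv.Perm.mem_alternatingGroup.2 (by decide)⟩

theorem a4_gen : closure ({x4, y4} : Set A4) = ⊤ := by
  have : ∀ g : A4, ∃ i j : Fin 3, g = x4 ^ i.1 ∨ g = x4 ^ i.1 * y4 * x4 ^ j.1 := by decide
  rw [eq_top_iff]
  intro g _
  have hx : x4 ∈ closure ({x4, y4} : Set A4) := subset_closure (by simp)
  have hy : y4 ∈ closure ({x4, y4} : Set A4) := subset_closure (by simp)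
  obtain ⟨i, j, rfl | rfl⟩ := this g
  · exact pow_mem hx _
  · exact mul_mem (mul_mem (pow_mem hx _) hy) (pow_mem hx _)

theorem a4_rel : x4 ^ 3 = 1 ∧ x4 ≠ 1 ∧ y4 ≠ 1 ∧ y4 * y4 = 1 ∧
    y4 * (x4 * y4 * x4⁻¹) = x4⁻¹ * y4 * x4 ∧ (x4 * y4 * x4⁻¹) * y4 = x4⁻¹ * y4 * x4 := by decide

theorem gens {G : Type*} [Group G] {H : Subgroup G} (e : H ≃* A4) : ∃ x y : G,
    closure {x, y} = H ∧ x ^ 3 = 1 ∧ x ≠ 1 ∧ y ≠ 1 ∧ y * y = 1 ∧
      y * (x * y * x⁻¹) = x⁻¹ * y * x ∧ (x * y * x⁻¹) * y = x⁻¹ * y * x := by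
  let f : A4 →* G := H.subtype.comp e.symm.toMonoidHom
  have hf : Function.Injective f := H.subtype_injective.comp e.symm.injective
  obtain ⟨h1, h2, h3, h4, h5, h6⟩ := a4_rel
  refine ⟨f x4, f y4, ?_, by rw [← map_pow, h1, map_one], (map_ne_one_iff f hf).2 h2,
    (map_ne_one_iff f hf).2 h3, by rw [← map_mul, h4, map_one], by simpa using congrArg f h5,
    by simpa using congrArg f h6⟩
  rw [← Set.image_pair, ← MonoidHom.map_closure, a4_gen, ← MonoidHom.range_eq_map,
    MonoidHom.range_comp, MonoidHom.range_eq_top.2 e.symm.surjective, ← MonoidHom.range_eq_map,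
    range_subtype]

theorem clos_conj {G : Type*} [Group G] {w t : G} : closure ({w, w * t * w⁻¹} : Set G) = closure {w, t} := by
  apply le_antisymm <;> rw [closure_le] <;> rintro _ (rfl | rfl)
  · exact subset_closure (by simp)
  · exact mul_mem (mul_mem (subset_closure (by simp)) (subset_closure (by simp)))
      (inv_mem (subset_closure (by simp)))
  · exact subset_closure (by simp)
  · rename_i t
    have : w⁻¹ * (w * t * w⁻¹) * w ∈ closure ({w, w * t * w⁻¹} : Set G) :=
      mul_mem (mul_mem (inv_mem (subset_closure (by simp))) (subset_closure (by simp)))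
        (subset_closure (by simp))
    simpa [mul_assoc] using this

theorem std (hk : 1 ≤ k) {H : Subgroup (GL (Fin 2) (ZMod (2 ^ k)))} (e : H ≃* A4) :
    ∃ g t : GL (Fin 2) (ZMod (2 ^ k)), H.map (MulAut.conj g).toMonoidHom = Subgroup.closure {W _, t} ∧
      (t : Matrix (Fin 2) (Fin 2) (ZMod (2 ^ k))) = !![1, 2 ^ (k - 1); 2 ^ (k - 1), 1] := by
  obtain ⟨x, y, rfl, h1, h2, h3, h4, h5, h6⟩ := gens e
  obtain ⟨g, hg⟩ := conj_W hk h1 h2
  set t := g * y * g⁻¹ with ht
  have hm : (Subgroup.closure {x, y}).map (MulAut.conj g).toMonoidHom = Subgroup.closure {W _, t} := by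
    rw [MonoidHom.map_closure, Set.image_pair, ← hg]; rfl
  have e4 : t * t = 1 := by
    calc t * t = g * (y * y) * g⁻¹ := by rw [ht]; group
      _ = 1 := by rw [h4]; simp
  have e5 : t * (W _ * t * (W _)⁻¹) = (W _)⁻¹ * t * W _ := by
    calc _ = g * (y * (x * y * x⁻¹)) * g⁻¹ := by rw [ht, ← hg]; group
      _ = _ := by rw [h5, ht, ← hg]; group
  have e6 : (W _ * t * (W _)⁻¹) * t = (W _)⁻¹ * t * W _ := by
    calc _ = g * ((x * y * x⁻¹) * y) * g⁻¹ := by rw [ht, ← hg]; group
      _ = _ := by rw [h6, ht, ← hg]; group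
  obtain ⟨u, v, hu, hv, h7⟩ := shape (by have := unit_odd (k := k) 1; norm_num at this; exact this) t.1
    (congrArg Units.val e4) (congrArg Units.val e5) (congrArg Units.val e6)
  have h2e : 2 * (2 : ZMod (2 ^ k)) ^ (k - 1) = 0 := by
    rw [← pow_succ', Nat.sub_add_cancel hk, two_pow]
  rcases tors hk hu with rfl | rfl <;> rcases tors hk hv with rfl | rfl
  · exfalso
    have : t = 1 := Units.ext (by rw [h7]; simp [one_fin_two])
    exact h3 (by rw [ht] at this; simpa using this)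
  · exact ⟨g, t, hm, by rw [h7]; simp⟩
  · refine ⟨g, W _ * (W _ * t * (W _)⁻¹) * (W _)⁻¹, by rw [hm, clos_conj, clos_conj], ?_⟩
    change !![0, -1; 1, -1] * (!![0, -1; 1, -1] * t.1 * !![-1, 1; -1, 0]) * !![-1, 1; -1, 0] = _
    rw [h7]
    simp only [mul_fin_two]
    exact m2' (by ring) (by ring)
      (by ring) (by ring)
  · refine ⟨g, W _ * t * (W _)⁻¹, by rw [hm, clos_conj], ?_⟩
    change !![0, -1; 1, -1] * t.1 * !![-1, 1; -1, 0] = _
    rw [h7]
    simp only [mul_fin_two]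
    exact m2' (by ring) (by linear_combination (-1) * h2e)
      (by linear_combination (-1) * h2e) (by ring)

theorem main (hk : 1 ≤ k) {H₁ H₂ : Subgroup (GL (Fin 2) (ZMod (2 ^ k)))} (e₁ : H₁ ≃* A4)
    (e₂ : H₂ ≃* A4) : ∃ g : GL (Fin 2) (ZMod (2 ^ k)), H₂ = H₁.map (MulAut.conj g).toMonoidHom := by
  obtain ⟨g₁, t₁, h1, h2⟩ := std hk e₁
  obtain ⟨g₂, t₂, h3, h4⟩ := std hk e₂
  have : t₂ = t₁ := Units.ext (h4.trans h2.symm)
  subst this
  refine ⟨g₂⁻¹ * g₁, ?_⟩
  have h5 := congrArg (Subgroup.map (MulAut.conj g₂⁻¹).toMonoidHom) (h3.trans h1.symm)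
  rw [Subgroup.map_map, Subgroup.map_map] at h5
  convert h5 using 2
  · conv_lhs => rw [← Subgroup.map_id H₂]
    congr 1
    ext1 x; simp [mul_assoc]
  · ext1 x; simp [mul_assoc]

end Cfsg.Agent.H22.A4Z
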