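import Cfsg.Agent.H7.WL1

/-! Products of two classes in `PSL_d`, `d ≥ 3`, via traces. -/

set_option autoImplicit false
set_option linter.style.haveILetI false

namespace Cfsg.Agent.H22.AH

open Matrix

variable {F : Type*} [Field F] {d : ℕ}

abbrev S (d : ℕ) (F : Type*) [Field F] := SpecialLinearGroup (Fin d) F

/-- underlying matrix -/
def mt (A : S d F) : Matrix (Fin d) (Fin d) F := A.1

theorem cm (A B : S d F) : mt (A * B) = mt A * mt B := rfl

theorem std (hd : 3 ≤ d) {A : S d F} (hA : A ∉ Subgroup.center (S d F)) {i j : Fin d} (hij : i ≠ j) :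
    ∃ g : S d F, ∀ k, mt (g * A * g⁻¹) k i = if k = j then 1 else 0 := by
  obtain ⟨v, hv⟩ : ∃ v, LinearIndependent F ![v, mt A *ᵥ v] := by
    by_contra h
    push Not at h
    obtain ⟨a, ha⟩ := (toLin' (mt A)).exists_eq_smul_id_of_forall_notLinearIndependent (by simpa using h)
    have : mt A = a • 1 := by
      apply toLin'.injective
      rw [ha, map_smul, toLin'_one]; rfl
    exact hA (Subgroup.mem_center_iff.2 fun B => Subtype.ext (by
      change mt B * mt A = mt A * mt B
      simp [this]))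
  have hw : LinearIndependent F ![(Pi.single i 1 : Fin d → F), Pi.single j 1] := by
    rw [LinearIndependent.pair_iff]
    intro s t h
    have h1 := congrFun h i
    have h2 := congrFun h j
    simp [hij, hij.symm] at h1 h2
    exact ⟨h1, h2⟩
  obtain ⟨g, hg⟩ := H7.WL.exists_sl hd hv hw
  have h0 : mt g *ᵥ v = Pi.single i 1 := hg 0
  have h1 : mt g *ᵥ (mt A *ᵥ v) = Pi.single j 1 := hg 1
  refine ⟨g, fun k => ?_⟩
  have h2 : mt (g * A * g⁻¹) *ᵥ Pi.single i 1 = Pi.single j 1 := by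
    rw [← h0, mulVec_mulVec, ← cm, inv_mul_cancel_right,
      cm, ← mulVec_mulVec, h1]
  have := congrFun h2 k
  simpa [Pi.single_apply] using this

/-- conjugates of `B` -/
def Cl (B : S d F) (X : Matrix (Fin d) (Fin d) F) : Prop := ∃ g : S d F, X = mt (g * B * g⁻¹)

theorem Cl.tv {B : S d F} {X : Matrix (Fin d) (Fin d) F} (h : Cl B X) {i j : Fin d} (hij : i ≠ j) (c : F) :
    Cl B ((1 + single i j c) * X * (1 - single i j c)) := by
  obtain ⟨g, rfl⟩ := h
  let t : F → S d F := fun c => ⟨transvection i j c, det_transvection_of_ne i j hij c⟩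
  have ht : (t c)⁻¹ = t (-c) := inv_eq_of_mul_eq_one_right (Subtype.ext (by
    change transvection i j c * transvection i j (-c) = 1
    simp [transvection_mul_transvection_same i j hij]))
  refine ⟨t c * g, ?_⟩
  rw [show t c * g * B * (t c * g)⁻¹ = t c * (g * B * g⁻¹) * (t c)⁻¹ by group, ht,
    cm _ (t (-c)), cm (t c)]
  simp [t, mt, transvection, sub_eq_add_neg, single_neg]

theorem both (hd : 3 ≤ d) {A B : S d F} (hA : A ∉ Subgroup.center (S d F))
    (hB : B ∉ Subgroup.center (S d F)) : ∃ g X Y, Cl B X ∧ Cl B Y ∧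
      trace (mt (g * A * g⁻¹) * X) = 0 ∧ trace (mt (g * A * g⁻¹) * Y) ≠ 0 := by
  let i0 : Fin d := ⟨0, by omega⟩
  let i1 : Fin d := ⟨1, by omega⟩
  let i2 : Fin d := ⟨2, by omega⟩
  have h01 : i0 ≠ i1 := by simp [i0, i1]
  have h02 : i0 ≠ i2 := by simp [i0, i2]
  have h21 : i2 ≠ i1 := by simp [i1, i2]
  obtain ⟨g, hg⟩ := std hd hA h01
  obtain ⟨g', hg'⟩ := std hd hB h01
  refine ⟨g, ?_⟩
  have a1 : mt (g * A * g⁻¹) i1 i0 = 1 := by simpa using hg i1
  have a2 : mt (g * A * g⁻¹) i2 i0 = 0 := by simpa [h21] using hg i2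
  have x1 : mt (g' * B * g'⁻¹) i1 i0 = 1 := by simpa using hg' i1
  have hX : Cl B (mt (g' * B * g'⁻¹)) := ⟨g', rfl⟩
  generalize mt (g * A * g⁻¹) = M at a1 a2 ⊢
  generalize mt (g' * B * g'⁻¹) = X at x1 hX
  let L : Matrix (Fin d) (Fin d) F → F := fun X =>
    trace (M * (single i0 i2 1 * X)) - trace (M * (X * single i0 i2 1))
  have key : ∀ X s, trace (M * ((1 + single i0 i2 s) * X * (1 - single i0 i2 s))) =
      trace (M * X) + s * L X := fun X s => by
    have e : single i0 i2 s = s • single i0 i2 (1 : F) := by simp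
    have e2 : trace (M * (single i0 i2 s * X * single i0 i2 s)) = 0 := by
      rw [single_mul_mul_single, trace_mul_single, a2]; simp
    have e3 : (1 + single i0 i2 s) * X * (1 - single i0 i2 s) = X + s • (single i0 i2 1 * X) -
        s • (X * single i0 i2 1) - single i0 i2 s * X * single i0 i2 s := by
      rw [← smul_mul_assoc, ← mul_smul_comm, ← e]; noncomm_ring
    rw [e3, mul_sub, mul_sub, mul_add, trace_sub, trace_sub, trace_add, e2, mul_smul_comm,
      mul_smul_comm, trace_smul, trace_smul]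
    simp only [L, smul_eq_mul]; ring
  by_contra hne
  have h0 : ∀ X, Cl B X → L X = 0 := fun X hX => by
    by_contra hL
    refine hne ⟨_, _, hX.tv h02 (-trace (M * X) / L X), hX.tv h02 ((1 - trace (M * X)) / L X), ?_, ?_⟩
    · rw [key]; field_simp; ring
    · rw [key, div_mul_cancel₀ _ hL]; simp
  have e1 := h0 _ hX
  have e2 := h0 _ (hX.tv h01 1)
  have e3 := h0 _ (hX.tv h21 1)
  have e4 := h0 _ ((hX.tv h01 1).tv h21 1)
  set N1 : Matrix (Fin d) (Fin d) F := single i0 i1 1 with hN1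
  set N2 : Matrix (Fin d) (Fin d) F := single i2 i1 1 with hN2
  have n12 : N1 * N2 = 0 := single_mul_single_of_ne _ _ _ _ h21.symm _
  have n21 : N2 * N1 = 0 := single_mul_single_of_ne _ _ _ _ h01.symm _
  have e5 : (1 + N2) * ((1 + N1) * X * (1 - N1)) * (1 - N2) = (1 + N1) * X * (1 - N1) +
      (1 + N2) * X * (1 - N2) - X - N1 * X * N2 - N2 * X * N1 := by
    have : (1 + N2) * ((1 + N1) * X * (1 - N1)) * (1 - N2) =
        (1 + N1 + N2 + N2 * N1) * X * (1 - N1 - N2 + N1 * N2) := by noncomm_ring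
    rw [this, n12, n21]; noncomm_ring
  have l1 : L (N1 * X * N2) = 0 := by
    simp only [L, hN1, hN2, single_mul_mul_single]
    rw [single_mul_single_of_ne _ _ _ _ h02.symm, single_mul_single_of_ne _ _ _ _ h01.symm]
    simp
  have l2 : L (N2 * X * N1) = 1 := by
    simp only [L, hN1, hN2, single_mul_mul_single]
    rw [single_mul_single_same, single_mul_single_of_ne _ _ _ _ h01.symm, trace_mul_single, a1, x1]
    simp
  have lin : ∀ P Q, L (P + Q) = L P + L Q ∧ L (P - Q) = L P - L Q := fun P Q => by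
    simp only [L, mul_add, add_mul, mul_sub, sub_mul, trace_add, trace_sub]
    constructor <;> ring
  rw [e5, (lin _ _).2, (lin _ _).2, (lin _ _).2, (lin _ _).1, e1, e2, e3, l1, l2] at e4
  simp at e4

theorem tr_of_conj {P Q : S d F} (h : IsConj (QuotientGroup.mk P : ProjectiveSpecialLinearGroup (Fin d) F)
    (QuotientGroup.mk Q)) (h0 : trace (mt P) = 0) : trace (mt Q) = 0 := by
  obtain ⟨c, hc⟩ := isConj_iff.1 h
  obtain ⟨c, rfl⟩ := QuotientGroup.mk_surjective c
  rw [← QuotientGroup.mk_mul, ← QuotientGroup.mk_inv, ← QuotientGroup.mk_mul, QuotientGroup.eq] at hc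
  obtain ⟨r, -, hr⟩ := Matrix.SpecialLinearGroup.mem_center_iff.1 hc
  change _ = mt _ at hr
  have : Q = c * P * c⁻¹ * ((c * P * c⁻¹)⁻¹ * Q) := by group
  rw [this, cm, ← hr, scalar_apply, ← smul_one_eq_diagonal, mul_smul_comm,
    mul_one, trace_smul, cm, trace_mul_comm, ← cm,
    inv_mul_cancel_left, h0, smul_zero]

theorem main (hd : 3 ≤ d) (a b : ProjectiveSpecialLinearGroup (Fin d) F) (ha : a ≠ 1) (hb : b ≠ 1) :
    ∃ g h : ProjectiveSpecialLinearGroup (Fin d) F, ¬ IsConj (a * b) (g * a * g⁻¹ * (h * b * h⁻¹)) := by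
  obtain ⟨A, rfl⟩ := QuotientGroup.mk_surjective a
  obtain ⟨B, rfl⟩ := QuotientGroup.mk_surjective b
  obtain ⟨g, _, _, ⟨x, rfl⟩, ⟨y, rfl⟩, h1, h2⟩ := both hd
    (fun h => ha ((QuotientGroup.eq_one_iff A).2 h)) (fun h => hb ((QuotientGroup.eq_one_iff B).2 h))
  by_contra h
  push Not at h
  exact h2 (tr_of_conj (P := g * A * g⁻¹ * (x * B * x⁻¹)) (Q := g * A * g⁻¹ * (y * B * y⁻¹))
    ((h (QuotientGroup.mk g) (QuotientGroup.mk x)).symm.trans
      (h (QuotientGroup.mk g) (QuotientGroup.mk y))) h1)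

end Cfsg.Agent.H22.AH
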