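import Cfsg.Agent.H12.Lin

/-! Central products of two groups `SL₂(q)`. -/

set_option autoImplicit false
set_option linter.style.haveILetI false

namespace Cfsg.Agent.H22.CP

open Subgroup Matrix
open scoped commutatorElement MatrixGroups

/-- `A / Z(A)` is indecomposable, in a strong sense. -/
def Ind (A : Type*) [Group A] : Prop :=
  ∀ X Y : Subgroup A, (∀ g, ∃ x ∈ X, ∃ y ∈ Y, g = x * y) → (∀ x ∈ X, ∀ y ∈ Y, ⁅x, y⁆ ∈ center A) →
    X ≤ center A ∨ Y ≤ center A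

theorem mem_center_equiv {A B : Type*} [Group A] [Group B] (e : A ≃* B) {x : A} :
    e x ∈ center B ↔ x ∈ center A := by
  rw [mem_center_iff, mem_center_iff, e.surjective.forall]
  simp only [← map_mul, e.injective.eq_iff]

theorem Ind.congr {A B : Type*} [Group A] [Group B] (h : Ind B) (e : A ≃* B) : Ind A := by
  intro X Y h1 h2
  have := h (X.map e.toMonoidHom) (Y.map e.toMonoidHom) (fun g => by
    obtain ⟨x, hx, y, hy, h3⟩ := h1 (e.symm g)
    exact ⟨e x, mem_map_of_mem _ hx, e y, mem_map_of_mem _ hy, by rw [← map_mul, ← h3]; simp⟩) (by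
    rintro _ ⟨x, hx, rfl⟩ _ ⟨y, hy, rfl⟩
    rw [← map_commutatorElement]
    exact (mem_center_equiv e).2 (h2 x hx y hy))
  exact this.imp (fun a x hx => (mem_center_equiv e).1 (a (mem_map_of_mem _ hx)))
    (fun a x hx => (mem_center_equiv e).1 (a (mem_map_of_mem _ hx)))

section SL
variable {F : Type*} [Field F]

theorem comm_entries {g u : SL(2, F)} (h : ⁅g, u⁆ ∈ center SL(2, F)) :
    ∃ r : F, (r = 1 ∨ r = -1) ∧ ∀ i k, (g.1 * u.1) i k = r * (u.1 * g.1) i k := by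
  obtain ⟨r, h1, h2⟩ := Matrix.SpecialLinearGroup.mem_center_iff.1 h
  refine ⟨r, mul_self_eq_one_iff.1 (by simpa [pow_two] using h1), fun i k => ?_⟩
  have h3 : g * u = ⁅g, u⁆ * (u * g) := by group
  have h4 := congrArg Subtype.val h3
  simp only [Matrix.SpecialLinearGroup.coe_mul] at h4
  rw [h4, ← h2]
  simp

theorem up_of (h2 : (2 : F) ≠ 0) {g u : SL(2, F)} (h : ⁅g, u⁆ ∈ center SL(2, F)) (a : u.1 1 0 = 0)
    (b : u.1 0 0 = u.1 1 1) (c : u.1 0 1 ≠ 0) : g.1 1 0 = 0 ∧ g.1 0 0 = g.1 1 1 := by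
  obtain ⟨r, hr, e⟩ := comm_entries h
  have du := u.2
  have dg := g.2
  rw [det_fin_two] at du dg
  have e00 := e 0 0
  have e01 := e 0 1
  have e10 := e 1 0
  simp only [mul_apply, Fin.sum_univ_two, a, b] at e00 e01 e10 du
  have hu : u.1 1 1 ≠ 0 := fun h0 => by simp [h0] at du
  rcases hr with rfl | rfl
  · exact ⟨mul_left_cancel₀ c (by linear_combination -e00),
      mul_left_cancel₀ c (by linear_combination e01)⟩
  · have h3 : g.1 1 0 = 0 := mul_left_cancel₀ (mul_ne_zero h2 hu) (by linear_combination e10)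
    have h4 : g.1 0 0 = 0 := mul_left_cancel₀ (mul_ne_zero h2 hu) (by
      linear_combination e00 - u.1 0 1 * h3)
    simp [h3, h4] at dg

theorem lo_of (h2 : (2 : F) ≠ 0) {g u : SL(2, F)} (h : ⁅g, u⁆ ∈ center SL(2, F)) (a : u.1 0 1 = 0)
    (b : u.1 0 0 = u.1 1 1) (c : u.1 1 0 ≠ 0) : g.1 0 1 = 0 := by
  obtain ⟨r, hr, e⟩ := comm_entries h
  have du := u.2
  have dg := g.2
  rw [det_fin_two] at du dg
  have e00 := e 0 0
  have e01 := e 0 1
  simp only [mul_apply, Fin.sum_univ_two, a, b] at e00 e01 du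
  have hu : u.1 1 1 ≠ 0 := fun h0 => by simp [h0] at du
  rcases hr with rfl | rfl
  · exact mul_left_cancel₀ c (by linear_combination e00)
  · exact mul_left_cancel₀ (mul_ne_zero h2 hu) (by linear_combination e01)

theorem lo_of' (h2 : (2 : F) ≠ 0) {g u : SL(2, F)} (h : ⁅g, u⁆ ∈ center SL(2, F)) (a : u.1 0 1 = 0)
    (b : u.1 0 0 = u.1 1 1) (c : u.1 1 0 ≠ 0) : g.1 0 0 = g.1 1 1 := by
  have h0 := lo_of h2 h a b c
  obtain ⟨r, hr, e⟩ := comm_entries h
  have du := u.2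
  have dg := g.2
  rw [det_fin_two] at du dg
  have e00 := e 0 0
  have e10 := e 1 0
  simp only [mul_apply, Fin.sum_univ_two, a, b, h0] at e00 e10 du dg
  have hu : u.1 1 1 ≠ 0 := fun h0 => by simp [h0] at du
  rcases hr with rfl | rfl
  · exact mul_left_cancel₀ c (by linear_combination -e10)
  · have h4 : g.1 0 0 = 0 := mul_left_cancel₀ (mul_ne_zero h2 hu) (by linear_combination e00)
    simp [h4] at dg

theorem center_of {g : SL(2, F)} (a : g.1 1 0 = 0) (b : g.1 0 1 = 0) (c : g.1 0 0 = g.1 1 1) :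
    g ∈ center SL(2, F) := by
  refine mem_center_iff.2 fun h => Subtype.ext ?_
  ext i k
  fin_cases i <;> fin_cases k <;> simp [mul_apply, Fin.sum_univ_two, a, b, c, mul_comm]

theorem comm_symm {A : Type*} [Group A] {x y : A} (h : ⁅x, y⁆ ∈ center A) : ⁅y, x⁆ ∈ center A := by
  rw [← commutatorElement_inv]; exact inv_mem h

theorem ind_aux (h2 : (2 : F) ≠ 0) {X Y : Subgroup SL(2, F)} (h1 : ∀ g, ∃ x ∈ X, ∃ y ∈ Y, g = x * y)
    (h3 : ∀ x ∈ X, ∀ y ∈ Y, ⁅x, y⁆ ∈ center SL(2, F)) {x : SL(2, F)} (hx : x ∈ X) (a : x.1 1 0 = 0)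
    (b : x.1 0 0 = x.1 1 1) (c : x ∉ center SL(2, F)) : Y ≤ center SL(2, F) := by
  have hY := fun y hy => up_of h2 (comm_symm (h3 x hx y hy)) a b fun e => c (center_of a e b)
  let t : SL(2, F) := ⟨!![1, 0; 1, 1], by simp [det_fin_two]⟩
  obtain ⟨x', hx', y', hy', e⟩ := h1 t
  have k1 : ⁅x', t⁆ ∈ center SL(2, F) := by
    have : ⁅x', t⁆ = x' * ⁅x', y'⁆ * x'⁻¹ := by rw [e]; group
    rw [this]; exact (inferInstance : (center SL(2, F)).Normal).conj_mem _ (h3 x' hx' y' hy') _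
  have k2 : ⁅y', t⁆ ∈ center SL(2, F) := by
    have : ⁅y', t⁆ = ⁅y', x'⁆ := by rw [e]; group
    rw [this]; exact comm_symm (h3 x' hx' y' hy')
  have k3 : y' ∈ center SL(2, F) :=
    center_of (hY y' hy').1 (lo_of h2 k2 (by simp [t]) (by simp [t]) (by simp [t])) (hY y' hy').2
  have k4 := lo_of h2 k1 (by simp [t]) (by simp [t]) (by simp [t])
  have k5 := lo_of' h2 k1 (by simp [t]) (by simp [t]) (by simp [t])
  have k6 : x'.1 1 0 ≠ 0 := fun h0 => by
    have h4 := congrArg (fun g : SL(2, F) => g.1 1 0) e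
    simp [t, mul_apply, Fin.sum_univ_two, h0, (hY y' hy').1] at h4
  exact fun y hy => center_of (hY y hy).1 (lo_of h2 (comm_symm (h3 x' hx' y hy)) k4 k5 k6) (hY y hy).2

theorem ind_SL (h2 : (2 : F) ≠ 0) : Ind SL(2, F) := by
  intro X Y h1 h3
  let t : SL(2, F) := ⟨!![1, 1; 0, 1], by simp [det_fin_two]⟩
  obtain ⟨x, hx, y, hy, e⟩ := h1 t
  have k1 : ⁅x, t⁆ ∈ center SL(2, F) := by
    have : ⁅x, t⁆ = x * ⁅x, y⁆ * x⁻¹ := by rw [e]; group
    rw [this]; exact (inferInstance : (center SL(2, F)).Normal).conj_mem _ (h3 x hx y hy) _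
  have k2 : ⁅y, t⁆ ∈ center SL(2, F) := by
    have : ⁅y, t⁆ = ⁅y, x⁆ := by rw [e]; group
    rw [this]; exact comm_symm (h3 x hx y hy)
  obtain ⟨a1, a2⟩ := up_of h2 k1 (by simp [t]) (by simp [t]) (by simp [t])
  obtain ⟨b1, b2⟩ := up_of h2 k2 (by simp [t]) (by simp [t]) (by simp [t])
  by_cases hc : x ∈ center SL(2, F)
  · left
    refine ind_aux h2 (X := Y) (fun g => ?_) (fun a ha b hb => comm_symm (h3 b hb a ha)) hy b1 b2
      fun hc' => ?_
    · obtain ⟨a, ha, b, hb, e'⟩ := h1 g⁻¹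
      exact ⟨b⁻¹, inv_mem hb, a⁻¹, inv_mem ha, by rw [← _root_.mul_inv_rev, ← e', inv_inv]⟩
    · obtain ⟨r, -, h4⟩ := Matrix.SpecialLinearGroup.mem_center_iff.1 (e ▸ mul_mem hc hc')
      have := congrFun (congrFun h4 0) 1
      simp [t] at this
  · exact Or.inr (ind_aux h2 h1 h3 hx a1 a2 hc)

end SL

variable {G : Type*} [Group G]

theorem dec {A B : Subgroup G} (hc : ∀ x ∈ A, ∀ y ∈ B, x * y = y * x) {g : G} (hg : g ∈ A ⊔ B) :
    ∃ a ∈ A, ∃ b ∈ B, g = a * b := by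
  have h : A ≤ normalizer (B : Set G) :=
    (le_centralizer_iff.1 fun y hy x hx => hc x hx y hy).trans (centralizer_le_normalizer _)
  have h2 : g ∈ ((A ⊔ B : Subgroup G) : Set G) := hg
  rw [coe_mul_of_left_le_normalizer_right A B h] at h2
  obtain ⟨a, ha, b, hb, e⟩ := h2
  exact ⟨a, ha, b, hb, e.symm⟩

/-- Projection of `C` to the first factor. -/
def pj (A B C : Subgroup G) (hc : ∀ x ∈ A, ∀ y ∈ B, x * y = y * x) : Subgroup A where
  carrier := {a | ∃ b ∈ B, (a : G) * b ∈ C}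
  mul_mem' := by
    rintro a a' ⟨b, hb, h⟩ ⟨b', hb', h'⟩
    refine ⟨b * b', mul_mem hb hb', ?_⟩
    have : ((a * a' : A) : G) * (b * b') = a * b * (a' * b') := by
      rw [coe_mul, mul_assoc, mul_assoc, ← mul_assoc (a' : G), hc a' a'.2 b hb, mul_assoc]
    rw [this]; exact mul_mem h h'
  one_mem' := ⟨1, one_mem _, by simp⟩
  inv_mem' := by
    rintro a ⟨b, hb, h⟩
    refine ⟨b⁻¹, inv_mem hb, ?_⟩
    rw [hc _ a⁻¹.2 _ (inv_mem hb)]
    simpa using inv_mem h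

theorem split {A B C D : Subgroup G} (hc : ∀ x ∈ A, ∀ y ∈ B, x * y = y * x)
    (hc' : ∀ x ∈ C, ∀ y ∈ D, x * y = y * x) (h : C ⊔ D = A ⊔ B) (hi : Ind A)
    (hz : ∀ a ∈ center A, (a : G) ∈ B) : C ≤ B ∨ D ≤ B := by
  have key : ∀ E ≤ A ⊔ B, pj A B E hc ≤ center A → E ≤ B := by
    intro E hE h1 g hg
    obtain ⟨a, ha, b, hb, rfl⟩ := dec hc (hE hg)
    exact mul_mem (hz ⟨a, ha⟩ (h1 ⟨b, hb, hg⟩)) hb
  refine (hi (pj A B C hc) (pj A B D hc) (fun a => ?_) ?_).imp (key C (le_sup_left.trans h.le))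
    (key D (le_sup_right.trans h.le))
  · obtain ⟨c, h1, d, h2, e⟩ := dec hc' (h.ge (mem_sup_left a.2))
    obtain ⟨a1, ha1, b1, hb1, rfl⟩ := dec hc (h.le (mem_sup_left h1))
    obtain ⟨a2, ha2, b2, hb2, rfl⟩ := dec hc (h.le (mem_sup_right h2))
    have e1 : (a : G) * a2⁻¹ = a1 * (b1 * b2) := by
      rw [e, hc a2 ha2 b2 hb2]; group
    refine ⟨a * (⟨a2, ha2⟩ : A)⁻¹, ⟨b2⁻¹, inv_mem hb2, ?_⟩, ⟨a2, ha2⟩, ⟨b2, hb2, h2⟩, by simp⟩
    simp only [coe_mul, InvMemClass.coe_inv, e1]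
    simpa [mul_assoc] using h1
  · rintro a1 ⟨b1, hb1, h1⟩ a2 ⟨b2, hb2, h2⟩
    have e := hc' _ h1 _ h2
    have e1 : ((⁅a1, a2⁆ : A) : G) = ⁅b2⁻¹, b1⁻¹⁆ := by
      have k1 : (a1 : G) * a2 * (b1 * b2) = a2 * a1 * (b2 * b1) := by
        calc _ = (a1 : G) * (a2 * b1) * b2 := by group
          _ = a1 * b1 * (a2 * b2) := by rw [hc _ a2.2 _ hb1]; group
          _ = a2 * (b2 * a1) * b1 := by rw [e]; group
          _ = _ := by rw [← hc _ a1.2 _ hb2]; group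
      have k2 := hc _ (mul_mem a1.2 a2.2) _ (mul_mem hb1 hb2)
      have k3 := hc _ (mul_mem a2.2 a1.2) _ (mul_mem hb2 hb1)
      calc _ = (b1 * b2)⁻¹ * ((b1 * b2) * (a1 * a2)) * ((a2 : G) * a1)⁻¹ := by
            simp only [commutatorElement_def, coe_mul, InvMemClass.coe_inv]; group
        _ = _ := by rw [← k2, k1, k3]; group
    refine mem_center_iff.2 fun g => Subtype.ext ?_
    rw [coe_mul, coe_mul, e1]
    exact hc _ g.2 _ (mul_mem (mul_mem (mul_mem (inv_mem hb2) (inv_mem hb1)) (inv_mem (inv_mem hb2)))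
      (inv_mem (inv_mem hb1)))

theorem two_ne {F : Type*} [Field F] [Fintype F] (h : Odd (Fintype.card F)) : (2 : F) ≠ 0 := by
  intro h0
  have := FiniteField.even_card_iff_char_two.1
    (CharP.ringChar_of_prime_eq_zero Nat.prime_two (by exact_mod_cast h0))
  rw [Nat.odd_iff] at h
  omega

theorem cen [Finite G] {F : Type*} [Field F] [Fintype F] (hF : Odd (Fintype.card F)) {A B : Subgroup G}
    (e : A ≃* SL(2, F)) (hc : ∀ x ∈ A, ∀ y ∈ B, x * y = y * x) (h2 : Nat.card (A ⊓ B : Subgroup G) = 2) :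
    (∀ a ∈ center A, (a : G) ∈ B) ∧ Nat.card A = Fintype.card F * (Fintype.card F ^ 2 - 1) ∧
      2 < Nat.card A := by
  have h1 : Nat.card A = Fintype.card F * (Fintype.card F ^ 2 - 1) := by
    rw [Nat.card_congr e.toEquiv, H12.card_SL2 rfl]
  refine ⟨?_, h1, ?_⟩
  · have h3 : Nat.card (center A) = 2 := by
      rw [Nat.card_congr (centerCongr e).toEquiv, H12.card_center_SL, Fintype.card_fin,
        Nat.card_eq_fintype_card]
      obtain ⟨k, hk⟩ := hF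
      rw [hk]; simp
    have h4 : (A ⊓ B).subgroupOf A = center A := eq_of_le_of_card_ge
      (fun x hx => mem_center_iff.2 fun g => Subtype.ext (hc g g.2 x hx.2))
      (by rw [h3, Nat.card_congr (subgroupOfEquivOfLe inf_le_left).toEquiv, h2])
    exact fun a ha => (h4.ge ha).2
  · have h3 : 1 < Fintype.card F := Fintype.one_lt_card
    have h4 : 2 ^ 2 ≤ Fintype.card F ^ 2 := Nat.pow_le_pow_left h3 2
    rw [h1]
    exact lt_of_lt_of_le (by omega : 2 < Fintype.card F ^ 2 - 1) (Nat.le_mul_of_pos_left _ (by omega))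

theorem main [Finite G] {F₁ : Type*} [Field F₁] [Fintype F₁] {F₂ : Type*} [Field F₂] [Fintype F₂]
    (hF₁ : Odd (Fintype.card F₁)) (hF₂ : Odd (Fintype.card F₂)) (L₁ L₂ : Subgroup G)
    (e₁ : L₁ ≃* SL(2, F₁)) (e₂ : L₂ ≃* SL(2, F₂))
    (hc : ∀ x ∈ L₁, ∀ y ∈ L₂, x * y = y * x) (j : G) (hj : orderOf j = 2) (hm : L₁ ⊓ L₂ = zpowers j)
    (hle : L₁ ⊔ L₂ ≤ centralizer ({j} : Set G)) (hi : (L₁ ⊔ L₂).relIndex (centralizer ({j} : Set G)) = 2)
    (n : G) (hn : n ∈ centralizer ({j} : Set G)) (hn' : n ∉ L₁ ⊔ L₂) :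
    (L₁.map (MulAut.conj n).toMonoidHom = L₁ ∧ L₂.map (MulAut.conj n).toMonoidHom = L₂) ∨
      (L₁.map (MulAut.conj n).toMonoidHom = L₂ ∧ Fintype.card F₁ = Fintype.card F₂ ∧
        ∃ n' ∈ centralizer ({j} : Set G), n' ∉ L₁ ⊔ L₂ ∧ L₁.map (MulAut.conj n').toMonoidHom = L₂ ∧
          n' ^ 2 ∈ zpowers j) := by
  have t1 : (2 : F₁) ≠ 0 := two_ne hF₁
  have t2 : (2 : F₂) ≠ 0 := two_ne hF₂
  have hc' : ∀ x ∈ L₂, ∀ y ∈ L₁, x * y = y * x := fun x hx y hy => (hc y hy x hx).symm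
  have hj2 : Nat.card (zpowers j) = 2 := by rw [Nat.card_zpowers, hj]
  obtain ⟨z1, c1, d1⟩ := cen hF₁ e₁ hc (hm ▸ hj2)
  obtain ⟨z2, c2, d2⟩ := cen hF₂ e₂ hc' (by rw [inf_comm, hm, hj2])
  have hnorm : ∀ g ∈ L₁ ⊔ L₂, n * g * n⁻¹ ∈ L₁ ⊔ L₂ := by
    intro g hg
    haveI := normal_of_index_eq_two hi
    exact (this.conj_mem ⟨g, hle hg⟩ hg ⟨n, hn⟩)
  set φ := (MulAut.conj n).toMonoidHom with hφ
  have hφi : Function.Injective φ := (MulAut.conj n).injective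
  have hsup : L₁.map φ ⊔ L₂.map φ = L₁ ⊔ L₂ := by
    rw [← Subgroup.map_sup]
    refine eq_of_le_of_card_ge ?_ (by rw [card_map_of_injective hφi])
    rintro _ ⟨g, hg, rfl⟩
    exact hnorm g hg
  have hcc : ∀ x ∈ L₁.map φ, ∀ y ∈ L₂.map φ, x * y = y * x := by
    rintro _ ⟨x, hx, rfl⟩ _ ⟨y, hy, rfl⟩
    rw [← map_mul, hc x hx y hy, map_mul]
  have k1 : Nat.card (L₁.map φ) = Nat.card L₁ := card_map_of_injective hφi
  have k2 : Nat.card (L₂.map φ) = Nat.card L₂ := card_map_of_injective hφi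
  have hsm : ∀ E : Subgroup G, E ≤ L₁ → E ≤ L₂ → Nat.card E ≤ 2 := fun E a b =>
    hj2 ▸ hm ▸ card_le_of_le (le_inf a b)
  rcases split hc hcc hsup ((ind_SL t1).congr e₁) z1 with a | a <;>
    rcases split hc' hcc (hsup.trans (sup_comm _ _)) ((ind_SL t2).congr e₂) z2 with b | b
  · have := hsm _ b a; omega
  · right
    have h1 := card_le_of_le a
    have h2 := card_le_of_le b
    have h3 : L₁.map φ = L₂ := eq_of_le_of_card_ge a (by omega)
    refine ⟨h3, ?_, ?_⟩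
    · have h4 : Nat.card L₁ = Nat.card L₂ := by omega
      rw [c1, c2] at h4
      have key : ∀ x y : ℕ, x < y → 1 < y → x * (x ^ 2 - 1) < y * (y ^ 2 - 1) := by
        intro x y h h'
        refine Nat.mul_lt_mul_of_lt_of_le h (Nat.sub_le_sub_right (Nat.pow_le_pow_left h.le 2) 1) ?_
        have : 1 < y ^ 2 := Nat.one_lt_pow (by norm_num) h'
        omega
      rcases lt_trichotomy (Fintype.card F₁) (Fintype.card F₂) with h | h | h
      · exact absurd h4 (key _ _ h Fintype.one_lt_card).ne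
      · exact h
      · exact absurd h4 (key _ _ h Fintype.one_lt_card).ne'
    · have h4 : n * n ∈ L₁ ⊔ L₂ := mul_self_mem_of_index_two hi ⟨n, hn⟩
      obtain ⟨x, hx, y, hy, e⟩ := dec hc h4
      have hxn : n * x * n⁻¹ ∈ L₂ := a (mem_map_of_mem φ hx)
      have hyn : n * y * n⁻¹ ∈ L₁ := b (mem_map_of_mem φ hy)
      refine ⟨x⁻¹ * n, mul_mem (inv_mem (hle (mem_sup_left hx))) hn, fun h => hn' ?_, ?_, ?_⟩
      · simpa using mul_mem (mem_sup_left hx) h
      · refine eq_of_le_of_card_ge ?_ (by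
          rw [card_map_of_injective (MulAut.conj (x⁻¹ * n)).injective]; omega)
        rintro _ ⟨g, hg, rfl⟩
        have h5 : n * g * n⁻¹ ∈ L₂ := a (mem_map_of_mem φ hg)
        have h6 : x⁻¹ * n * g * (x⁻¹ * n)⁻¹ = n * g * n⁻¹ := by
          calc _ = x⁻¹ * ((n * g * n⁻¹) * x) := by group
            _ = _ := by rw [← hc x hx _ h5]; group
        change x⁻¹ * n * g * (x⁻¹ * n)⁻¹ ∈ L₂
        rwa [h6]
      · have h5 : (x⁻¹ * n) ^ 2 = (n * x * n⁻¹)⁻¹ * y := by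
          calc _ = x⁻¹ * (n * x * n⁻¹)⁻¹ * (n * n) := by rw [pow_two]; group
            _ = (x⁻¹ * (n * x * n⁻¹)⁻¹ * x) * y := by rw [e]; group
            _ = _ := by rw [hc _ (inv_mem hx) _ (inv_mem hxn)]; group
        have h6 : (n * x * n⁻¹)⁻¹ * y = (n * y * n⁻¹) * x⁻¹ := by
          have h7 : n * x * n⁻¹ * (n * y * n⁻¹) = y * x := by
            calc _ = n * (x * y) * n⁻¹ := by group
              _ = _ := by rw [← hc x hx y hy, ← e]; group
          rw [inv_mul_eq_iff_eq_mul, ← mul_assoc, h7]; group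
        rw [← hm, h5]
        exact mem_inf.2 ⟨h6 ▸ L₁.mul_mem hyn (L₁.inv_mem hx), L₂.mul_mem (L₂.inv_mem hxn) hy⟩
  · exact Or.inl ⟨eq_of_le_of_card_ge b k1.ge, eq_of_le_of_card_ge a k2.ge⟩
  · have := hsm _ b a; omega

end Cfsg.Agent.H22.CP
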