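import Cfsg.Agent.H22.Nat1
import Cfsg.Agent.H27.GL2d

/-! Elements of order three acting quadratically: the standard involution. -/

set_option autoImplicit false
set_option linter.style.haveILetI false

namespace Cfsg.Agent.H22.Hg

open Matrix Cfsg.Agent.H12 Subgroup
open scoped MatrixGroups

section ring
variable {R : Type*} [Ring R] {a b : R}

theorem t_comm (ha : a * a + a + 1 = 0) (b : R) : Commute (a + b + a * b + b * a) a := by
  have e : a * a = -a - 1 := by rw [← sub_eq_zero, ← ha]; abel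
  have e1 : ∀ r, a * (a * r) = -(a * r) - r := fun r => by rw [← mul_assoc, e]; noncomm_ring
  change _ * _ = _ * _
  simp only [add_mul, mul_add, mul_assoc, e1, e]
  noncomm_ring

theorem central_trace {G : Type*} [Group G] (ρ : G →* R) {x y : G} (hxy : closure {x, y} = ⊤)
    (x3 : x ^ 3 = 1) (y3 : y ^ 3 = 1)
    (ha : ρ x * ρ x + ρ x + 1 = 0) (hb : ρ y * ρ y + ρ y + 1 = 0) (g h : G) :
    Commute (ρ g + ρ g⁻¹) (ρ h) := by
  have ind : ∀ {P : G → Prop}, P 1 → (∀ g, P g → P (g * x)) → (∀ g, P g → P (g * y)) → ∀ g, P g := by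
    intro P h1 h2 h3 g
    have i1 : x⁻¹ = x * x := by rw [inv_eq_iff_mul_eq_one, ← x3, pow_three]
    have i2 : y⁻¹ = y * y := by rw [inv_eq_iff_mul_eq_one, ← y3, pow_three]
    refine closure_induction_right (s := {x, y}) (p := fun g _ => P g) h1 ?_ ?_ (hxy.ge (mem_top g))
    · rintro g _ z (rfl | rfl) hg
      exacts [h2 _ hg, h3 _ hg]
    · rintro g _ z (rfl | rfl) hg
      · rw [i1, ← mul_assoc]; exact h2 _ (h2 _ hg)
      · rw [i2, ← mul_assoc]; exact h3 _ (h3 _ hg)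
  have cz : ∀ {z : R}, Commute z (ρ x) → Commute z (ρ y) → ∀ h, Commute z (ρ h) := fun h1 h2 =>
    ind (by simp) (fun g hg => by rw [map_mul]; exact hg.mul_right h1)
      fun g hg => by rw [map_mul]; exact hg.mul_right h2
  have inv : ∀ {z : G}, ρ z * ρ z + ρ z + 1 = 0 → ρ z⁻¹ = -1 - ρ z := fun {z} hz => by
    have : ρ z⁻¹ * (ρ z * ρ z + ρ z + 1) = 0 := by rw [hz, mul_zero]
    rw [mul_add, mul_add, ← mul_assoc, ← map_mul, inv_mul_cancel, map_one, one_mul, mul_one] at this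
    rw [← sub_eq_zero, ← this]; abel
  set a := ρ x with hxa
  set b := ρ y with hyb
  set t := a + b + a * b + b * a with ht
  have ct : ∀ h, Commute t (ρ h) := cz (t_comm ha b) (by
    have := t_comm hb a
    convert this using 1; rw [ht]; abel)
  let Z : Subring R := Subring.centralizer (Set.range ρ)
  have mZ : ∀ {z}, z ∈ Z ↔ ∀ h, Commute z (ρ h) := by
    intro z
    simp only [Z, Subring.mem_centralizer_iff, Set.forall_mem_range]
    exact forall_congr' fun h => eq_comm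
  have tZ : t ∈ Z := mZ.2 ct
  have ea : a * a = -a - 1 := by rw [← sub_eq_zero, ← ha]; abel
  have eb : b * b = -b - 1 := by rw [← sub_eq_zero, ← hb]; abel
  have eba : b * a = t - a - b - a * b := by rw [ht]; abel
  have e1 : ∀ r, a * (a * r) = -(a * r) - r := fun r => by rw [← mul_assoc, ea]; noncomm_ring
  have e2 : ∀ r, b * (b * r) = -(b * r) - r := fun r => by rw [← mul_assoc, eb]; noncomm_ring
  let T : G → R := fun g => ρ g + ρ g⁻¹
  have ix := inv ha
  have iy := inv hb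
  have sx : ∀ g k, T (g * x * x * k) = -T (g * x * k) - T (g * k) := fun g k => by
    simp only [T, _root_.mul_inv_rev, map_mul, ix, ← hxa, mul_assoc, e1, sub_mul, mul_sub, neg_mul,
      one_mul, mul_neg]
    abel
  have sy : ∀ g, T (g * y * y) = -T (g * y) - T g := fun g => by
    simp only [T, _root_.mul_inv_rev, map_mul, iy, ← hyb, mul_assoc, e2, eb, sub_mul, mul_sub, neg_mul,
      one_mul, mul_neg, mul_one]
    abel
  have syx : ∀ g k, T (g * y * x * k) = t * T (g * k) - T (g * x * k) - T (g * y * k) - T (g * x * y * k) :=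
    fun g k => by
    have c1 : t * (ρ g * ρ k) = ρ g * (t * ρ k) := by rw [← mul_assoc, (ct g).eq, mul_assoc]
    have c2 : t * (ρ k⁻¹ * ρ g⁻¹) = ρ k⁻¹ * (t * ρ g⁻¹) := by rw [← mul_assoc, (ct _).eq, mul_assoc]
    simp only [T, _root_.mul_inv_rev, map_mul, ix, iy, ← hxa, ← hyb, mul_add, c1, c2]
    rw [ht]
    noncomm_ring
  have key : ∀ g, T g ∈ Z ∧ T (g * x) ∈ Z ∧ T (g * y) ∈ Z ∧ T (g * x * y) ∈ Z := by
    refine ind ⟨?_, ?_, ?_, ?_⟩ ?_ ?_
    · simpa [T] using Z.add_mem Z.one_mem Z.one_mem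
    · simp [T, ix, ← hxa]
    · simp [T, iy, ← hyb]
    · have : T (1 * x * y) = 1 + t := by
        simp only [T, _root_.mul_inv_rev, map_mul, ix, iy, ← hxa, ← hyb, one_mul]
        rw [ht]; noncomm_ring
      rw [this]; exact Z.add_mem Z.one_mem tZ
    · rintro g ⟨h1, h2, h3, h4⟩
      refine ⟨h2, ?_, h4, ?_⟩
      · have := sx g 1
        simp only [mul_one] at this
        rw [this]; exact Z.sub_mem (Z.neg_mem h2) h1
      · rw [sx]; exact Z.sub_mem (Z.neg_mem h4) h3
    · rintro g ⟨h1, h2, h3, h4⟩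
      have h5 := sy g
      refine ⟨h3, ?_, h5 ▸ Z.sub_mem (Z.neg_mem h3) h1, ?_⟩
      · have := syx g 1
        simp only [mul_one] at this
        rw [this]; exact Z.sub_mem (Z.sub_mem (Z.sub_mem (Z.mul_mem tZ h1) h2) h3) h4
      · rw [syx, sy, sy]
        exact Z.sub_mem (Z.sub_mem (Z.sub_mem (Z.mul_mem tZ h3) h4) (Z.sub_mem (Z.neg_mem h3) h1))
          (Z.sub_mem (Z.neg_mem h4) h2)
  exact mZ.1 (key g).1 h

theorem add_pow_two_pow (h2 : (2 : R) = 0) (h : Commute a b) (k : ℕ) :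
    (a + b) ^ 2 ^ k = a ^ 2 ^ k + b ^ 2 ^ k := by
  induction k with
  | zero => simp
  | succ k ih =>
    rw [pow_succ, pow_mul, pow_mul, pow_mul, ih, (h.pow_pow _ _).add_sq, h2]
    simp

end ring

variable {F : Type*} [Field F]

/-- diagonal elements -/
def dg (c : F) (hc : c ≠ 0) : SL(2, F) := mkSL2 c 0 0 c⁻¹ (by simp [hc])

theorem top_of_w (h2 : (2 : F) = 0) [Finite F] {H : Subgroup SL(2, F)} (hD : ∀ c hc, dg c hc ∈ H)
    {μ : F} (μ0 : μ ≠ 0) (μ1 : μ ≠ 1) {s r δ : F} (dt : 0 * δ - s * r = 1)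
    (hw : mkSL2 0 s r δ dt ∈ H) (w1 : δ ≠ 0) : H = ⊤ := by
  haveI : CharP F 2 := CharTwo.of_one_ne_zero_of_two_eq_zero one_ne_zero h2
  have sq : ∀ c : F, ∃ d, d * d = c := fun c => by
    obtain ⟨d, hd⟩ := surjective_frobenius F 2 c
    exact ⟨d, by rw [← hd, frobenius_def, pow_two]⟩
  have dt' : s * r = 1 := by rw [← dt, zero_mul, zero_sub, CharTwo.neg_eq]
  have s0 : s ≠ 0 := left_ne_zero_of_mul_eq_one dt'
  have s1 : r ≠ 0 := right_ne_zero_of_mul_eq_one dt'
  have m1 : μ * μ + 1 ≠ 0 := fun h => μ1 (by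
    have : (μ - 1) ^ 2 = 0 := by linear_combination h - μ * h2
    exact sub_eq_zero.1 (pow_eq_zero_iff two_ne_zero |>.1 this))
  have hl : lower (r * δ * (μ * μ + 1)) ∈ H := by
    have : lower (r * δ * (μ * μ + 1)) * dg μ⁻¹ (inv_ne_zero μ0) * mkSL2 0 s r δ dt =
        mkSL2 0 s r δ dt * dg μ μ0 := by
      apply Subtype.ext
      change !![1, 0; _, 1] * !![μ⁻¹, 0; 0, μ⁻¹⁻¹] * !![0, s; r, δ] = !![0, s; r, δ] * !![μ, 0; 0, μ⁻¹]
      ext i j; fin_cases i <;> fin_cases j <;> simp [mul_apply, Fin.sum_univ_two] <;> field_simp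
      all_goals grind
    rw [← H.mul_mem_cancel_right (hD _ (inv_ne_zero μ0)), ← H.mul_mem_cancel_right hw, this]
    exact H.mul_mem hw (hD _ _)
  have hu : upper (s * δ * (μ * μ + 1)) ∈ H := by
    have : mkSL2 0 s r δ dt * (dg μ⁻¹ (inv_ne_zero μ0) * upper (s * δ * (μ * μ + 1))) =
        dg μ μ0 * mkSL2 0 s r δ dt := by
      apply Subtype.ext
      change !![0, s; r, δ] * (!![μ⁻¹, 0; 0, μ⁻¹⁻¹] * !![1, _; 0, 1]) = !![μ, 0; 0, μ⁻¹] * !![0, s; r, δ]
      ext i j; fin_cases i <;> fin_cases j <;> simp [mul_apply, Fin.sum_univ_two] <;> field_simp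
      all_goals grind
    rw [← H.mul_mem_cancel_left (hD _ (inv_ne_zero μ0)), ← H.mul_mem_cancel_left hw, this]
    exact H.mul_mem (hD _ _) hw
  have cu : ∀ (e c : F) (hc : c ≠ 0), dg c hc * upper e * (dg c hc)⁻¹ = upper (c * c * e) := fun e c hc => by
    rw [mul_inv_eq_iff_eq_mul]
    apply Subtype.ext
    change !![c, 0; 0, c⁻¹] * !![1, e; 0, 1] = !![1, c * c * e; 0, 1] * !![c, 0; 0, c⁻¹]
    ext i j; fin_cases i <;> fin_cases j <;> simp [mul_apply, Fin.sum_univ_two]; field_simp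
  have cl : ∀ (e c : F) (hc : c ≠ 0), (dg c hc)⁻¹ * lower e * dg c hc = lower (c * c * e) := fun e c hc => by
    rw [mul_assoc, inv_mul_eq_iff_eq_mul]
    apply Subtype.ext
    change !![1, 0; e, 1] * !![c, 0; 0, c⁻¹] = !![c, 0; 0, c⁻¹] * !![1, 0; c * c * e, 1]
    ext i j; fin_cases i <;> fin_cases j <;> simp [mul_apply, Fin.sum_univ_two]; field_simp
  refine SL2_eq_top_of_upper_lower (fun b => ?_) fun b => ?_
  · by_cases hb : b = 0
    · simp [hb]
    obtain ⟨c, hc⟩ := sq (b / (s * δ * (μ * μ + 1)))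
    have ne : s * δ * (μ * μ + 1) ≠ 0 := mul_ne_zero (mul_ne_zero s0 w1) m1
    have c0 : c ≠ 0 := by rintro rfl; exact div_ne_zero hb ne (by simpa using hc.symm)
    have := H.mul_mem (H.mul_mem (hD c c0) hu) (H.inv_mem (hD c c0))
    rwa [cu, hc, div_mul_cancel₀ _ ne] at this
  · by_cases hb : b = 0
    · simp [hb]
    obtain ⟨c, hc⟩ := sq (b / (r * δ * (μ * μ + 1)))
    have ne : r * δ * (μ * μ + 1) ≠ 0 :=
      mul_ne_zero (mul_ne_zero s1 w1) m1
    have c0 : c ≠ 0 := by rintro rfl; exact div_ne_zero hb ne (by simpa using hc.symm)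
    have := H.mul_mem (H.mul_mem (H.inv_mem (hD c c0)) hl) (hD c c0)
    rwa [cl, hc, div_mul_cancel₀ _ ne] at this

theorem two_gen (h2 : (2 : F) = 0) [Fintype F] (h4 : 4 ≤ Fintype.card F) :
    ∃ x y : SL(2, F), x.1.trace = 1 ∧ y.1.trace = 1 ∧ closure {x, y} = ⊤ := by
  classical
  haveI : CharP F 2 := CharTwo.of_one_ne_zero_of_two_eq_zero one_ne_zero h2
  obtain ⟨θ, hθ⟩ := IsCyclic.exists_monoid_generator (α := Fˣ)
  have θ1 : (θ : F) ≠ 1 := fun h => by
    have h1 : θ = 1 := Units.ext h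
    have : Fintype.card Fˣ ≤ 1 := Fintype.card_le_one_iff.2 fun a b => by
      obtain ⟨i, rfl⟩ := hθ a
      obtain ⟨j, rfl⟩ := hθ b
      simp [h1]
    rw [Fintype.card_units] at this
    omega
  have hD : ∀ {H : Subgroup SL(2, F)}, dg (θ : F) θ.ne_zero ∈ H → ∀ c hc, dg c hc ∈ H := fun {H} h c hc => by
    obtain ⟨i, hi⟩ := hθ (Units.mk0 c hc)
    have : ∀ i : ℕ, dg ((θ : F) ^ i) (pow_ne_zero i θ.ne_zero) = dg (θ : F) θ.ne_zero ^ i := fun i => by
      induction i with
      | zero => ext i j; fin_cases i <;> fin_cases j <;> simp [dg]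
      | succ i ih =>
        rw [pow_succ (dg _ _), ← ih]
        apply Subtype.ext
        change !![_, 0; 0, _] = !![_, 0; 0, _] * !![_, 0; 0, _]
        ext i j; fin_cases i <;> fin_cases j <;> simp [mul_apply, Fin.sum_univ_two, pow_succ, mul_comm]
    have e : c = (θ : F) ^ i := by simpa using (congrArg Units.val hi).symm
    subst e
    rw [this]; exact H.pow_mem h i
  have θ0 := θ.ne_zero
  set b := (θ : F)
  by_cases hb : b * b + b + 1 = 0
  · refine ⟨mkSL2 0 1 1 1 (by grind), dg b θ0, by simp only [mkSL2_coe, trace_fin_two_of, zero_add], ?_, ?_⟩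
    · simp only [dg, mkSL2_coe, trace_fin_two_of]
      field_simp; grind
    · exact top_of_w h2 (hD (subset_closure (Or.inr rfl))) θ0 θ1 _ (subset_closure (Or.inl rfl)) one_ne_zero
  · obtain ⟨e, he⟩ := surjective_frobenius F 2 (b * b + b + 1)
    rw [frobenius_def] at he
    have e0 : e ≠ 0 := by rintro rfl; exact hb (by simpa using he.symm)
    have b1 : 1 + b ≠ 0 := fun h => θ1 (by grind)
    let x : SL(2, F) := mkSL2 (b / (1 + b)) (e / (1 + b)) (e / (1 + b)) (1 / (1 + b)) (by field_simp; grind)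
    have hx : x ∈ closure {x, (dg b θ0)⁻¹ * x} := subset_closure (by simp)
    have hy : (dg b θ0)⁻¹ * x ∈ closure {x, (dg b θ0)⁻¹ * x} := subset_closure (by simp)
    have hd := hD (Subgroup.inv_mem_iff _ |>.1 ((Subgroup.mul_mem_cancel_right _ hx).1 hy))
    refine ⟨x, (dg b θ0)⁻¹ * x, ?_, ?_, ?_⟩
    · simp only [x, mkSL2_coe, trace_fin_two_of]; field_simp; grind
    · have : (dg b θ0)⁻¹ = dg b⁻¹ (inv_ne_zero θ0) := by
        rw [inv_eq_iff_mul_eq_one]
        ext i j; fin_cases i <;> fin_cases j <;> simp [dg, mul_apply, Fin.sum_univ_two, θ0]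
      rw [this]
      change (!![_, 0; 0, _] * !![_, _; _, _] : Matrix (Fin 2) (Fin 2) F).trace = 1
      simp only [mul_fin_two, trace_fin_two_of]; field_simp; grind
    · refine top_of_w h2 hd θ0 θ1 (s := 1) (r := 1) (δ := (1 + b) ^ 2 / (b * e)) (by grind) ?_
        (div_ne_zero (pow_ne_zero 2 b1) (mul_ne_zero θ0 e0))
      have := mul_mem (mul_mem hx (hd (e / b) (div_ne_zero e0 θ0))) hx
      convert this using 1
      apply Subtype.ext
      change !![_, _; _, _] = !![_, _; _, _] * !![_, 0; 0, _] * !![_, _; _, _]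
      ext i j; fin_cases i <;> fin_cases j <;> simp [mul_apply, Fin.sum_univ_two] <;> field_simp
      all_goals grind

end Cfsg.Agent.H22.Hg
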