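import Cfsg.Agent.H22.Hig1

/-! Modules for `SL₂(2ⁿ)` on which elements of order three act fixed point freely. -/

set_option autoImplicit false
set_option linter.style.haveILetI false

namespace Cfsg.Agent.H22.Hg

open Matrix Cfsg.Agent.H12 Cfsg.Agent.H22.Nt
open scoped MatrixGroups

variable {F : Type*} [Field F]

theorem ch2 (g : SL(2, F)) : g.1 * g.1 = g.1.trace • g.1 - 1 := by
  have := g.det_coe
  rw [det_fin_two] at this
  ext i j; fin_cases i <;> fin_cases j <;> simp [mul_apply, Fin.sum_univ_two, trace_fin_two]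
  · linear_combination -this
  · ring
  · ring
  · linear_combination -this

theorem tr1_cube (h2 : (2 : F) = 0) {g : SL(2, F)} (h : g.1.trace = 1) : g ^ 3 = 1 := by
  apply Subtype.ext
  have e := ch2 g
  rw [h, one_smul] at e
  rw [pow_three']
  change g.1 * g.1 * g.1 = 1
  rw [e, sub_mul, e, one_mul, sub_sub_cancel_left]
  ext i j; rw [Matrix.neg_apply]; linear_combination -(1 : Matrix (Fin 2) (Fin 2) F) i j * h2

theorem tr0_sq (h2 : (2 : F) = 0) {g : SL(2, F)} (h : g.1.trace = 0) : g * g = 1 := by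
  apply Subtype.ext
  have e := ch2 g
  rw [h, zero_smul, zero_sub] at e
  change g.1 * g.1 = 1
  rw [e]
  ext i j; rw [Matrix.neg_apply]; linear_combination -(1 : Matrix (Fin 2) (Fin 2) F) i j * h2

theorem not_scal (h2 : (2 : F) = 0) {g : SL(2, F)} (h : g.1.trace ≠ 0) : ¬ H27.Scal g.1 := fun hs =>
  h (by rw [trace_fin_two, hs.2.2, ← two_mul, h2, zero_mul])

theorem conj_of_tr [Finite F] (h2 : (2 : F) = 0) {g h : SL(2, F)} (h0 : g.1.trace ≠ 0)
    (e : g.1.trace = h.1.trace) : IsConj g h :=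
  H27.sl_isConj_of_trace_even h2 (not_scal h2 h0) (not_scal h2 (e ▸ h0)) e

theorem tr_inv (g : SL(2, F)) : (g⁻¹).1.trace = g.1.trace := by
  change (adjugate g.1).trace = _
  rw [adjugate_fin_two, trace_fin_two_of, trace_fin_two, add_comm]

theorem tr_of_cube (h2 : (2 : F) = 0) {g : SL(2, F)} (h3 : g ^ 3 = 1) (h1 : g ≠ 1) : g.1.trace = 1 := by
  have e := ch2 g
  have e3 : g.1 * g.1 * g.1 = 1 := by rw [pow_three'] at h3; exact congrArg Subtype.val h3
  rw [e, sub_mul, smul_mul_assoc, e, one_mul] at e3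
  have dt := g.det_coe
  rw [det_fin_two] at dt
  set τ := g.1.trace
  by_contra hτ
  have hn : τ * τ - 1 ≠ 0 := fun h => hτ (by
    have : (τ - 1) ^ 2 = 0 := by linear_combination h - (τ - 1) * h2
    exact sub_eq_zero.1 (pow_eq_zero_iff two_ne_zero |>.1 this))
  have a := congrFun (congrFun e3 0) 0
  have b := congrFun (congrFun e3 0) 1
  have c := congrFun (congrFun e3 1) 0
  have d := congrFun (congrFun e3 1) 1
  simp only [Matrix.sub_apply, Matrix.smul_apply, smul_eq_mul, one_apply_eq, one_apply_ne zero_ne_one,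
    one_apply_ne one_ne_zero] at a b c d
  have b' : g.1 0 1 = 0 := (mul_eq_zero.1 (by linear_combination b)).resolve_left hn
  have c' : g.1 1 0 = 0 := (mul_eq_zero.1 (by linear_combination c)).resolve_left hn
  have e' : g.1 0 0 = g.1 1 1 := mul_left_cancel₀ hn (by linear_combination a - d)
  have a' : g.1 0 0 = 1 := by
    have : (g.1 0 0 - 1) ^ 2 = 0 := by
      linear_combination dt + g.1 0 0 * e' + g.1 1 0 * b' - (g.1 0 0 - 1) * h2
    exact sub_eq_zero.1 (pow_eq_zero_iff two_ne_zero |>.1 this)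
  refine h1 (Subtype.ext ?_)
  ext i j; fin_cases i <;> fin_cases j <;> simp [a', b', c', ← e']

theorem tr_ul (h2 : (2 : F) = 0) {t : F} (ht : t ≠ 0) : (upper t * lower t⁻¹).1.trace = 1 := by
  change (!![_, _; _, _] * !![_, _; _, _] : Matrix (Fin 2) (Fin 2) F).trace = 1
  simp only [mul_fin_two, trace_fin_two_of]; field_simp; linear_combination h2

theorem upper_sq (h2 : (2 : F) = 0) (t : F) : upper t * upper t = 1 := by
  rw [← upper_add, ← two_mul, h2, zero_mul, upper_zero]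

theorem lower_sq (h2 : (2 : F) = 0) (t : F) : lower t * lower t = 1 := by
  rw [← lower_add, ← two_mul, h2, zero_mul, lower_zero]

section ring
variable {R : Type*} [Ring R] {ρ : SL(2, F) →* R} [Fintype F] (h2 : (2 : F) = 0)
  (h4 : 4 ≤ Fintype.card F) (h3 : ∀ g : SL(2, F), g.1.trace = 1 → ρ g * ρ g + ρ g + 1 = 0)
include h2 h4 h3

theorem cT (g h : SL(2, F)) : Commute (ρ g + ρ g⁻¹) (ρ h) := by
  obtain ⟨x, y, hx, hy, e⟩ := two_gen h2 h4
  exact central_trace ρ e (tr1_cube h2 hx) (tr1_cube h2 hy) (h3 _ hx) (h3 _ hy) g h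

theorem six : (6 : R) = 0 := by
  have t := tr_ul h2 (one_ne_zero (α := F))
  rw [inv_one] at t
  have c := (cT h2 h4 h3 (upper 1) (lower 1)).eq
  rw [inv_eq_of_mul_eq_one_right (upper_sq h2 1)] at c
  have e := h3 _ t
  rw [map_mul] at e
  have ea : ρ (upper 1) * ρ (upper 1) = 1 := by rw [← map_mul, upper_sq h2, map_one]
  have eb : ρ (lower 1) * ρ (lower 1) = 1 := by rw [← map_mul, lower_sq h2, map_one]
  set a := ρ (upper 1)
  set b := ρ (lower 1)
  have e1 : (a * b * (a * b)) + (a * b * (a * b)) = 1 + 1 := by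
    calc _ = a * (b * (a + a)) * b := by noncomm_ring
      _ = (a * a + a * a) * (b * b) := by rw [← c]; noncomm_ring
      _ = _ := by rw [ea, eb, mul_one]
  have e2 : a * b * (a * b * (a * b)) = 1 := by
    rw [← sub_eq_zero, ← mul_zero (a * b - 1), ← e]; noncomm_ring
  have e4 : a * b + a * b = 1 + 1 := by
    rw [← mul_one (a * b), ← mul_add, ← e1, mul_add, e2, e1]
  calc (6 : R) = (1 + 1) + (1 + 1) + (1 + 1) := by norm_num
    _ = (a * b * (a * b) + a * b + 1) + (a * b * (a * b) + a * b + 1) := by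
      nth_rw 1 [← e1]; nth_rw 1 [← e4]; abel
    _ = 0 := by rw [e, add_zero]

theorem quadR (r2 : (2 : R) = 0) {n : ℕ} (hF : Fintype.card F = 2 ^ n) (s t : F) :
    (ρ (upper s) - 1) * (ρ (upper t) - 1) = 0 := by
  have C := cT h2 h4 h3
  let T : SL(2, F) → R := fun g => ρ g + ρ g⁻¹
  have ad : ∀ r : R, r + r = 0 := fun r => by rw [← two_mul, r2, zero_mul]
  have ng : ∀ r : R, -r = r := fun r => neg_eq_of_add_eq_zero_left (ad r)
  have n0 : n ≠ 0 := by rintro rfl; omega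
  have cc : ∀ g h, Commute (T g) (T h) := fun g h => (C g h).add_right (C g h⁻¹)
  have Tp : ∀ g, T g ^ 2 ^ n = T g := fun g => by
    have e : T g ^ 2 ^ n = T (g ^ 2 ^ n) := by
      simp only [T]
      rw [add_pow_two_pow r2 ((Commute.refl g).inv_right.map ρ), ← map_pow, ← map_pow, inv_pow]
    rw [e]
    by_cases h0 : g.1.trace = 0
    · have h := tr0_sq h2 h0
      have : g ^ 2 ^ n = 1 := by
        obtain ⟨k, rfl⟩ := Nat.exists_eq_succ_of_ne_zero n0
        rw [pow_succ', pow_mul, pow_two, h, one_pow]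
      simp only [T, this, inv_eq_of_mul_eq_one_right h, inv_one, ad]
    · obtain ⟨c, hc⟩ := isConj_iff.1 (conj_of_tr h2 (h := g ^ 2 ^ n) h0 (by
        rw [← hF, show (g ^ Fintype.card F).1 = g.1 ^ Fintype.card F from map_pow (SpecialLinearGroup.coeMonoidHom) g _,
          FiniteField.trace_pow_card, FiniteField.pow_card]))
      have : T (c * g * c⁻¹) = ρ c * T g * ρ c⁻¹ := by
        simp only [T, _root_.mul_inv_rev, map_mul, inv_inv]; noncomm_ring
      rw [← hc, this, ← (C g c).eq, mul_assoc, ← map_mul, mul_inv_cancel, map_one, mul_one]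
  have iu : ∀ t : F, (upper t)⁻¹ = upper t := fun t => inv_eq_of_mul_eq_one_right (upper_sq h2 t)
  have cu : ρ (upper t) * ρ (upper s) = ρ (upper s) * ρ (upper t) := by
    rw [← map_mul, ← map_mul, ← upper_add, ← upper_add, add_comm]
  have ea : ρ (upper s) * ρ (upper s) = 1 := by rw [← map_mul, upper_sq h2, map_one]
  have eb : ρ (upper t) * ρ (upper t) = 1 := by rw [← map_mul, upper_sq h2, map_one]
  rw [sub_eq_add_neg, sub_eq_add_neg, ng]
  set c := (ρ (upper s) + 1) * (ρ (upper t) + 1) with hc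
  have bb : (ρ (upper t) + 1) * (ρ (upper t) + 1) = 0 := by
    rw [add_mul, mul_add, eb, mul_one, one_mul, add_comm (ρ _), ad]
  have aa : (ρ (upper s) + 1) * (ρ (upper s) + 1) = 0 := by
    rw [add_mul, mul_add, ea, mul_one, one_mul, add_comm (ρ _), ad]
  have key : ∀ g, c * ρ g⁻¹ = ρ g * c := fun g => by
    let z := T (g * upper s * upper t) + T (g * upper s) + T (g * upper t) + T g
    have hz : z = ρ g * c + c * ρ g⁻¹ := by
      simp only [z, T, _root_.mul_inv_rev, map_mul, iu, hc, ← mul_assoc, cu]; noncomm_ring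
    have zc : ∀ h, Commute z (ρ h) := fun h => (((C _ h).add_left (C _ h)).add_left (C _ h)).add_left (C _ h)
    have z1 : z * c = 0 := by
      have h1 : (ρ (upper s) + 1) * z = (ρ (upper s) + 1) * ρ g * c := by
        rw [hz, mul_add, hc]
        simp only [← mul_assoc, aa, zero_mul, add_zero]
      rw [hc, ← mul_assoc, ((zc _).add_right (Commute.one_right z)).eq, h1, hc]
      simp only [mul_assoc, bb, mul_zero]
    have z2 : z * z = 0 := by
      nth_rw 2 [hz]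
      rw [mul_add, ← mul_assoc, (zc g).eq, mul_assoc, z1, ← mul_assoc, z1]; simp
    have z3 : z ^ 2 ^ n = z := by
      simp only [z]
      rw [add_pow_two_pow r2 (((cc _ _).add_left (cc _ _)).add_left (cc _ _)),
        add_pow_two_pow r2 ((cc _ _).add_left (cc _ _)), add_pow_two_pow r2 (cc _ _), Tp, Tp, Tp, Tp]
    have z4 : z = 0 := by
      obtain ⟨k, rfl⟩ := Nat.exists_eq_succ_of_ne_zero n0
      rw [← z3, pow_succ', pow_mul, pow_two, z2, zero_pow (by positivity)]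
    rw [hz] at z4
    rw [← ng (ρ g * c)]; exact (neg_eq_of_add_eq_zero_right z4).symm
  have sw : ∀ g h, ρ (g * h) * c = ρ (h * g) * c := fun g h => by
    rw [← key, _root_.mul_inv_rev, map_mul, ← mul_assoc, key, mul_assoc, key, map_mul, mul_assoc]
  have t1 := tr_ul h2 (one_ne_zero (α := F))
  set x := upper (1 : F) * lower 1⁻¹
  obtain ⟨u, hu⟩ := isConj_iff.1 (conj_of_tr h2 (g := x) (h := x * x) (by rw [t1]; exact one_ne_zero) (by
    rw [← tr_inv (x * x), inv_eq_of_mul_eq_one_right (by rw [← pow_three', tr1_cube h2 t1])]))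
  have e := sw u (x * u⁻¹)
  rw [← mul_assoc u, hu, inv_mul_cancel_right, map_mul] at e
  have := congrArg (· * c) (h3 x t1)
  simpa [add_mul, e, ad] using this

end ring

variable {M : Type*} [AddCommGroup M] {ρ : SL(2, F) →* Module.End ℤ M}

/-- the rank one relation -/
structure Wk (ρ : SL(2, F) →* Module.End ℤ M) : Prop where
  pa : ∀ {t : F}, t ≠ 0 → X ρ t * Y ρ t⁻¹ + Y ρ t⁻¹ * X ρ t = 1

theorem wk_of (h2 : (2 : F) = 0) (r2 : (2 : Module.End ℤ M) = 0)
    (h3 : ∀ g : SL(2, F), g.1.trace = 1 → ρ g * ρ g + ρ g + 1 = 0) : Wk ρ := ⟨fun {t} ht => by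
  have t1 := tr_ul h2 ht
  have e := h3 _ t1
  rw [← map_mul, ← inv_eq_of_mul_eq_one_right ((pow_three _).symm.trans (tr1_cube h2 t1)), _root_.mul_inv_rev,
    inv_eq_of_mul_eq_one_right (upper_sq h2 _), inv_eq_of_mul_eq_one_right (lower_sq h2 _), map_mul,
    map_mul, ρu, ρl] at e
  rw [← sub_eq_zero, ← e, ← sub_eq_zero, ← zero_mul (-(1 + 1 + X ρ t + Y ρ t⁻¹)), ← r2, two_mul]
  noncomm_ring⟩

section
variable (h : Wk ρ) (hq : ∀ s t, X ρ s * X ρ t = 0)
include h hq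

theorem Wk.n_eq {t : F} (ht : t ≠ 0) :
    ρ (nn t) = X ρ t - Y ρ t⁻¹ := by
  have e := h.pa ht
  have e2 := hq t t
  rw [nn, map_mul, map_mul, ρu, ρl, Y_neg hq]
  set a := X ρ t
  set b := Y ρ t⁻¹
  have : a * b * a = a := by
    calc a * b * a = a * (a * b + b * a) - a * a * b := by noncomm_ring
      _ = a := by rw [e, e2]; simp
  calc _ = 1 + a + a - b - (a * b + b * a) - a * b * a + a * a := by noncomm_ring
    _ = _ := by rw [e, this, e2]; abel

theorem Wk.pa1 : X ρ 1 * Y ρ 1 + Y ρ 1 * X ρ 1 = 1 := by simpa using h.pa one_ne_zero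

theorem Wk.bX (s : F) : Y ρ 1 * X ρ s = Y ρ s * X ρ 1 := by
  have := nX (ρ := ρ) one_ne_zero s
  rw [h.n_eq hq one_ne_zero, Y_neg hq] at this
  simp only [inv_one, one_pow, mul_one, sub_mul, mul_sub, neg_mul, hq, Y_quad hq] at this
  simpa using this

theorem Wk.ιa (t : F) : ι ρ t * X ρ 1 = X ρ t := by
  calc _ = X ρ t * (X ρ 1 * Y ρ 1 + Y ρ 1 * X ρ 1) - X ρ t * X ρ 1 * Y ρ 1 +
        Y ρ 1 * (X ρ t * X ρ 1) := by rw [ι]; noncomm_ring
    _ = _ := by rw [h.pa1 hq, hq]; simp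

theorem Wk.aι (t : F) : X ρ 1 * ι ρ t = X ρ t := by
  calc _ = (X ρ 1 * Y ρ 1 + Y ρ 1 * X ρ 1) * X ρ t - Y ρ 1 * (X ρ 1 * X ρ t) +
        (X ρ 1 * X ρ t) * Y ρ 1 := by rw [ι]; noncomm_ring
    _ = _ := by rw [h.pa1 hq, hq]; simp

theorem Wk.bXb (t : F) : Y ρ 1 * X ρ t * Y ρ 1 = Y ρ t := by
  calc _ = Y ρ t * (X ρ 1 * Y ρ 1 + Y ρ 1 * X ρ 1) - Y ρ t * Y ρ 1 * X ρ 1 := by
        rw [h.bX hq]; noncomm_ring
    _ = _ := by rw [h.pa1 hq, Y_quad hq]; simp

theorem Wk.ιb (t : F) : ι ρ t * Y ρ 1 = Y ρ t := by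
  rw [ι, add_mul, mul_assoc, Y_quad hq, mul_zero, zero_add, h.bXb hq]

theorem Wk.bι (t : F) : Y ρ 1 * ι ρ t = Y ρ t := by
  rw [ι, mul_add, ← mul_assoc, ← mul_assoc, Y_quad hq, zero_mul, add_zero, h.bXb hq]

theorem Wk.canc {Z : Module.End ℤ M} (h1 : Commute Z (X ρ 1)) (h3 : Z * (Y ρ 1 * X ρ 1) = 0) :
    Z = 0 := by
  have e : Z * Y ρ 1 = 0 := by
    calc Z * Y ρ 1 = Z * (Y ρ 1 * X ρ 1 * Y ρ 1) := by rw [h.bXb hq]
      _ = 0 := by rw [← mul_assoc, h3, zero_mul]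
  calc Z = Z * (X ρ 1 * Y ρ 1 + Y ρ 1 * X ρ 1) := by rw [h.pa1 hq, mul_one]
    _ = 0 := by rw [mul_add, h3, ← mul_assoc, h1.eq, mul_assoc, e]; simp

theorem Wk.ca (t : F) : Commute (ι ρ t) (X ρ 1) := (h.ιa hq t).trans (h.aι hq t).symm
theorem Wk.cb (t : F) : Commute (ι ρ t) (Y ρ 1) := (h.ιb hq t).trans (h.bι hq t).symm

theorem Wk.ι_inv {t : F} (ht : t ≠ 0) : ι ρ t⁻¹ * ι ρ t = 1 := by
  have e := h.pa ht
  rw [← sub_eq_zero]
  refine h.canc hq (((h.ca hq _).mul_left (h.ca hq _)).sub_left (Commute.one_left _)) ?_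
  have e2 : Y ρ t⁻¹ * X ρ t = ι ρ t⁻¹ * ι ρ t * (Y ρ 1 * X ρ 1) := by
    rw [← h.ιb hq t⁻¹, ← h.ιa hq t, mul_assoc, ← mul_assoc (Y ρ 1), ← (h.cb hq t).eq]
    noncomm_ring
  calc _ = Y ρ t⁻¹ * X ρ t * (X ρ 1 * Y ρ 1 + Y ρ 1 * X ρ 1) - Y ρ 1 * X ρ 1 := by
        rw [h.pa1 hq, e2]; noncomm_ring
    _ = (X ρ t * Y ρ t⁻¹ + Y ρ t⁻¹ * X ρ t) * (Y ρ 1 * X ρ 1) - Y ρ 1 * X ρ 1 +
        Y ρ t⁻¹ * (X ρ t * X ρ 1) * Y ρ 1 - X ρ t * (Y ρ t⁻¹ * Y ρ 1) * X ρ 1 := by noncomm_ring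
    _ = 0 := by rw [e, hq, Y_quad hq]; simp

theorem Wk.ι_sq {t : F} (ht : t ≠ 0) (s : F) : ι ρ (s * t ^ 2) = ι ρ t * ι ρ s * ι ρ t := by
  have e := nX (ρ := ρ) (inv_ne_zero ht) s
  rw [h.n_eq hq (inv_ne_zero ht), Y_neg hq, inv_inv] at e
  simp only [sub_mul, mul_sub, neg_mul, hq, Y_quad hq, zero_sub, neg_zero, sub_zero, neg_inj] at e
  have e2 : ∀ a b, Y ρ a * X ρ b = ι ρ a * ι ρ b * (Y ρ 1 * X ρ 1) := fun a b => by
    rw [← h.ιb hq a, ← h.ιa hq b, mul_assoc, ← mul_assoc (Y ρ 1), ← (h.cb hq b).eq]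
    noncomm_ring
  rw [e2 t s, e2 _ t⁻¹, ← sub_eq_zero, ← sub_mul] at e
  have := sub_eq_zero.1 (h.canc hq (((h.ca hq _).mul_left (h.ca hq _)).sub_left
    ((h.ca hq _).mul_left (h.ca hq _))) e)
  rw [this, mul_assoc, h.ι_inv hq ht, mul_one]

theorem Wk.ι_mul [Finite F] (s t : F) : ι ρ (s * t) = ι ρ s * ι ρ t := by
  have z : ι ρ 0 = 0 := by simp [ι, X_zero]
  by_cases hs : s = 0
  · simp [hs, z]
  by_cases ht : t = 0
  · simp [ht, z]
  obtain ⟨θ, hθ⟩ := IsCyclic.exists_monoid_generator (α := Fˣ)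
  have key : ∀ k : ℕ, ι ρ ((θ : F) ^ k) = ι ρ θ ^ k ∧ ι ρ ((θ : F) ^ (k + 1)) = ι ρ θ ^ (k + 1) := by
    intro k
    induction k with
    | zero => simpa [ι] using h.pa1 hq
    | succ k ih =>
      refine ⟨ih.2, ?_⟩
      rw [add_assoc, pow_add, h.ι_sq hq θ.ne_zero, ih.1, ← pow_succ', ← pow_succ, add_assoc]
  obtain ⟨i, hi⟩ := hθ (Units.mk0 s hs)
  obtain ⟨j, hj⟩ := hθ (Units.mk0 t ht)
  have hi' : (θ : F) ^ i = s := by simpa using congrArg Units.val hi
  have hj' : (θ : F) ^ j = t := by simpa using congrArg Units.val hj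
  rw [← hi', ← hj', ← pow_add, (key _).1, (key _).1, (key _).1, pow_add]

theorem Wk.nat [Finite F] [Finite M] : ∃ (k : ℕ) (Φ : (Fin k → Fin 2 → F) ≃+ M),
    ∀ (g : SL(2, F)) v, Φ (fun i => (g : Matrix (Fin 2) (Fin 2) F) *ᵥ v i) = ρ g (Φ v) := by
  have ad : ∀ s t, ι ρ (s + t) = ι ρ s + ι ρ t := fun s t => by
    rw [ι, ι, ι, X_add' hq]; noncomm_ring
  let ι' : F →+* Module.End ℤ M :=
    { toFun := ι ρ, map_one' := h.pa1 hq, map_mul' := h.ι_mul hq,
      map_zero' := by simp [ι, X_zero], map_add' := ad }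
  letI : Module F M := Module.compHom M ι'
  have sm : ∀ (c : F) (m : M), c • m = ι ρ c m := fun _ _ => rfl
  let a : M →ₗ[F] M :=
    { toFun := X ρ 1, map_add' := map_add _
      map_smul' := fun c m => LinearMap.congr_fun (h.ca hq c).eq.symm m }
  let b : M →ₗ[F] M :=
    { toFun := Y ρ 1, map_add' := map_add _
      map_smul' := fun c m => LinearMap.congr_fun (h.cb hq c).eq.symm m }
  have aa : ∀ m, a (a m) = 0 := fun m => LinearMap.congr_fun (hq 1 1) m
  have bb : ∀ m, b (b m) = 0 := fun m => LinearMap.congr_fun (Y_quad hq 1 1) m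
  have ab : ∀ m, a (b m) + b (a m) = m := fun m => LinearMap.congr_fun (h.pa1 hq) m
  have hu : ∀ t m, ρ (upper t) m = m + t • a m := fun t m => by rw [ρu, ← h.ιa hq]; rfl
  have hl : ∀ t m, ρ (lower t) m = m + t • b m := fun t m => by rw [ρl, ← h.ιb hq]; rfl
  let B := (Module.finBasis F (LinearMap.ker a)).equivFun.symm
  have B0 : ∀ v, a (B v) = 0 := fun v => (B v).2
  have B1 : ∀ v, a (b (B v)) = B v := fun v => by simpa [B0] using ab (B v)
  let Φ : (Fin (Module.finrank F (LinearMap.ker a)) → Fin 2 → F) →+ M :=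
    AddMonoidHom.mk' (fun v => (B fun i => v i 0 : M) + b (B fun i => v i 1)) fun v w => by
      have e : ∀ j, (fun i => (v + w) i j) = (fun i => v i j) + fun i => w i j := fun _ => rfl
      simp only [e, map_add, Submodule.coe_add]; abel
  have hΦ : ∀ v, Φ v = (B fun i => v i 0 : M) + b (B fun i => v i 1) := fun _ => rfl
  have inj : Function.Injective Φ := (injective_iff_map_eq_zero Φ).2 fun v hv => by
    have e := congrArg a hv
    rw [hΦ, map_add, B0, B1, zero_add, map_zero] at e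
    rw [hΦ, e, map_zero, add_zero] at hv
    have e0 := B.map_eq_zero_iff.1 (Subtype.ext hv)
    have e1 := B.map_eq_zero_iff.1 (Subtype.ext e)
    ext i j; fin_cases j
    exacts [congrFun e0 i, congrFun e1 i]
  have sur : Function.Surjective Φ := fun m =>
    ⟨fun i => ![B.symm ⟨a (b m), aa _⟩ i, B.symm ⟨a m, aa _⟩ i], by
      rw [hΦ]; simpa using ab m⟩
  refine ⟨_, AddEquiv.ofBijective Φ ⟨inj, sur⟩, gen (fun t v => ?_) (fun t v => ?_) fun g g' ha hb v => ?_⟩
  · change Φ _ = ρ _ (Φ _)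
    have e0 : (fun i => ((upper t : Matrix (Fin 2) (Fin 2) F) *ᵥ v i) 0) =
        (fun i => v i 0) + t • fun i => v i 1 := by
      ext i; simp [mulVec, dotProduct, Fin.sum_univ_two]
    have e1 : (fun i => ((upper t : Matrix (Fin 2) (Fin 2) F) *ᵥ v i) 1) = fun i => v i 1 := by
      ext i; simp [mulVec, dotProduct, Fin.sum_univ_two]
    rw [hu, hΦ, hΦ, e0, e1, map_add, map_smul, map_add, B0, B1, Submodule.coe_add, Submodule.coe_smul]
    abel
  · change Φ _ = ρ _ (Φ _)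
    have e0 : (fun i => ((lower t : Matrix (Fin 2) (Fin 2) F) *ᵥ v i) 0) = fun i => v i 0 := by
      ext i; simp [mulVec, dotProduct, Fin.sum_univ_two]
    have e1 : (fun i => ((lower t : Matrix (Fin 2) (Fin 2) F) *ᵥ v i) 1) =
        (t • fun i => v i 0) + fun i => v i 1 := by
      ext i; simp [mulVec, dotProduct, Fin.sum_univ_two]
    rw [hl, hΦ, hΦ, e0, e1, map_add, map_smul, map_add, bb, Submodule.coe_add, Submodule.coe_smul,
      map_add, map_smul]
    abel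
  · rw [map_mul, Module.End.mul_apply, ← hb, ← ha]
    congr 1
    ext i : 1
    change (((g : Matrix (Fin 2) (Fin 2) F) * (g' : Matrix (Fin 2) (Fin 2) F)) *ᵥ v i) = _
    rw [← mulVec_mulVec]

end

end Cfsg.Agent.H22.Hg
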