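import Cfsg.Agent.H22.Nat1
import Cfsg.Prelude.Def_BaumannBlocks
import Cfsg.Prelude.Def_Transfer

/-! Natural `SL₂(F)`-modules inside a finite group. -/

set_option autoImplicit false
set_option linter.style.haveILetI false

namespace Cfsg.Agent.H22.Nt

open Matrix Cfsg.Agent.H12 Subgroup
open scoped MatrixGroups IsMulCommutative commutatorElement

variable {F : Type*} [Field F]

theorem charP_of_card [Fintype F] {p n : ℕ} [hp : Fact p.Prime] (hF : Fintype.card F = p ^ n) :
    CharP F p := by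
  have h := FiniteField.cast_card_eq_zero F
  rw [hF, Nat.cast_pow] at h
  exact (CharP.charP_iff_prime_eq_zero hp.out).2 (eq_zero_of_pow_eq_zero h)

theorem std_iso [Finite F] {p : ℕ} [Fact p.Prime] [CharP F p] {G : Type*} [Group G]
    (e : G ≃* SL(2, F)) (S : Sylow p G) :
    ∃ e' : G ≃* SL(2, F), ∀ s, s ∈ (S : Subgroup G) ↔ ∃ b, e' s = upper b := by
  haveI : Finite G := Finite.of_equiv _ e.symm.toEquiv
  obtain ⟨g, hg⟩ := MulAction.exists_smul_eq SL(2, F)
    (S.mapSurjective (f := e.toMonoidHom) e.surjective) (rootSylow p (inf F))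
  refine ⟨e.trans (MulAut.conj g), fun s => ?_⟩
  rw [← mem_rootSL_inf, ← coe_rootSylow p, ← hg, Sylow.coe_subgroup_smul, MulEquiv.trans_apply,
    ← MulAut.smul_def, smul_mem_pointwise_smul_iff]
  exact (mem_map_iff_mem (f := e.toMonoidHom) e.injective).symm

variable {X H : Type*} [Group X] [Group H]

/-- conjugation representation -/
def rep (V : Subgroup X) [IsMulCommutative V] (f : H →* X) (hf : ∀ g, f g ∈ normalizer (V : Set X)) :
    H →* Module.End ℤ (Additive V) where
  toFun g := (MonoidHom.toAdditive (V.normalizerMonoidHom ⟨f g, hf g⟩).toMonoidHom).toIntLinearMap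
  map_one' := by
    ext m
    change (f 1 * _ * (f 1)⁻¹ : X) = _
    simp
  map_mul' a b := by
    ext m
    change (f (a * b) * _ * (f (a * b))⁻¹ : X) = f a * (f b * _ * (f b)⁻¹) * (f a)⁻¹
    simp [mul_assoc]

theorem rep_apply {V : Subgroup X} [IsMulCommutative V] (f : H →* X)
    (hf : ∀ g, f g ∈ normalizer (V : Set X)) (g : H) (m : Additive V) :
    ((rep V f hf g m).toMul : X) = f g * (m.toMul : X) * (f g)⁻¹ := rfl

theorem main [Finite X] {p : ℕ} [hp : Fact p.Prime] {G V : Subgroup X} (hV : IsElementaryAbelian p V)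
    (hGV : G ≤ normalizer (V : Set X)) [Fintype F] {n : ℕ} (hF : Fintype.card F = p ^ n)
    (e₀ : G ≃* SL(2, F))
    (hirr : ∀ U : Subgroup X, U ≤ V → G ≤ normalizer (U : Set X) → U = ⊥ ∨ U = V)
    (hnt : ⁅V, G⁆ ≠ ⊥) (S : Sylow p G)
    (hyp : ⁅⁅V, (S : Subgroup G).map G.subtype⁆, (S : Subgroup G).map G.subtype⁆ = ⊥ ∨
      Nat.card V ≤ Nat.card ↥(V ⊓ centralizer (((S : Subgroup G).map G.subtype : Subgroup X) : Set X)) ^ 2) :
    ActsAsSL2OnSection F ⊤ G V ⊥ := by
  haveI := charP_of_card hF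
  haveI := hV.1
  obtain ⟨e, he⟩ := std_iso e₀ S
  let f : SL(2, F) →* X := G.subtype.comp e.symm.toMonoidHom
  have hf : ∀ g, f g ∈ normalizer (V : Set X) := fun g => hGV (e.symm g).2
  have hfe : ∀ g : G, f (e g) = g := fun g => by simp [f]
  let ρ := rep V f hf
  have hρ : ∀ g m, ((ρ g m).toMul : X) = f g * (m.toMul : X) * (f g)⁻¹ := rep_apply f hf
  have ext : ∀ {a b : Additive V}, (a.toMul : X) = b.toMul → a = b := fun h =>
    Additive.toMul.injective (Subtype.ext h)
  set T := (S : Subgroup G).map G.subtype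
  have hT : ∀ t, f (upper t) ∈ T := fun t => ⟨e.symm (upper t), (he _).2 ⟨t, by simp⟩, rfl⟩
  have hT' : ∀ x ∈ T, ∃ t, f (upper t) = x := by
    rintro _ ⟨s, hs, rfl⟩
    obtain ⟨b, hb⟩ := (he s).1 hs
    exact ⟨b, by rw [← hb, hfe]; rfl⟩
  have hI : Ir ρ := by
    constructor
    · intro W hW
      let U : Subgroup X := (AddSubgroup.toSubgroup' W.toAddSubgroup).map V.subtype
      have hU : ∀ v : V, (v : X) ∈ U ↔ Additive.ofMul v ∈ W := fun v =>
        mem_map_iff_mem V.subtype_injective
      rcases hirr U (map_subtype_le _) (fun g hg => mem_normalizer_fintype (by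
        rintro _ ⟨v, hv, rfl⟩
        exact ⟨(ρ (e ⟨g, hg⟩) (Additive.ofMul v)).toMul, hW _ _ hv, by
          rw [coe_subtype, hρ, hfe]; rfl⟩)) with h | h
      · left
        rw [eq_bot_iff]
        intro m hm
        have := (hU m.toMul).2 hm
        rw [h, mem_bot] at this
        exact ext this
      · right
        rw [eq_top_iff]
        intro m _
        exact (hU m.toMul).1 (by rw [h]; exact m.toMul.2)
    · by_contra hh
      push Not at hh
      refine hnt (commutator_eq_bot_iff_le_centralizer.2 fun v hv g hg => ?_)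
      have := hρ (e ⟨g, hg⟩) (Additive.ofMul ⟨v, hv⟩)
      rw [hh, hfe] at this
      exact mul_inv_eq_iff_eq_mul.1 this.symm
  have hX : ∀ t m, ((Nt.X ρ t m).toMul : X) = ⁅f (upper t), (m.toMul : X)⁆ := fun t m => by
    rw [Nt.X, LinearMap.sub_apply, toMul_sub, div_eq_mul_inv, coe_mul, hρ]; rfl
  have hq : ∀ s t, Nt.X ρ s * Nt.X ρ t = 0 := by
    rcases hyp with h | h
    · intro s t
      refine LinearMap.ext fun m => ext ?_
      rw [Module.End.mul_apply, hX, hX]
      rw [commutator_comm, commutator_comm V] at h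
      exact mem_bot.1 (h ▸ commutator_mem_commutator (hT s) (commutator_mem_commutator (hT t) m.toMul.2))
    · haveI : Nontrivial (Module.End ℤ (Additive V)) := by
        obtain ⟨g, hg⟩ := hI.nt
        exact ⟨_, _, hg⟩
      haveI : CharP (Module.End ℤ (Additive V)) p := (CharP.charP_iff_prime_eq_zero hp.out).2 (by
        refine LinearMap.ext fun m => ext ?_
        rw [Module.End.natCast_apply, toMul_nsmul, coe_pow, hV.2 _ m.toMul.2]; rfl)
      refine hI.quad_of_sup ?_ ⟨p, by
        rw [Nt.X, sub_pow_char_of_commute _ (Commute.one_right _), ← map_pow, upper_pow,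
          CharP.cast_eq_zero, zero_mul, upper_zero, map_one, one_pow, sub_self]⟩
      have c0 : Nat.card ↥(V ⊓ centralizer (T : Set X)) ≤ Nat.card (M0 ρ) :=
        Nat.card_le_card_of_injective (fun v => ⟨Additive.ofMul ⟨v, v.2.1⟩, mem0'.2 fun t => ext (by
          rw [hρ]; exact mul_inv_eq_iff_eq_mul.2 (v.2.2 _ (hT t)))⟩)
          fun a b hab => Subtype.ext (congrArg (fun m : M0 ρ => (m.1.toMul : X)) hab)
      have c1 : Nat.card (M0 ρ) ≤ Nat.card (M1 ρ) :=
        Nat.card_le_card_of_injective (fun v => ⟨ρ (nn 1) v, n_mem1 one_ne_zero v.2⟩)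
          fun a b hab => Subtype.ext (ρ_inj _ (congrArg Subtype.val hab))
      let g : M0 ρ × M1 ρ → Additive V := fun q => q.1 + q.2
      have hg : Function.Injective g := fun a b hab => by
        have h1 : (a.1 : Additive V) - b.1 = b.2 - a.2 := by
          rw [sub_eq_sub_iff_add_eq_add, add_comm (b.2 : Additive V)]; exact hab
        have h2 := hI.disj (sub_mem a.1.2 b.1.2) (h1 ▸ sub_mem b.2.2 a.2.2)
        exact Prod.ext (Subtype.ext (sub_eq_zero.1 h2)) (Subtype.ext (sub_eq_zero.1 (h1 ▸ h2)).symm)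
      have hs := ((Nat.bijective_iff_injective_and_card g).2 ⟨hg, le_antisymm
        (Nat.card_le_card_of_injective g hg) (by
          rw [Nat.card_prod]
          exact h.trans ((pow_two _).le.trans (Nat.mul_le_mul c0 (c0.trans c1))))⟩).2
      rw [eq_top_iff]
      intro m _
      obtain ⟨q, rfl⟩ := hs m
      exact Submodule.add_mem_sup q.1.2 q.2.2
  obtain ⟨φ, hφ⟩ := hI.nat hq
  refine ⟨hGV, bot_le, e.toMonoidHom, AddMonoidHom.toMultiplicativeRight φ.symm.toAddMonoidHom,
    MonoidHom.range_eq_top.2 e.surjective, φ.symm.surjective, fun u => ?_, fun g u =>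
      ⟨(ρ (e g) (Additive.ofMul u)).toMul, by rw [hρ, hfe]; rfl, ?_⟩⟩
  · change φ.symm (Additive.ofMul u) = 0 ↔ _
    rw [map_eq_zero_iff _ φ.symm.injective, mem_bot]
    exact ⟨fun h => congrArg (fun m : Additive V => (m.toMul : X)) h, fun h => ext h⟩
  · change φ.symm (ρ (e g) (Additive.ofMul u)) = _ *ᵥ φ.symm (Additive.ofMul u)
    rw [AddEquiv.symm_apply_eq]
    exact ((hφ _ _).trans (by rw [AddEquiv.apply_symm_apply]; rfl)).symm

end Cfsg.Agent.H22.Nt
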