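import Cfsg.Agent.H22.Hig2
import Cfsg.Agent.H22.Nat2
import Cfsg.Agent.H3.Frobenius

/-! Higman's theorem on `2`-groups admitting `SL₂(2ⁿ)`. -/

set_option autoImplicit false
set_option linter.style.haveILetI false

namespace Cfsg.Agent.H22.Hg

open Cfsg.Agent.H12 Cfsg.Agent.H22.Nt Subgroup
open scoped MatrixGroups commutatorElement IsMulCommutative

variable {G : Type*} [Group G] {Q : Subgroup G}

/-- every element of the coset `Q y` has order dividing three -/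
def C3 (Q : Subgroup G) (y : G) : Prop := ∀ a ∈ Q, (a * y) ^ 3 = 1

theorem C3.cube {y : G} (h : C3 Q y) : y * y * y = 1 := by
  simpa [pow_three'] using h 1 Q.one_mem

theorem C3.conj [hQ : Q.Normal] {y : G} (h : C3 Q y) (c : G) : C3 Q (c * y * c⁻¹) := fun a ha => by
  have := h _ (hQ.conj_mem' a ha c)
  calc _ = c * (c⁻¹ * a * c * y) ^ 3 * c⁻¹ := by rw [← conj_pow]; group
    _ = 1 := by rw [this]; simp

theorem C3.rel {y : G} (h : C3 Q y) {a : G} (ha : a ∈ Q) :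
    a * (y * a * y⁻¹) * (y * (y * a * y⁻¹) * y⁻¹) = 1 := by
  calc _ = (a * y) ^ 3 * (y * y * y)⁻¹ := by rw [pow_three']; group
    _ = 1 := by rw [h a ha, h.cube]; simp

theorem C3.comm {y : G} (h : C3 Q y) {a : G} (ha : a ∈ Q) : ⁅a, y * a * y⁻¹⁆ = 1 := by
  rw [commutatorElement_eq_one_iff_mul_comm, eq_inv_of_mul_eq_one_left (h.rel ha), ← mul_one (y * a * y⁻¹ * a),
    ← h.rel (Q.inv_mem ha)]
  simp [mul_assoc]

theorem c3_of_fpf [Finite G] [hQ : Q.Normal] {x : G} (hx : x ^ 3 = 1)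
    (hf : ∀ q ∈ Q, x * q * x⁻¹ = q → q = 1) : C3 Q x := fun a ha => by
  let f : Q → Q := fun b => ⟨b⁻¹ * (x * b * x⁻¹), Q.mul_mem (Q.inv_mem b.2) (hQ.conj_mem _ b.2 x)⟩
  have inj : Function.Injective f := fun b c e => by
    have e' : (b : G)⁻¹ * (x * b * x⁻¹) = (c : G)⁻¹ * (x * c * x⁻¹) := congrArg Subtype.val e
    have := hf (b * (c : G)⁻¹) (Q.mul_mem b.2 (Q.inv_mem c.2)) (by
      calc _ = b * ((b : G)⁻¹ * (x * b * x⁻¹)) * (x * (c : G)⁻¹ * x⁻¹) := by group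
        _ = _ := by rw [e']; group)
    exact Subtype.ext (mul_inv_eq_one.1 this)
  obtain ⟨b, hb⟩ := Finite.surjective_of_injective inj ⟨a, ha⟩
  have e : a = (b : G)⁻¹ * (x * b * x⁻¹) := (congrArg Subtype.val hb).symm
  calc _ = (b : G)⁻¹ * x ^ 3 * (b : G)⁻¹⁻¹ := by rw [← conj_pow, e]; group
    _ = 1 := by rw [hx]; simp

theorem C3.eq_one (hQ : IsPGroup 2 Q) {y : G} (h : C3 Q y) {a : G} (ha : a ∈ Q) (e : a * y = y * a) :
    a = 1 := by
  have h1 := h a ha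
  rw [Commute.mul_pow e, pow_three' y, h.cube, mul_one] at h1
  obtain ⟨k, hk⟩ := hQ ⟨a, ha⟩
  exact pow_eq_one_iff_of_coprime (Nat.Coprime.pow_right k (by norm_num)) |>.1 ⟨h1, congrArg Subtype.val hk⟩

theorem C3.twist [hQ : Q.Normal] (hc : ∀ a ∈ Q, ∀ b ∈ Q, ∀ c ∈ Q, ⁅a, b⁆ * c = c * ⁅a, b⁆) {y : G}
    (h : C3 Q y) {a b : G} (ha : a ∈ Q) (hb : b ∈ Q) :
    ⁅y * a * y⁻¹, b⁆ = y⁻¹ * ⁅a, b⁆ * y ∧ ⁅a, y * b * y⁻¹⁆ = y⁻¹ * ⁅a, b⁆ * y := by
  have l : ∀ a ∈ Q, ∀ b ∈ Q, ∀ c ∈ Q, ⁅a * b, c⁆ = ⁅a, c⁆ * ⁅b, c⁆ := fun a ha b hb c hc' => by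
    calc _ = a * ⁅b, c⁆ * (a⁻¹ * ⁅a, c⁆) := by simp only [commutatorElement_def]; group
      _ = ⁅b, c⁆ * ⁅a, c⁆ := by rw [← hc b hb c hc' a ha]; group
      _ = _ := (hc a ha c hc' _ (Q.mul_mem (hQ.conj_mem _ hc' _) (Q.inv_mem hc'))).symm
  have r : ∀ a ∈ Q, ∀ b ∈ Q, ∀ c ∈ Q, ⁅c, a * b⁆ = ⁅c, a⁆ * ⁅c, b⁆ := fun a ha b hb c hc' => by
    calc _ = ⁅c, a⁆ * (a * ⁅c, b⁆) * a⁻¹ := by simp only [commutatorElement_def]; group
      _ = _ := by rw [← hc c hc' b hb a ha]; group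
  have cm : ∀ {a}, a ∈ Q → y * a * y⁻¹ ∈ Q := fun ha => hQ.conj_mem _ ha y
  have sa : ∀ a ∈ Q, ∀ b ∈ Q, ⁅a, y * b * y⁻¹⁆ = ⁅y * a * y⁻¹, b⁆ := fun a ha b hb => by
    have := h.comm (Q.mul_mem ha hb)
    rw [← conj_mul, l a ha b hb _ (Q.mul_mem (cm ha) (cm hb)), r _ (cm ha) _ (cm hb) _ ha,
      r _ (cm ha) _ (cm hb) _ hb, h.comm ha, h.comm hb, one_mul, mul_one] at this
    rw [← commutatorElement_inv b]; exact eq_inv_of_mul_eq_one_left this
  have e : y * ⁅y * a * y⁻¹, b⁆ * y⁻¹ = ⁅a, b⁆ := by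
    rw [conjugate_commutatorElement, sa _ (cm (cm ha)) _ hb]
    congr 1
    calc _ = (y * y * y) * a * (y * y * y)⁻¹ := by group
      _ = a := by rw [h.cube]; simp
  rw [sa a ha b hb, and_self, ← e]; group

variable {F : Type*} [Field F] [Fintype F]

/-- the standing hypothesis -/
structure Hy (Q : Subgroup G) (π : G →* SL(2, F)) (x : G) : Prop where
  h2 : (2 : F) = 0
  h4 : 4 ≤ Fintype.card F
  pQ : IsPGroup 2 Q
  sur : Function.Surjective π
  ker : π.ker = Q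
  c3 : C3 Q x
  tr : (π x).1.trace = 1

variable [hQ : Q.Normal] {π : G →* SL(2, F)} {x : G}

theorem Hy.lift (h : Hy Q π x) {g : SL(2, F)} (hg : g.1.trace = 1) : ∃ y, π y = g ∧ C3 Q y := by
  obtain ⟨c, hc⟩ := isConj_iff.1 (conj_of_tr h.h2 (h.tr.trans_ne one_ne_zero) (h.tr.trans hg.symm))
  obtain ⟨c, rfl⟩ := h.sur c
  exact ⟨c * x * c⁻¹, by simpa using hc, h.c3.conj c⟩

theorem Hy.ab2 (h : Hy Q π x) (hc : ∀ a ∈ Q, ∀ b ∈ Q, ∀ c ∈ Q, ⁅a, b⁆ * c = c * ⁅a, b⁆) :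
    ⁅Q, Q⁆ = ⊥ := by
  let C := centralizer ((⁅Q, Q⁆ : Subgroup G) : Set G)
  have mC : ∀ {w}, (∀ a ∈ Q, ∀ b ∈ Q, ⁅a, b⁆ * w = w * ⁅a, b⁆) → w ∈ C := fun {w} hw c hc =>
    ((commutator_le (H₃ := centralizer {w})).2 (fun a ha b hb => mem_centralizer_singleton_iff.2
      (hw a ha b hb)) hc w rfl).symm
  haveI : (C.map π).Normal := Normal.map inferInstance π h.sur
  let f := QuotientGroup.mk' (C.map π)
  obtain ⟨u, v, hu, hv, huv⟩ := two_gen h.h2 h.h4
  obtain ⟨y, rfl, hy⟩ := h.lift hu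
  obtain ⟨z, rfl, hz⟩ := h.lift hv
  have c1 : f (π y) * f (π z) = f (π z) * f (π y) := by
    rw [← commutatorElement_eq_one_iff_mul_comm, ← map_commutatorElement, ← map_commutatorElement]
    refine (QuotientGroup.eq_one_iff _).2 (mem_map_of_mem π (mC fun a ha b hb => ?_))
    have e1 := (hy.twist hc ha (hQ.conj_mem _ hb z)).1
    have e2 := (hz.twist hc (hQ.conj_mem _ ha y) hb).2
    rw [(hz.twist hc ha hb).2] at e1
    rw [(hy.twist hc ha hb).1, e1] at e2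
    generalize ⁅a, b⁆ = w at e2
    calc _ = y * z * (z⁻¹ * (y⁻¹ * w * y) * z) * y⁻¹ * z⁻¹ := by simp only [commutatorElement_def]; group
      _ = _ := by rw [← e2]; simp only [commutatorElement_def]; group
  have c2 : ∀ g, f g * f (π y) = f (π y) * f g := fun g => by
    have : closure {π y, π z} ≤ (centralizer {f (π y)}).comap f := (closure_le _).2 (by
      rintro _ (rfl | rfl)
      exacts [mem_centralizer_singleton_iff.2 rfl, mem_centralizer_singleton_iff.2 c1.symm])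
    exact mem_centralizer_singleton_iff.1 (this (huv.ge (mem_top g)))
  obtain ⟨c, hc'⟩ := isConj_iff.1 (conj_of_tr h.h2 (hu.trans_ne one_ne_zero) (tr_inv (π y)).symm)
  have c3 : f (π y) = 1 := by
    have e : f (π y) = (f (π y))⁻¹ := by
      rw [← map_inv, ← hc', map_mul, map_mul, c2, map_inv, mul_inv_cancel_right]
    have e3 : f (π y) * f (π y) * f (π y) = 1 := by rw [← map_mul, ← map_mul, ← map_mul, ← map_mul, hy.cube]; simp
    rwa [mul_eq_one_iff_eq_inv.2 e, one_mul] at e3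
  have yC : y ∈ C := by
    have : y ∈ (C.map π).comap π := (QuotientGroup.eq_one_iff (π y)).1 c3
    rwa [comap_map_eq, h.ker, sup_of_le_left (fun c hc' => mC fun a ha b hb => hc a ha b hb c hc')] at this
  exact eq_bot_iff.2 fun c hc' => hy.eq_one h.pQ (commutator_le_left Q Q hc') (yC c hc')

theorem Hy.ab [Finite G] (h : Hy Q π x) : IsMulCommutative Q := by
  let N := ⁅⁅Q, Q⁆, Q⁆
  have hN : N ≤ π.ker := h.ker ▸ commutator_le_right _ _
  let f := QuotientGroup.mk' N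
  haveI : (Q.map f).Normal := hQ.map f (QuotientGroup.mk'_surjective N)
  have h' : Hy (Q.map f) (QuotientGroup.lift N π hN) (f x) :=
    ⟨h.h2, h.h4, h.pQ.map f, QuotientGroup.lift_surjective_of_surjective N π h.sur hN,
      by rw [QuotientGroup.ker_lift, h.ker], by
        rintro _ ⟨a, ha, rfl⟩; rw [← map_mul, ← map_pow, h.c3 a ha, map_one], h.tr⟩
  have := h'.ab2 (by
    rintro _ ⟨a, ha, rfl⟩ _ ⟨b, hb, rfl⟩ _ ⟨c, hc, rfl⟩
    rw [← commutatorElement_eq_one_iff_mul_comm, ← map_commutatorElement, ← map_commutatorElement]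
    exact (QuotientGroup.eq_one_iff _).2 (commutator_mem_commutator (commutator_mem_commutator ha hb) hc))
  rw [← map_commutator, Subgroup.map_eq_bot_iff, QuotientGroup.ker_mk'] at this
  have := H3.eq_bot_of_le_commutator h.pQ.isNilpotent (commutator_le_left Q Q) this
  exact le_centralizer_iff_isMulCommutative.1 (commutator_eq_bot_iff_le_centralizer.1 this)

theorem Hy.main [Finite G] (h : Hy Q π x) {n : ℕ} (hF : Fintype.card F = 2 ^ n) :
    IsElementaryAbelian 2 Q ∧ ∃ (k : ℕ) (V : Fin k → Subgroup G), (∀ i, V i ≤ Q ∧ (V i).Normal ∧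
      ActsAsSL2OnSection F ⊤ ⊤ (V i) ⊥) ∧ iSupIndep V ∧ ⨆ i, V i = Q := by
  haveI := h.ab
  have ext : ∀ {a b : Additive Q}, (a.toMul : G) = b.toMul → a = b := fun h =>
    Additive.toMul.injective (Subtype.ext h)
  let ρ₀ := rep Q (MonoidHom.id G) fun g => normalizer_eq_top Q ▸ mem_top g
  let e := QuotientGroup.liftEquiv Q h.sur h.ker.symm
  have hk : Q ≤ ρ₀.ker := fun a ha => LinearMap.ext fun m => ext (by
    change a * (m.toMul : G) * a⁻¹ = m.toMul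
    rw [mul_inv_eq_iff_eq_mul]
    exact congrArg Subtype.val (mul_comm (⟨a, ha⟩ : Q) m.toMul))
  let ρ : SL(2, F) →* Module.End ℤ (Additive Q) := (QuotientGroup.lift Q ρ₀ hk).comp e.symm.toMonoidHom
  have hρ : ∀ g m, ((ρ (π g) m).toMul : G) = g * (m.toMul : G) * g⁻¹ := fun g m => by
    have : e.symm (π g) = g := e.symm_apply_eq.2 rfl
    change ((QuotientGroup.lift Q ρ₀ hk (e.symm (π g)) m).toMul : G) = _
    rw [this]; rfl
  have h3 : ∀ g : SL(2, F), g.1.trace = 1 → ρ g * ρ g + ρ g + 1 = 0 := fun g hg => by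
    obtain ⟨y, rfl, hy⟩ := h.lift hg
    refine LinearMap.ext fun m => ext ?_
    rw [add_comm, add_comm (_ * _), ← add_assoc]
    change (m.toMul : G) * (ρ (π y) m).toMul * (ρ (π y) (ρ (π y) m)).toMul = 1
    rw [hρ, hρ, hρ, hy.rel m.toMul.2]
  have el : ∀ a ∈ Q, a ^ 2 = 1 := fun a ha => by
    have h6 : a ^ 6 = 1 := congrArg (fun m : Additive Q => (m.toMul : G))
      (LinearMap.congr_fun (six h.h2 h.h4 h3) (Additive.ofMul ⟨a, ha⟩))
    obtain ⟨k, hk⟩ := h.pQ ⟨a ^ 2, Q.pow_mem ha 2⟩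
    exact pow_eq_one_iff_of_coprime (m := 3) (Nat.Coprime.pow_right k (by norm_num)) |>.1
      ⟨by rw [← pow_mul, h6], congrArg Subtype.val hk⟩
  have r2 : (2 : Module.End ℤ (Additive Q)) = 0 := LinearMap.ext fun m => ext (el _ m.toMul.2)
  obtain ⟨k, Φ, hΦ⟩ := (wk_of h.h2 r2 h3).nat (quadR h.h2 h.h4 h3 r2 hF)
  let Ψ : Multiplicative (Fin k → Fin 2 → F) →* G :=
    Q.subtype.comp (AddMonoidHom.toMultiplicativeLeft Φ.toAddMonoidHom)
  have hΨ : ∀ v, Ψ v = (Φ v.toAdd).toMul := fun _ => rfl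
  have inj : Function.Injective Ψ := fun a b e => Φ.injective (ext e)
  let s : Fin k → Multiplicative (Fin 2 → F) →* Multiplicative (Fin k → Fin 2 → F) := fun i =>
    AddMonoidHom.toMultiplicative (AddMonoidHom.single (fun _ => Fin 2 → F) i)
  have hs : ∀ i v, (s i v).toAdd = Pi.single i v.toAdd := fun _ _ => rfl
  have si : ∀ i, Function.Injective (Ψ.comp (s i)) := fun i a b e =>
    Pi.single_injective (M := fun _ => Fin 2 → F) i (inj e)
  have eqv : ∀ i g v, g * Ψ (s i v) * g⁻¹ =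
      Ψ (s i (Multiplicative.ofAdd ((π g).1.mulVec v.toAdd))) := fun i g v => by
    rw [hΨ, hΨ, ← hρ, ← hΦ, hs, hs]
    congr 3
    ext j : 1
    by_cases hj : j = i
    · subst hj; simp
    · simp [Pi.single_eq_of_ne hj]
  have nV : ∀ i, (Ψ.comp (s i)).range.Normal := fun i => ⟨by
    rintro _ ⟨v, rfl⟩ g; exact ⟨_, (eqv i g v).symm⟩⟩
  refine ⟨⟨inferInstance, el⟩, k, fun i => (Ψ.comp (s i)).range, fun i => ⟨?_, nV i, ?_⟩, fun i => ?_, ?_⟩
  · rintro _ ⟨v, rfl⟩; exact (Φ _).toMul.2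
  · let E := MonoidHom.ofInjective (si i)
    have hE : ∀ u, Ψ (s i (E.symm u)) = u := fun u => MonoidHom.apply_ofInjective_symm (si i) u
    refine ⟨(normalizer_eq_top _).ge, bot_le, π.comp (Subgroup.subtype ⊤), E.symm.toMonoidHom,
      MonoidHom.range_eq_top.2 fun g => ?_, E.symm.surjective, fun u => ?_, fun g u =>
        ⟨E (Multiplicative.ofAdd ((π g).1.mulVec (E.symm u).toAdd)), ?_, ?_⟩⟩
    · obtain ⟨g, rfl⟩ := h.sur g; exact ⟨⟨g, mem_top g⟩, rfl⟩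
    · change E.symm u = 1 ↔ _
      rw [map_eq_one_iff _ E.symm.injective, mem_bot, OneMemClass.coe_eq_one]
    · rw [← hE u, eqv]; rfl
    · change (E.symm (E _)).toAdd = _
      rw [MulEquiv.symm_apply_apply]; rfl
  · let W : Subgroup G := (AddMonoidHom.toMultiplicative
      (Pi.evalAddMonoidHom (fun _ : Fin k => Fin 2 → F) i)).ker.map Ψ
    refine Disjoint.mono_right (c := W) (iSup₂_le fun j hj => ?_) (disjoint_def.2 ?_)
    · rintro _ ⟨v, rfl⟩
      exact ⟨s j v, Pi.single_eq_of_ne (M := fun _ => Fin 2 → F) (Ne.symm hj) _, rfl⟩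
    · rintro _ ⟨v, rfl⟩ ⟨w, hw, e⟩
      obtain rfl := inj e
      have : v.toAdd = 0 := (Pi.single_eq_same (M := fun _ => Fin 2 → F) i _).symm.trans hw
      rw [show v = 1 from this, map_one]
  · refine le_antisymm (iSup_le fun i => by rintro _ ⟨v, rfl⟩; exact (Φ _).toMul.2) fun a ha => ?_
    obtain ⟨v, hv⟩ := Φ.surjective (Additive.ofMul ⟨a, ha⟩)
    have : Multiplicative.ofAdd v ∈ (⨆ i, (Ψ.comp (s i)).range).comap Ψ := by
      rw [← Finset.univ_sum_single v, ofAdd_sum]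
      exact prod_mem fun i _ => mem_iSup_of_mem i ⟨Multiplicative.ofAdd (v i), rfl⟩
    rwa [mem_comap, hΨ, toAdd_ofAdd, hv] at this

end Cfsg.Agent.H22.Hg
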