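import Cfsg.Agent.H25.SubCount
import Cfsg.Agent.H25.CycCount
import Cfsg.Agent.H25.Cyc

/-! Counting subgroups of `p`-groups modulo `p²` (Kulakoff, P. Hall). -/

set_option autoImplicit false
set_option linter.style.haveILetI false

namespace Cfsg.Agent.H22K

open Subgroup

/-- the number of subgroups with a property, as an integer -/
noncomputable def cnt {G : Type*} [Group G] (P : Subgroup G → Prop) : ℤ :=
  Nat.card {H : Subgroup G // P H}

variable {G : Type*} [Group G] [Finite G] {p : ℕ} [hp : Fact p.Prime]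

omit [Finite G] hp in
theorem cnt_congr {P Q : Subgroup G → Prop} (h : ∀ H, P H ↔ Q H) : cnt P = cnt Q := by
  rw [show P = Q from funext fun H => propext (h H)]

omit hp in
theorem cnt_eq (P : Subgroup G → Prop) [DecidablePred P] [Fintype (Subgroup G)] :
    cnt P = ∑ H : Subgroup G, if P H then 1 else 0 := by
  rw [cnt, Nat.card_eq_fintype_card, Fintype.card_subtype, Finset.card_filter]
  push_cast; rfl

omit hp in
theorem cnt_split (P Q : Subgroup G → Prop) :
    cnt P = cnt (fun H => P H ∧ Q H) + cnt fun H => P H ∧ ¬ Q H := by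
  classical
  haveI := Fintype.ofFinite (Subgroup G)
  simp only [cnt_eq, ← Finset.sum_add_distrib]
  refine Finset.sum_congr rfl fun H _ => ?_
  by_cases a : P H <;> by_cases b : Q H <;> simp [a, b]

omit hp in
theorem cnt_zero {P : Subgroup G → Prop} (h : ∀ H, ¬ P H) : cnt P = 0 := by
  haveI : IsEmpty {H // P H} := ⟨fun H => h _ H.2⟩
  simp [cnt]

omit [Finite G] hp in
theorem cnt_one {P : Subgroup G → Prop} {K : Subgroup G} (h : ∀ H, P H ↔ H = K) : cnt P = 1 := by
  rw [cnt_congr h, cnt]; simp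

theorem frattini_le_of_index (hG : IsPGroup p G) {M : Subgroup G} (h : M.index = p) :
    frattini G ≤ M := by
  refine frattini_le_coatom ⟨fun h' => hp.out.one_lt.ne (by rw [← h, h', index_top]), fun K hK => ?_⟩
  have h2 := index_dvd_of_le hK.le
  rw [h] at h2
  rcases (Nat.dvd_prime hp.out).1 h2 with h3 | h3
  · exact index_eq_one.1 h3
  · exfalso
    have := relIndex_mul_index hK.le
    rw [h3, h, mul_eq_right₀ hp.out.ne_zero, relIndex_eq_one] at this
    exact hK.not_ge this

theorem normal_of_frattini_le (hG : IsPGroup p G) {N : Subgroup G} (h : frattini G ≤ N) : N.Normal := by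
  haveI := hG.isNilpotent
  exact Normal.of_commutator_le _ (H1.commutator_le_frattini.trans h)

theorem cnt_ea {A : Type*} [CommGroup A] [Finite A] (h : ∀ a : A, a ^ p = 1) :
    (p - 1 : ℤ) * cnt (fun H : Subgroup A => H.index = p) + 1 = Nat.card A := by
  haveI : NeZero (Monoid.exponent A) := ⟨Monoid.exponent_ne_zero_of_finite⟩
  have hc := CommGroup.card_monoidHom_of_hasEnoughRootsOfUnity A ℂ
  haveI : Finite (A →* ℂˣ) := Nat.finite_of_card_ne_zero (by rw [hc]; exact Nat.card_pos.ne')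
  have h2 := H9.card_orderOf_eq_prime (L := A →* ℂˣ) (p := p)
  have h3 : Nat.card (A →* ℂˣ) = Nat.card {x : A →* ℂˣ // orderOf x = p} + 1 := by
    change _ = Set.ncard {x : A →* ℂˣ | orderOf x = p} + 1
    rw [← Set.ncard_insert_of_notMem (a := 1) (by simpa using hp.out.one_lt.ne), ← Set.ncard_univ]
    congr 1
    ext x
    have : orderOf x ∣ p := orderOf_dvd_of_pow_eq_one (by ext a; simp [← map_pow, h])
    rw [Nat.dvd_prime hp.out, orderOf_eq_one_iff] at this
    simpa only [Set.mem_ofPred_eq, Set.mem_insert_iff, Set.mem_univ, true_iff] using this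
  rw [cnt, Nat.card_congr ((CommGroup.subgroupOrderIsoSubgroupMonoidHom A ℂ).toEquiv.subtypeEquiv
    (p := fun H => H.index = p) (q := fun K => Nat.card K.ofDual = p) fun H => by
      rw [index, ← CommGroup.card_subgroupOrderIsoSubgroupMonoidHom ℂ H]; rfl), ← hc, h3, h2]
  push_cast [Nat.cast_sub hp.out.one_le]
  rfl

theorem cnt_max (hG : IsPGroup p G) (H : Subgroup G) :
    (p - 1 : ℤ) * cnt (fun M : Subgroup G => H ≤ M ∧ M.index = p) + 1 = (H ⊔ frattini G).index := by
  haveI := normal_of_frattini_le hG (le_sup_right : _ ≤ H ⊔ frattini G)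
  haveI := hG.isNilpotent
  rw [cnt_congr (Q := fun M => H ⊔ frattini G ≤ M ∧ M.index = p) fun M => ⟨fun h =>
    ⟨sup_le h.1 (frattini_le_of_index hG h.2), h.2⟩, fun h => ⟨le_sup_left.trans h.1, h.2⟩⟩, cnt,
    H25.card_over_normal]
  simp only [index_comap_of_surjective _ (QuotientGroup.mk'_surjective _)]
  haveI : IsMulCommutative (G ⧸ (H ⊔ frattini G)) :=
    Normal.quotient_commutative_iff_commutator_le.2 (H1.commutator_le_frattini.trans le_sup_right)
  letI : CommGroup (G ⧸ (H ⊔ frattini G)) := { mul_comm := fun a b => mul_comm' a b }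
  refine cnt_ea (A := G ⧸ (H ⊔ frattini G)) fun a => ?_
  obtain ⟨a, rfl⟩ := QuotientGroup.mk_surjective a
  rw [← QuotientGroup.mk_pow, QuotientGroup.eq_one_iff]
  exact mem_sup_right (H1.pow_mem_frattini hG a)

theorem cnt_sub (k : ℕ) (hd : p ^ k ∣ Nat.card G) :
    cnt (fun H : Subgroup G => Nat.card H = p ^ k) ≡ 1 [ZMOD p] := by
  have := Int.natCast_modEq_iff.2 (H25.card_subgroups_modEq (G := G) k hd)
  simpa [cnt] using this

omit [Finite G] hp in
theorem cnt_under (B : Subgroup G) (n : ℕ) :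
    cnt (fun H : Subgroup G => H ≤ B ∧ Nat.card H = n) = cnt fun K : Subgroup B => Nat.card K = n := by
  simp only [cnt, H25.card_under, card_map_of_injective B.subtype_injective]

theorem cnt_two (hG : IsPGroup p G) (H : Subgroup G) {e : ℕ} (he : (H ⊔ frattini G).index = p ^ e) :
    cnt (fun L : Subgroup G => H ≤ L ∧ frattini G ≤ L ∧ L.index = p ^ 2) ≡
      if 2 ≤ e then 1 else 0 [ZMOD p] := by
  haveI := normal_of_frattini_le hG (le_sup_right : _ ≤ H ⊔ frattini G)
  split_ifs with h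
  · rw [cnt_congr (Q := fun M => H ⊔ frattini G ≤ M ∧ M.index = p ^ 2) fun M => by
      rw [sup_le_iff, and_assoc], cnt, H25.card_over_normal]
    simp only [index_comap_of_surjective _ (QuotientGroup.mk'_surjective _)]
    obtain ⟨d, rfl⟩ := Nat.exists_eq_add_of_le h
    have hc : Nat.card (G ⧸ (H ⊔ frattini G)) = p ^ (2 + d) := he
    refine Int.ModEq.trans (congrArg (· % (p : ℤ)) (cnt_congr fun K => ?_))
      (cnt_sub (G := G ⧸ (H ⊔ frattini G)) d (hc ▸ pow_dvd_pow _ le_add_self))
    have := K.index_mul_card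
    rw [hc, pow_add] at this
    exact ⟨fun a => Nat.eq_of_mul_eq_mul_left (pow_pos hp.out.pos _) (a ▸ this),
      fun a => Nat.eq_of_mul_eq_mul_right (pow_pos hp.out.pos _) (a ▸ this)⟩
  · rw [cnt_zero fun L a => h ?_]
    have := index_dvd_of_le (sup_le a.1 a.2.1)
    rwa [he, a.2.2, Nat.pow_dvd_pow_iff_le_right hp.out.one_lt] at this

theorem cnt_max_mod (hG : IsPGroup p G) {H : Subgroup G} (hH : H ≠ ⊤) {e : ℕ}
    (he : (H ⊔ frattini G).index = p ^ e) :
    cnt (fun M : Subgroup G => H ≤ M ∧ M.index = p) ≡ 1 + p * if 2 ≤ e then 1 else 0 [ZMOD p ^ 2] := by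
  have h := cnt_max hG H
  rw [he] at h
  push_cast at h
  set n := cnt (fun M : Subgroup G => H ≤ M ∧ M.index = p)
  split_ifs with h2
  · obtain ⟨d, rfl⟩ := Nat.exists_eq_add_of_le h2
    exact (Int.modEq_iff_dvd.2 ⟨(1 + p) * p ^ d - n, by
      rw [pow_add] at h; linear_combination (1 + p : ℤ) * h⟩)
  · have : e ≠ 0 := fun a => hH (by
      rw [a, pow_zero, index_eq_one] at he; exact frattini_nongenerating he)
    obtain rfl : e = 1 := by omega
    have h3 : (p - 1 : ℤ) ≠ 0 := by have := hp.out.one_lt; omega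
    rw [show n = 1 from mul_left_cancel₀ h3 (by linear_combination h)]
    simp

theorem exists_e (hG : IsPGroup p G) (H : Subgroup G) : ∃ e, (H ⊔ frattini G).index = p ^ e :=
  hG.index _

theorem two_le_of_not_cyclic (hc : ¬ IsCyclic G) {e : ℕ} (he : (⊥ ⊔ frattini G).index = p ^ e) :
    2 ≤ e := by
  by_contra h
  rw [bot_sup_eq] at he
  refine hc (H1.isCyclic_of_isCyclic_quotient_frattini (isCyclic_of_card_dvd_prime (p := p) ?_))
  rw [show Nat.card (G ⧸ frattini G) = p ^ e from he]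
  exact (pow_dvd_pow p (by omega : e ≤ 1)).trans (pow_one p).dvd

theorem cnt_max_nc (hG : IsPGroup p G) (hc : ¬ IsCyclic G) :
    cnt (fun M : Subgroup G => M.index = p) ≡ 1 + p [ZMOD p ^ 2] := by
  obtain ⟨e, he⟩ := exists_e hG ⊥
  have := cnt_max_mod hG (H := ⊥) (fun a => hc (by
    haveI := subsingleton_of_bot_eq_top a; haveI := Subgroup.subsingleton_iff.1 this; infer_instance)) he
  simpa [two_le_of_not_cyclic hc he] using this

theorem cnt_max_one (hG : IsPGroup p G) {H : Subgroup G} (hH : H ≠ ⊤) :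
    cnt (fun M : Subgroup G => H ≤ M ∧ M.index = p) ≡ 1 [ZMOD p] := by
  obtain ⟨e, he⟩ := exists_e hG H
  refine ((cnt_max_mod hG hH he).of_dvd (dvd_pow_self _ two_ne_zero)).trans ?_
  split_ifs <;> simp [Int.modEq_iff_dvd]

omit hp in
theorem dc (P Q : Subgroup G → Prop) [DecidablePred P] [DecidablePred Q] [Fintype (Subgroup G)] :
    ∑ H : Subgroup G, (if P H then cnt fun M => H ≤ M ∧ Q M else 0) =
      ∑ M : Subgroup G, if Q M then cnt fun H => H ≤ M ∧ P H else 0 := by
  classical
  have : ∀ (c : Prop) [Decidable c] (f : Subgroup G → ℤ), (if c then ∑ M, f M else 0) = ∑ M, if c then f M else 0 :=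
    fun c _ f => by split_ifs <;> simp
  simp only [cnt_eq, this]
  rw [Finset.sum_comm]
  refine Finset.sum_congr rfl fun M _ => Finset.sum_congr rfl fun H _ => ?_
  by_cases a : P H <;> by_cases b : Q M <;> simp [a, b]

/-- the basic recursion -/
theorem step {m k : ℕ} (hG : Nat.card G = p ^ m) (hc : ¬ IsCyclic G) (hk : k + 2 ≤ m)
    (B : Subgroup G → Prop) (h1 : ∀ M : Subgroup G, M.index = p → B M →
      cnt (fun K : Subgroup M => Nat.card K = p ^ k) ≡ 1 [ZMOD p ^ 2])
    (h2 : ∀ M : Subgroup G, M.index = p → ¬ B M →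
      cnt (fun K : Subgroup M => Nat.card K = p ^ k) ≡ 1 + p [ZMOD p ^ 2]) :
    cnt (fun K : Subgroup G => Nat.card K = p ^ k) ≡
      1 + p - p * cnt fun M => M.index = p ∧ B M [ZMOD p ^ 2] := by
  classical
  haveI := Fintype.ofFinite (Subgroup G)
  have hp' := IsPGroup.of_card hG
  have a1 := dc (fun H : Subgroup G => Nat.card H = p ^ k) fun M => M.index = p
  have a2 := dc (fun H : Subgroup G => Nat.card H = p ^ k) fun L => frattini G ≤ L ∧ L.index = p ^ 2
  have a3 : ∑ M : Subgroup G, (if frattini G ≤ M ∧ M.index = p ^ 2 then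
      cnt fun H => H ≤ M ∧ Nat.card H = p ^ k else 0) ≡ 1 [ZMOD p] := by
    obtain ⟨e, he⟩ := exists_e hp' ⊥
    have := cnt_two hp' ⊥ he
    rw [if_pos (two_le_of_not_cyclic hc he), cnt_eq] at this
    refine Int.ModEq.trans (Int.ModEq.sum fun L _ => ?_) this
    simp only [bot_le, true_and]
    split_ifs with h
    · rw [cnt_under]
      refine cnt_sub k ?_
      have := L.index_mul_card
      obtain ⟨d, rfl⟩ := Nat.exists_eq_add_of_le hk
      rw [hG, h.2, show p ^ (k + 2 + d) = p ^ 2 * (p ^ k * p ^ d) by ring] at this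
      exact ⟨_, Nat.eq_of_mul_eq_mul_left (pow_pos hp.out.pos _) this⟩
    · rfl
  have a4 : ∑ H : Subgroup G, (if Nat.card H = p ^ k then cnt fun M => H ≤ M ∧ M.index = p else 0) ≡
      ∑ H : Subgroup G, ((if Nat.card H = p ^ k then 1 else 0) + p * if Nat.card H = p ^ k then
        cnt fun L => H ≤ L ∧ frattini G ≤ L ∧ L.index = p ^ 2 else 0) [ZMOD p ^ 2] := by
    refine Int.ModEq.sum fun H _ => ?_
    split_ifs with h
    · obtain ⟨e, he⟩ := exists_e hp' H
      refine (cnt_max_mod hp' (fun a => ?_) he).trans (Int.ModEq.add_left _ ?_)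
      · rw [a, card_top, hG, Nat.pow_right_inj hp.out.one_lt] at h
        omega
      · rw [sq]; exact (cnt_two hp' H he).symm.mul_left'
    · simp
  have a5 : ∑ M : Subgroup G, (if M.index = p then cnt fun H => H ≤ M ∧ Nat.card H = p ^ k else 0) ≡
      ∑ M : Subgroup G, ((1 + p) * (if M.index = p then 1 else 0) -
        p * if M.index = p ∧ B M then 1 else 0) [ZMOD p ^ 2] := by
    refine Int.ModEq.sum fun M _ => ?_
    by_cases h : M.index = p
    · rw [if_pos h, cnt_under]
      by_cases b : B M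
      · simpa [h, b] using h1 M h b
      · simpa [h, b] using h2 M h b
    · simp [h]
  rw [Finset.sum_add_distrib, ← Finset.mul_sum, ← cnt_eq, a2, a1] at a4
  rw [Finset.sum_sub_distrib, ← Finset.mul_sum, ← Finset.mul_sum, ← cnt_eq, ← cnt_eq] at a5
  obtain ⟨c1, e1⟩ := a3.dvd
  obtain ⟨c2, e2⟩ := (a4.symm.trans a5).dvd
  obtain ⟨c3, e3⟩ := (cnt_max_nc hp' hc).dvd
  exact Int.modEq_iff_dvd.2 ⟨c2 + (1 + p) * c3 - c1 - 1, by
    linear_combination e2 + (1 + p : ℤ) * e3 - (p : ℤ) * e1⟩

theorem cnt_cyc [IsCyclic G] {k : ℕ} (hd : p ^ k ∣ Nat.card G) :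
    cnt (fun K : Subgroup G => Nat.card K = p ^ k) = 1 := by
  obtain ⟨K, hK⟩ := Sylow.exists_subgroup_card_pow_prime p hd
  exact cnt_one fun H => ⟨fun h => H25.eq_of_card_eq_of_isCyclic (C := ⊤) le_top le_top
    (h.trans hK.symm), fun h => h ▸ hK⟩

theorem card_of_index {m : ℕ} (hG : Nat.card G = p ^ (m + 1)) {M : Subgroup G} :
    M.index = p ↔ Nat.card M = p ^ m := by
  have := M.index_mul_card
  rw [hG, pow_succ'] at this
  exact ⟨fun a => Nat.eq_of_mul_eq_mul_left hp.out.pos (a ▸ this),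
    fun a => Nat.eq_of_mul_eq_mul_right (pow_pos hp.out.pos _) (a ▸ this)⟩

theorem cnt_top {m : ℕ} (hG : Nat.card G = p ^ (m + 1)) (hc : ¬ IsCyclic G) :
    cnt (fun K : Subgroup G => Nat.card K = p ^ m) ≡ 1 + p [ZMOD p ^ 2] := by
  rw [← cnt_congr fun M => card_of_index hG]
  exact cnt_max_nc (IsPGroup.of_card hG) hc

universe u

theorem kul_odd (hp2 : p ≠ 2) {k : ℕ} (hk : 1 ≤ k) (m : ℕ) : ∀ (G : Type u) [Group G] [Finite G],
    Nat.card G = p ^ m → ¬ IsCyclic G → k < m →
    cnt (fun K : Subgroup G => Nat.card K = p ^ k) ≡ 1 + p [ZMOD p ^ 2] := by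
  induction m with
  | zero => exact fun _ _ _ _ _ h => absurd h (Nat.not_lt_zero _)
  | succ m ih =>
    intro G _ _ hG hc hm
    rcases (Nat.lt_succ_iff.1 hm).eq_or_lt with rfl | hm
    · exact cnt_top hG hc
    refine (step hG hc (by omega) (fun M => IsCyclic M) (fun M h b => ?_)
      fun M h b => ih M ((card_of_index hG).1 h) b hm).trans ?_
    · rw [cnt_cyc ((card_of_index hG).1 h ▸ pow_dvd_pow p hm.le)]
    · obtain ⟨c, hc⟩ := (H25.dvd_card_cyc_iff (by omega)).1
        (H25.pow_dvd_card_order_pgroup (IsPGroup.of_card hG) hp2 hc (s := m) (by omega))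
      rw [cnt_congr (Q := fun H => IsCyclic H ∧ Nat.card H = p ^ m) fun M => by
        rw [card_of_index hG, and_comm], cnt, hc]
      exact Int.modEq_iff_dvd.2 ⟨c, by push_cast; ring⟩

end Cfsg.Agent.H22K
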