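import Cfsg.Agent.H12.Root2

/-! Quadratic modules for `SL₂(F)` are natural. -/

set_option autoImplicit false
set_option linter.style.haveILetI false

namespace Cfsg.Agent.H22.Nt

open Matrix Cfsg.Agent.H12
open scoped MatrixGroups

variable {F : Type*} [Field F] {M : Type*} [AddCommGroup M]

/-- the monomial element -/
def nn (t : F) : SL(2, F) := upper t * lower (-t⁻¹) * upper t

theorem nn_coe {t : F} (ht : t ≠ 0) : (nn t : Matrix (Fin 2) (Fin 2) F) = !![0, t; -t⁻¹, 0] := by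
  simp only [nn, SpecialLinearGroup.coe_mul, upper_coe, lower_coe, mul_fin_two]
  ext i j; fin_cases i <;> fin_cases j <;> simp [ht]

theorem nn_eq {t : F} (ht : t ≠ 0) : nn t = lower (-t⁻¹) * upper t * lower (-t⁻¹) := by
  apply Subtype.ext
  change (nn t : Matrix (Fin 2) (Fin 2) F) = ((_ : SL(2, F)) : Matrix (Fin 2) (Fin 2) F)
  simp only [nn_coe ht, SpecialLinearGroup.coe_mul, upper_coe, lower_coe, mul_fin_two]
  ext i j; fin_cases i <;> fin_cases j <;> simp [ht]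

theorem nn_upper {t : F} (ht : t ≠ 0) (s : F) : nn t * upper s = lower (-(s * t⁻¹ ^ 2)) * nn t := by
  apply Subtype.ext
  change (nn t : Matrix (Fin 2) (Fin 2) F) * (upper s : SL(2, F)) =
    (lower _ : SL(2, F)) * (nn t : Matrix (Fin 2) (Fin 2) F)
  simp only [nn_coe ht, upper_coe, lower_coe, mul_fin_two]
  ext i j; fin_cases i <;> fin_cases j <;> simp <;> field_simp

theorem nn_lower {t : F} (ht : t ≠ 0) (s : F) : nn t * lower s = upper (-(s * t ^ 2)) * nn t := by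
  apply Subtype.ext
  change (nn t : Matrix (Fin 2) (Fin 2) F) * (lower s : SL(2, F)) =
    (upper _ : SL(2, F)) * (nn t : Matrix (Fin 2) (Fin 2) F)
  simp only [nn_coe ht, upper_coe, lower_coe, mul_fin_two]
  ext i j; fin_cases i <;> fin_cases j <;> simp <;> field_simp

variable (ρ : SL(2, F) →* Module.End ℤ M)

/-- upper nilpotent parts -/
def X (t : F) : Module.End ℤ M := ρ (upper t) - 1
/-- lower nilpotent parts -/
def Y (t : F) : Module.End ℤ M := ρ (lower t) - 1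
/-- fixed points of the upper group -/
def M0 : Submodule ℤ M := ⨅ t, LinearMap.ker (X ρ t)
/-- fixed points of the lower group -/
def M1 : Submodule ℤ M := ⨅ t, LinearMap.ker (Y ρ t)

/-- irreducible and nontrivial -/
structure Ir : Prop where
  irr : ∀ W : Submodule ℤ M, (∀ g, ∀ m ∈ W, ρ g m ∈ W) → W = ⊥ ∨ W = ⊤
  nt : ∃ g, ρ g ≠ 1

variable {ρ}

theorem ρu (t : F) : ρ (upper t) = 1 + X ρ t := by simp [X]
theorem ρl (t : F) : ρ (lower t) = 1 + Y ρ t := by simp [Y]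
theorem mem0 {m : M} : m ∈ M0 ρ ↔ ∀ t, X ρ t m = 0 := by simp [M0]
theorem mem1 {m : M} : m ∈ M1 ρ ↔ ∀ t, Y ρ t m = 0 := by simp [M1]
theorem mem0' {m : M} : m ∈ M0 ρ ↔ ∀ t, ρ (upper t) m = m := by simp [mem0, X, sub_eq_zero]
theorem mem1' {m : M} : m ∈ M1 ρ ↔ ∀ t, ρ (lower t) m = m := by simp [mem1, Y, sub_eq_zero]

theorem X_add (s t : F) : X ρ (s + t) = X ρ s + X ρ t + X ρ s * X ρ t := by
  rw [X, upper_add, map_mul, ρu, ρu]; noncomm_ring

theorem Y_add (s t : F) : Y ρ (s + t) = Y ρ s + Y ρ t + Y ρ s * Y ρ t := by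
  rw [Y, lower_add, map_mul, ρl, ρl]; noncomm_ring

theorem X_comm (s t : F) : X ρ s * X ρ t = X ρ t * X ρ s := by
  have := X_add (ρ := ρ) s t
  rw [add_comm s, X_add, add_comm (X ρ t)] at this
  exact (add_left_cancel this).symm

theorem Y_comm (s t : F) : Y ρ s * Y ρ t = Y ρ t * Y ρ s := by
  have := Y_add (ρ := ρ) s t
  rw [add_comm s, Y_add, add_comm (Y ρ t)] at this
  exact (add_left_cancel this).symm

theorem nX {t : F} (ht : t ≠ 0) (s : F) : ρ (nn t) * X ρ s = Y ρ (-(s * t⁻¹ ^ 2)) * ρ (nn t) := by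
  rw [X, Y, mul_sub, sub_mul, ← map_mul, ← map_mul, nn_upper ht, mul_one, one_mul]

theorem nY {t : F} (ht : t ≠ 0) (s : F) : ρ (nn t) * Y ρ s = X ρ (-(s * t ^ 2)) * ρ (nn t) := by
  rw [X, Y, mul_sub, sub_mul, ← map_mul, ← map_mul, nn_lower ht, mul_one, one_mul]

theorem n_mem1 {t : F} (ht : t ≠ 0) {m : M} (h : m ∈ M0 ρ) : ρ (nn t) m ∈ M1 ρ :=
  mem1.2 fun c => by
    have := LinearMap.congr_fun (nX (ρ := ρ) ht (-(c * t ^ 2))) m
    rw [Module.End.mul_apply, Module.End.mul_apply, mem0.1 h, map_zero,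
      show -(-(c * t ^ 2) * t⁻¹ ^ 2) = c by field_simp] at this
    exact this.symm

theorem n_mem0 {t : F} (ht : t ≠ 0) {m : M} (h : m ∈ M1 ρ) : ρ (nn t) m ∈ M0 ρ :=
  mem0.2 fun c => by
    have := LinearMap.congr_fun (nY (ρ := ρ) ht (-(c * t⁻¹ ^ 2))) m
    rw [Module.End.mul_apply, Module.End.mul_apply, mem1.1 h, map_zero,
      show -(-(c * t⁻¹ ^ 2) * t ^ 2) = c by field_simp] at this
    exact this.symm

theorem ρ_inj (g : SL(2, F)) : Function.Injective (ρ g) := fun a b h => by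
  have := congrArg (ρ g⁻¹) h
  rwa [← Module.End.mul_apply, ← Module.End.mul_apply, ← map_mul, inv_mul_cancel, map_one] at this

theorem gen {P : SL(2, F) → Prop} (h1 : ∀ t, P (upper t)) (h2 : ∀ t, P (lower t))
    (h3 : ∀ a b, P a → P b → P (a * b)) (g : SL(2, F)) : P g := by
  let H : Subgroup SL(2, F) :=
    { carrier := {g | P g ∧ P g⁻¹}
      mul_mem' := fun ha hb => ⟨h3 _ _ ha.1 hb.1, by rw [_root_.mul_inv_rev]; exact h3 _ _ hb.2 ha.2⟩
      one_mem' := by simpa [upper_zero] using h1 0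
      inv_mem' := fun ha => ⟨ha.2, by simpa using ha.1⟩ }
  have : H = ⊤ := SL2_eq_top_of_upper_lower (fun b => ⟨h1 b, upper_neg b ▸ h1 _⟩)
    fun b => ⟨h2 b, lower_neg b ▸ h2 _⟩
  exact (this.ge (Subgroup.mem_top g)).1

theorem Ir.irr' (h : Ir ρ) (W : Submodule ℤ M) (h1 : ∀ t, ∀ m ∈ W, X ρ t m ∈ W)
    (h2 : ∀ t, ∀ m ∈ W, Y ρ t m ∈ W) : W = ⊥ ∨ W = ⊤ :=
  h.irr W (gen (fun t m hm => by rw [ρu]; exact W.add_mem hm (h1 t m hm))
    (fun t m hm => by rw [ρl]; exact W.add_mem hm (h2 t m hm))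
    fun a b ha hb m hm => by rw [map_mul]; exact ha _ (hb m hm))

theorem Ir.ne0 (h : Ir ρ) : M0 ρ ≠ ⊤ := fun e => by
  obtain ⟨g, hg⟩ := h.nt
  refine hg (gen (P := fun g => ρ g = 1) (fun t => ?_) (fun t => ?_)
    (fun a b ha hb => by rw [map_mul, ha, hb, mul_one]) g)
  · ext m; exact mem0'.1 (e.ge Submodule.mem_top) t
  · ext m
    have := n_mem1 one_ne_zero (e.ge (Submodule.mem_top (x := ρ (nn 1)⁻¹ m)))
    rw [← Module.End.mul_apply, ← map_mul, mul_inv_cancel, map_one] at this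
    exact mem1'.1 this t

theorem Ir.disj (h : Ir ρ) {m : M} (h0 : m ∈ M0 ρ) (h1 : m ∈ M1 ρ) : m = 0 := by
  rcases h.irr' (M0 ρ ⊓ M1 ρ) (fun t m hm => by rw [mem0.1 hm.1]; exact zero_mem _)
    (fun t m hm => by rw [mem1.1 hm.2]; exact zero_mem _) with e | e
  · exact (Submodule.mem_bot ℤ).1 (e.le ⟨h0, h1⟩)
  · exact absurd (top_le_iff.1 (e.ge.trans inf_le_left)) h.ne0

/-- from the order condition to quadratic action -/
theorem Ir.quad_of_sup (h : Ir ρ) (hs : M0 ρ ⊔ M1 ρ = ⊤) (hn : IsNilpotent (X ρ 1)) (s t : F) :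
    X ρ s * X ρ t = 0 := by
  have dec : ∀ m, ∃ x ∈ M0 ρ, ∃ y ∈ M1 ρ, x + y = m := fun m =>
    Submodule.mem_sup.1 (hs.ge Submodule.mem_top)
  have k0 : ∀ {t : F}, t ≠ 0 → ∀ {m}, X ρ t m = 0 → m ∈ M0 ρ := fun {t} ht {m} hm => by
    obtain ⟨x, hx, y, hy, rfl⟩ := dec m
    rw [map_add, mem0.1 hx, zero_add] at hm
    have e : ρ (nn t) y = y := by
      rw [nn_eq ht, map_mul, map_mul, Module.End.mul_apply, Module.End.mul_apply, mem1'.1 hy, ρu,
        LinearMap.add_apply, hm, add_zero, Module.End.one_apply, mem1'.1 hy]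
    rw [h.disj (e ▸ n_mem0 ht hy) hy, add_zero]
    exact hx
  have k1 : ∀ {t : F}, t ≠ 0 → ∀ {m}, Y ρ t m = 0 → m ∈ M1 ρ := fun {t} ht {m} hm => by
    obtain ⟨x, hx, y, hy, rfl⟩ := dec m
    rw [map_add, mem1.1 hy, add_zero] at hm
    have e : ρ (nn (-t⁻¹)) x = x := by
      rw [nn, map_mul, map_mul, Module.End.mul_apply, Module.End.mul_apply, mem0'.1 hx,
        show -(-t⁻¹)⁻¹ = t by simp, ρl, LinearMap.add_apply, hm, add_zero, Module.End.one_apply,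
        mem0'.1 hx]
    rw [h.disj hx (e ▸ n_mem1 (by simpa using ht) hx), zero_add]
    exact hy
  have l0 : ∀ {t : F}, t ≠ 0 → ∀ {m}, X ρ t m ∈ M0 ρ → ∀ s, X ρ s m ∈ M0 ρ :=
    fun {t} ht {m} hm s => k0 ht (by
      rw [← Module.End.mul_apply, X_comm, Module.End.mul_apply, mem0.1 hm])
  have l1 : ∀ {t : F}, t ≠ 0 → ∀ {m}, Y ρ t m ∈ M1 ρ → ∀ s, Y ρ s m ∈ M1 ρ :=
    fun {t} ht {m} hm s => k1 ht (by
      rw [← Module.End.mul_apply, Y_comm, Module.End.mul_apply, mem1.1 hm])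
  let K0 : Submodule ℤ M := M1 ρ ⊓ ⨅ t, (M0 ρ).comap (X ρ t)
  let K1 : Submodule ℤ M := M0 ρ ⊓ ⨅ t, (M1 ρ).comap (Y ρ t)
  have m0 : ∀ {m}, m ∈ K0 ↔ m ∈ M1 ρ ∧ ∀ t, X ρ t m ∈ M0 ρ := by simp [K0]
  have m1 : ∀ {m}, m ∈ K1 ↔ m ∈ M0 ρ ∧ ∀ t, Y ρ t m ∈ M1 ρ := by simp [K1]
  have p0 : ∀ t, ∀ y ∈ K0, X ρ t y ∈ K1 := fun t y hy => by
    obtain ⟨hy, hy'⟩ := m0.1 hy
    by_cases ht : t = 0
    · rw [ht, X, upper_zero, map_one, sub_self]; exact zero_mem _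
    refine m1.2 ⟨hy' t, l1 (t := -t⁻¹) (by simpa using ht) ?_⟩
    obtain ⟨x0, hx0, y1, hy1, e⟩ := dec (ρ (lower (-t⁻¹)) (X ρ t y))
    have e1 := n_mem0 ht hy
    rw [nn_eq ht, map_mul, map_mul, Module.End.mul_apply, Module.End.mul_apply, mem1'.1 hy, ρu,
      LinearMap.add_apply, Module.End.one_apply, map_add, mem1'.1 hy, ← e] at e1
    have e2 : y + y1 = 0 := h.disj (by
      have := sub_mem e1 hx0
      rwa [show y + (x0 + y1) - x0 = y + y1 by abel] at this) (add_mem hy hy1)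
    have e2' : y1 = -y := by rw [← sub_eq_zero, ← e2]; abel
    have e3 := n_mem1 ht (hy' t)
    rw [nn, map_mul, map_mul, Module.End.mul_apply, Module.End.mul_apply, mem0'.1 (hy' t), ← e,
      map_add, mem0'.1 hx0, e2', map_neg, ρu, LinearMap.add_apply, Module.End.one_apply] at e3
    have e4 : x0 - X ρ t y = 0 := h.disj (sub_mem hx0 (hy' t)) (by
      have := add_mem e3 hy
      rwa [show x0 + -(y + X ρ t y) + y = x0 - X ρ t y by abel] at this)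
    rw [ρl, LinearMap.add_apply, Module.End.one_apply, sub_eq_zero.1 e4, add_right_inj] at e
    exact e ▸ hy1
  have p1 : ∀ t, ∀ x ∈ K1, Y ρ t x ∈ K0 := fun t x hx => by
    obtain ⟨hx, hx'⟩ := m1.1 hx
    by_cases ht : t = 0
    · rw [ht, Y, lower_zero, map_one, sub_self]; exact zero_mem _
    have ht' : -t⁻¹ ≠ 0 := by simpa using ht
    have ht2 : -(-t⁻¹)⁻¹ = t := by simp
    refine m0.2 ⟨hx' t, l0 ht' ?_⟩
    obtain ⟨x0, hx0, y1, hy1, e⟩ := dec (ρ (upper (-t⁻¹)) (Y ρ t x))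
    have e1 := n_mem1 ht' hx
    rw [nn, ht2, map_mul, map_mul, Module.End.mul_apply, Module.End.mul_apply, mem0'.1 hx, ρl,
      LinearMap.add_apply, Module.End.one_apply, map_add, mem0'.1 hx, ← e] at e1
    have e2 : x + x0 = 0 := h.disj (add_mem hx hx0) (by
      have := sub_mem e1 hy1
      rwa [show x + (x0 + y1) - y1 = x + x0 by abel] at this)
    have e2' : x0 = -x := by rw [← sub_eq_zero, ← e2]; abel
    have e3 := n_mem0 ht' (hx' t)
    rw [nn_eq ht', ht2, map_mul, map_mul, Module.End.mul_apply, Module.End.mul_apply,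
      mem1'.1 (hx' t), ← e, map_add, mem1'.1 hy1, e2', map_neg, ρl, LinearMap.add_apply,
      Module.End.one_apply] at e3
    have e4 : y1 - Y ρ t x = 0 := h.disj (by
      have := add_mem e3 hx
      rwa [show -(x + Y ρ t x) + y1 + x = y1 - Y ρ t x by abel] at this) (sub_mem hy1 (hx' t))
    rw [ρu, LinearMap.add_apply, Module.End.one_apply, sub_eq_zero.1 e4, add_comm,
      add_right_inj] at e
    exact e ▸ hx0
  have hW := h.irr' (K0 ⊔ K1) (fun t m hm => by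
      obtain ⟨y, hy, x, hx, rfl⟩ := Submodule.mem_sup.1 hm
      rw [map_add, mem0.1 (m1.1 hx).1, add_zero]
      exact Submodule.mem_sup_right (p0 t y hy)) (fun t m hm => by
      obtain ⟨y, hy, x, hx, rfl⟩ := Submodule.mem_sup.1 hm
      rw [map_add, mem1.1 (m0.1 hy).1, zero_add]
      exact Submodule.mem_sup_left (p1 t x hx))
  rcases hW with e | e
  · exfalso
    have : ∀ m, X ρ 1 (X ρ 1 m) = 0 → X ρ 1 m = 0 := fun m hm => by
      obtain ⟨x, hx, y, hy, rfl⟩ := dec m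
      rw [map_add, mem0.1 hx, zero_add] at hm ⊢
      have : y ∈ K0 := m0.2 ⟨hy, l0 one_ne_zero (k0 one_ne_zero hm)⟩
      rw [(Submodule.mem_bot ℤ).1 (e.le (Submodule.mem_sup_left this)), map_zero]
    obtain ⟨k, hk⟩ := hn
    have h2 : ∀ k, ∀ m, (X ρ 1 ^ k) m = 0 → X ρ 1 m = 0 := fun k => by
      induction k with
      | zero => intro m hm; rw [pow_zero, Module.End.one_apply] at hm; rw [hm, map_zero]
      | succ k ih => intro m hm; rw [pow_succ, Module.End.mul_apply] at hm; exact this m (ih _ hm)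
    exact h.ne0 (top_le_iff.1 fun m _ => k0 one_ne_zero (h2 k m (by rw [hk]; rfl)))
  · ext m
    obtain ⟨y, hy, x, hx, rfl⟩ := Submodule.mem_sup.1 (e.ge (Submodule.mem_top (x := m)))
    rw [Module.End.mul_apply, map_add, mem0.1 (m1.1 hx).1, add_zero, mem0.1 ((m0.1 hy).2 t)]
    rfl

theorem Y_quad (hq : ∀ s t, X ρ s * X ρ t = 0) (s t : F) : Y ρ s * Y ρ t = 0 := by
  have e : ∀ s, Y ρ s = ρ (nn 1) * X ρ (-s) * ρ (nn 1)⁻¹ := fun s => by
    rw [nX one_ne_zero, mul_assoc, ← map_mul, mul_inv_cancel, map_one, mul_one]; simp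
  rw [e s, e t]
  calc _ = ρ (nn 1) * X ρ (-s) * (ρ (nn 1)⁻¹ * ρ (nn 1)) * X ρ (-t) * ρ (nn 1)⁻¹ := by noncomm_ring
    _ = 0 := by
      rw [← map_mul, inv_mul_cancel, map_one, mul_one, mul_assoc (ρ _), hq, mul_zero, zero_mul]

theorem Ir.sup_of_quad (h : Ir ρ) (hq : ∀ s t, X ρ s * X ρ t = 0) : M0 ρ ⊔ M1 ρ = ⊤ := by
  have a0 : ∀ t m, X ρ t m ∈ M0 ρ := fun t m => mem0.2 fun s => by
    rw [← Module.End.mul_apply, hq]; rfl
  have a1 : ∀ t m, Y ρ t m ∈ M1 ρ := fun t m => mem1.2 fun s => by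
    rw [← Module.End.mul_apply, Y_quad hq]; rfl
  rcases h.irr' (M0 ρ ⊔ M1 ρ) (fun t m _ => Submodule.mem_sup_left (a0 t m))
    (fun t m _ => Submodule.mem_sup_right (a1 t m)) with e | e
  · exact absurd (top_le_iff.1 fun m _ => mem0.2 fun t =>
      (Submodule.mem_bot ℤ).1 (e.le (Submodule.mem_sup_left (a0 t m)))) h.ne0
  · exact e

theorem X_add' (hq : ∀ s t, X ρ s * X ρ t = 0) (s t : F) : X ρ (s + t) = X ρ s + X ρ t := by
  rw [X_add, hq, add_zero]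

theorem Y_add' (hq : ∀ s t, X ρ s * X ρ t = 0) (s t : F) : Y ρ (s + t) = Y ρ s + Y ρ t := by
  rw [Y_add, Y_quad hq, add_zero]

theorem X_zero : X ρ 0 = 0 := by rw [X, upper_zero, map_one, sub_self]
theorem Y_zero : Y ρ 0 = 0 := by rw [Y, lower_zero, map_one, sub_self]

theorem Y_neg (hq : ∀ s t, X ρ s * X ρ t = 0) (s : F) : Y ρ (-s) = -Y ρ s := by
  rw [eq_neg_iff_add_eq_zero, ← Y_add' hq, neg_add_cancel, Y_zero]

theorem Ir.pa (h : Ir ρ) (hq : ∀ s t, X ρ s * X ρ t = 0) {t : F} (ht : t ≠ 0) :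
    X ρ t * Y ρ t⁻¹ + Y ρ t⁻¹ * X ρ t = 1 := by
  have a0 : ∀ t m, X ρ t m ∈ M0 ρ := fun t m => mem0.2 fun s => by
    rw [← Module.End.mul_apply, hq]; rfl
  have a1 : ∀ t m, Y ρ t m ∈ M1 ρ := fun t m => mem1.2 fun s => by
    rw [← Module.End.mul_apply, Y_quad hq]; rfl
  ext m
  obtain ⟨x, hx, y, hy, rfl⟩ := Submodule.mem_sup.1 ((h.sup_of_quad hq).ge (Submodule.mem_top (x := m)))
  have e1 := n_mem1 ht hx
  rw [nn, map_mul, map_mul, Module.End.mul_apply, Module.End.mul_apply, mem0'.1 hx, ρl, ρu,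
    Y_neg hq] at e1
  have e2 := n_mem0 ht hy
  rw [nn_eq ht, map_mul, map_mul, Module.End.mul_apply, Module.End.mul_apply, mem1'.1 hy, ρl, ρu,
    Y_neg hq] at e2
  simp only [LinearMap.add_apply, LinearMap.neg_apply, Module.End.one_apply, map_add, map_neg,
    mem0.1 hx, mem1.1 hy, Module.End.mul_apply, map_zero, zero_add, add_zero] at e1 e2 ⊢
  have e3 : x - X ρ t (Y ρ t⁻¹ x) = 0 := h.disj (sub_mem hx (a0 _ _)) (by
    have := add_mem e1 (a1 t⁻¹ x)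
    convert this using 1; abel)
  have e4 : y - Y ρ t⁻¹ (X ρ t y) = 0 := h.disj (by
    have := sub_mem e2 (a0 t y)
    convert this using 1; abel) (sub_mem hy (a1 _ _))
  rw [← sub_eq_zero.1 e3, ← sub_eq_zero.1 e4]

theorem Ir.n_eq (h : Ir ρ) (hq : ∀ s t, X ρ s * X ρ t = 0) {t : F} (ht : t ≠ 0) :
    ρ (nn t) = X ρ t - Y ρ t⁻¹ := by
  have e := h.pa hq ht
  have e2 := hq t t
  rw [nn, map_mul, map_mul, ρu, ρl, Y_neg hq]
  set a := X ρ t
  set b := Y ρ t⁻¹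
  have : a * b * a = a := by
    calc a * b * a = a * (a * b + b * a) - a * a * b := by noncomm_ring
      _ = a := by rw [e, e2]; simp
  calc _ = 1 + a + a - b - (a * b + b * a) - a * b * a + a * a := by noncomm_ring
    _ = _ := by rw [e, this, e2]; abel

variable (ρ) in
/-- the scalars -/
def ι (t : F) : Module.End ℤ M := X ρ t * Y ρ 1 + Y ρ 1 * X ρ t

section
variable (h : Ir ρ) (hq : ∀ s t, X ρ s * X ρ t = 0)
include h hq

theorem Ir.pa1 : X ρ 1 * Y ρ 1 + Y ρ 1 * X ρ 1 = 1 := by simpa using h.pa hq one_ne_zero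

theorem Ir.bX (s : F) : Y ρ 1 * X ρ s = Y ρ s * X ρ 1 := by
  have := nX (ρ := ρ) one_ne_zero s
  rw [h.n_eq hq one_ne_zero, Y_neg hq] at this
  simp only [inv_one, one_pow, mul_one, sub_mul, mul_sub, neg_mul, hq, Y_quad hq] at this
  simpa using this

theorem Ir.ιa (t : F) : ι ρ t * X ρ 1 = X ρ t := by
  calc _ = X ρ t * (X ρ 1 * Y ρ 1 + Y ρ 1 * X ρ 1) - X ρ t * X ρ 1 * Y ρ 1 +
        Y ρ 1 * (X ρ t * X ρ 1) := by rw [ι]; noncomm_ring
    _ = _ := by rw [h.pa1 hq, hq]; simp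

theorem Ir.aι (t : F) : X ρ 1 * ι ρ t = X ρ t := by
  calc _ = (X ρ 1 * Y ρ 1 + Y ρ 1 * X ρ 1) * X ρ t - Y ρ 1 * (X ρ 1 * X ρ t) +
        (X ρ 1 * X ρ t) * Y ρ 1 := by rw [ι]; noncomm_ring
    _ = _ := by rw [h.pa1 hq, hq]; simp

theorem Ir.bXb (t : F) : Y ρ 1 * X ρ t * Y ρ 1 = Y ρ t := by
  calc _ = Y ρ t * (X ρ 1 * Y ρ 1 + Y ρ 1 * X ρ 1) - Y ρ t * Y ρ 1 * X ρ 1 := by
        rw [h.bX hq]; noncomm_ring
    _ = _ := by rw [h.pa1 hq, Y_quad hq]; simp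

theorem Ir.ιb (t : F) : ι ρ t * Y ρ 1 = Y ρ t := by
  rw [ι, add_mul, mul_assoc, Y_quad hq, mul_zero, zero_add, h.bXb hq]

theorem Ir.bι (t : F) : Y ρ 1 * ι ρ t = Y ρ t := by
  rw [ι, mul_add, ← mul_assoc, ← mul_assoc, Y_quad hq, zero_mul, add_zero, h.bXb hq]

theorem Ir.canc {Z : Module.End ℤ M} (h1 : Commute Z (X ρ 1)) (h3 : Z * (Y ρ 1 * X ρ 1) = 0) :
    Z = 0 := by
  have e : Z * Y ρ 1 = 0 := by
    calc Z * Y ρ 1 = Z * (Y ρ 1 * X ρ 1 * Y ρ 1) := by rw [h.bXb hq]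
      _ = 0 := by rw [← mul_assoc, h3, zero_mul]
  calc Z = Z * (X ρ 1 * Y ρ 1 + Y ρ 1 * X ρ 1) := by rw [h.pa1 hq, mul_one]
    _ = 0 := by rw [mul_add, h3, ← mul_assoc, h1.eq, mul_assoc, e]; simp

theorem Ir.ca (t : F) : Commute (ι ρ t) (X ρ 1) := (h.ιa hq t).trans (h.aι hq t).symm
theorem Ir.cb (t : F) : Commute (ι ρ t) (Y ρ 1) := (h.ιb hq t).trans (h.bι hq t).symm

theorem Ir.ι_inv {t : F} (ht : t ≠ 0) : ι ρ t⁻¹ * ι ρ t = 1 := by
  have e := h.pa hq ht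
  rw [← sub_eq_zero]
  refine h.canc hq (((h.ca hq _).mul_left (h.ca hq _)).sub_left (Commute.one_left _)) ?_
  have e2 : Y ρ t⁻¹ * X ρ t = ι ρ t⁻¹ * ι ρ t * (Y ρ 1 * X ρ 1) := by
    rw [← h.ιb hq t⁻¹, ← h.ιa hq t, mul_assoc, ← mul_assoc (Y ρ 1), ← (h.cb hq t).eq]
    noncomm_ring
  calc _ = Y ρ t⁻¹ * X ρ t * (X ρ 1 * Y ρ 1 + Y ρ 1 * X ρ 1) - Y ρ 1 * X ρ 1 := by
        rw [h.pa1 hq, e2]; noncomm_ring
    _ = (X ρ t * Y ρ t⁻¹ + Y ρ t⁻¹ * X ρ t) * (Y ρ 1 * X ρ 1) - Y ρ 1 * X ρ 1 +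
        Y ρ t⁻¹ * (X ρ t * X ρ 1) * Y ρ 1 - X ρ t * (Y ρ t⁻¹ * Y ρ 1) * X ρ 1 := by noncomm_ring
    _ = 0 := by rw [e, hq, Y_quad hq]; simp

theorem Ir.ι_sq {t : F} (ht : t ≠ 0) (s : F) : ι ρ (s * t ^ 2) = ι ρ t * ι ρ s * ι ρ t := by
  have e := nX (ρ := ρ) (inv_ne_zero ht) s
  rw [h.n_eq hq (inv_ne_zero ht), Y_neg hq, inv_inv] at e
  simp only [sub_mul, mul_sub, neg_mul, hq, Y_quad hq, zero_sub, neg_zero, sub_zero, neg_inj] at e
  have e2 : ∀ a b, Y ρ a * X ρ b = ι ρ a * ι ρ b * (Y ρ 1 * X ρ 1) := fun a b => by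
    rw [← h.ιb hq a, ← h.ιa hq b, mul_assoc, ← mul_assoc (Y ρ 1), ← (h.cb hq b).eq]
    noncomm_ring
  rw [e2 t s, e2 _ t⁻¹, ← sub_eq_zero, ← sub_mul] at e
  have := sub_eq_zero.1 (h.canc hq (((h.ca hq _).mul_left (h.ca hq _)).sub_left
    ((h.ca hq _).mul_left (h.ca hq _))) e)
  rw [this, mul_assoc, h.ι_inv hq ht, mul_one]

theorem Ir.ι_mul [Finite F] (s t : F) : ι ρ (s * t) = ι ρ s * ι ρ t := by
  have z : ι ρ 0 = 0 := by simp [ι, X_zero]
  by_cases hs : s = 0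
  · simp [hs, z]
  by_cases ht : t = 0
  · simp [ht, z]
  obtain ⟨θ, hθ⟩ := IsCyclic.exists_monoid_generator (α := Fˣ)
  have key : ∀ k : ℕ, ι ρ ((θ : F) ^ k) = ι ρ θ ^ k ∧ ι ρ ((θ : F) ^ (k + 1)) = ι ρ θ ^ (k + 1) := by
    intro k
    induction k with
    | zero => simpa [ι] using h.pa1 hq
    | succ k ih =>
      refine ⟨ih.2, ?_⟩
      rw [add_assoc, pow_add, h.ι_sq hq θ.ne_zero, ih.1, ← pow_succ', ← pow_succ, add_assoc]
  obtain ⟨i, hi⟩ := hθ (Units.mk0 s hs)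
  obtain ⟨j, hj⟩ := hθ (Units.mk0 t ht)
  have hi' : (θ : F) ^ i = s := by simpa using congrArg Units.val hi
  have hj' : (θ : F) ^ j = t := by simpa using congrArg Units.val hj
  rw [← hi', ← hj', ← pow_add, (key _).1, (key _).1, (key _).1, pow_add]

theorem Ir.nat [Finite F] : ∃ φ : (Fin 2 → F) ≃+ M,
    ∀ (g : SL(2, F)) v, φ ((g : Matrix (Fin 2) (Fin 2) F) *ᵥ v) = ρ g (φ v) := by
  have ad : ∀ s t, ι ρ (s + t) = ι ρ s + ι ρ t := fun s t => by
    rw [ι, ι, ι, X_add' hq]; noncomm_ring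
  have z : ι ρ 0 = 0 := by simp [ι, X_zero]
  obtain ⟨x, hx⟩ : ∃ m, X ρ 1 m ≠ 0 := by
    by_contra hh
    push Not at hh
    refine h.ne0 (top_le_iff.1 fun m _ => mem0.2 fun t => ?_)
    rw [← h.ιa hq, Module.End.mul_apply, hh, map_zero]
  set x0 := X ρ 1 x
  have h0 : X ρ 1 x0 = 0 := by rw [← Module.End.mul_apply, hq]; rfl
  have h1 : X ρ 1 (Y ρ 1 x0) = x0 := by
    have := LinearMap.congr_fun (h.pa1 hq) x0
    simpa [h0] using this
  have h2 : Y ρ 1 (Y ρ 1 x0) = 0 := by rw [← Module.End.mul_apply, Y_quad hq]; rfl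
  have ca : ∀ t m, X ρ 1 (ι ρ t m) = ι ρ t (X ρ 1 m) := fun t m =>
    LinearMap.congr_fun (h.ca hq t).eq.symm m
  have cb : ∀ t m, Y ρ 1 (ι ρ t m) = ι ρ t (Y ρ 1 m) := fun t m =>
    LinearMap.congr_fun (h.cb hq t).eq.symm m
  have mu : ∀ s t m, ι ρ (s * t) m = ι ρ s (ι ρ t m) := fun s t m => by rw [h.ι_mul hq]; rfl
  let φ : (Fin 2 → F) →+ M := AddMonoidHom.mk' (fun v => ι ρ (v 0) x0 + ι ρ (v 1) (Y ρ 1 x0))
    fun v w => by simp only [Pi.add_apply, ad, LinearMap.add_apply]; abel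
  have hφ : ∀ v, φ v = ι ρ (v 0) x0 + ι ρ (v 1) (Y ρ 1 x0) := fun _ => rfl
  have eqv : ∀ (g : SL(2, F)) v, φ ((g : Matrix (Fin 2) (Fin 2) F) *ᵥ v) = ρ g (φ v) := by
    refine gen (fun t v => ?_) (fun t v => ?_) fun a b ha hb v => ?_
    · rw [ρu, ← h.ιa hq, hφ, hφ, upper_coe]
      simp only [mulVec, dotProduct, Fin.sum_univ_two, of_apply, cons_val', cons_val_zero,
        cons_val_one, cons_val_fin_one, one_mul, zero_mul, zero_add, ad, mu, LinearMap.add_apply,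
        Module.End.one_apply, Module.End.mul_apply, map_add, ca, h0, h1, map_zero]
      abel
    · rw [ρl, ← h.ιb hq, hφ, hφ, lower_coe]
      simp only [mulVec, dotProduct, Fin.sum_univ_two, of_apply, cons_val', cons_val_zero,
        cons_val_one, cons_val_fin_one, one_mul, zero_mul, add_zero, ad, mu, LinearMap.add_apply,
        Module.End.one_apply, Module.End.mul_apply, map_add, cb, h2, map_zero]
      abel
    · change φ (((a : Matrix (Fin 2) (Fin 2) F) * (b : Matrix (Fin 2) (Fin 2) F)) *ᵥ v) = _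
      rw [← mulVec_mulVec, ha, hb, map_mul]; rfl
  have nz : ∀ t, ι ρ t x0 = 0 → t = 0 := fun t ht => by
    by_contra hne
    have := LinearMap.congr_fun (h.ι_inv hq hne) x0
    rw [Module.End.mul_apply, ht, map_zero] at this
    exact hx this.symm
  have inj : Function.Injective φ := (injective_iff_map_eq_zero φ).2 fun v hv => by
    have e := congrArg (X ρ 1) hv
    rw [hφ, map_add, ca, ca, h0, h1, map_zero, zero_add, map_zero] at e
    have e1 := nz _ e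
    rw [hφ, e1, z, LinearMap.zero_apply, add_zero] at hv
    ext i; fin_cases i
    · exact nz _ hv
    · exact e1
  have sur : Function.Surjective φ := by
    rcases h.irr (LinearMap.range φ.toIntLinearMap) (by
      rintro g _ ⟨v, rfl⟩
      exact ⟨_, eqv g v⟩) with e | e
    · have : φ ![1, 0] = 0 := (Submodule.mem_bot ℤ).1 (e.le ⟨_, rfl⟩)
      have := congrFun (inj (this.trans (map_zero φ).symm)) 0
      simp at this
    · exact LinearMap.range_eq_top.1 e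
  exact ⟨AddEquiv.ofBijective φ ⟨inj, sur⟩, eqv⟩

end

end Cfsg.Agent.H22.Nt
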