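import Cfsg.Agent.H22.U320
import Cfsg.Agent.H12.Transport

/-! The group `3^{1+2} : SL_2(3)` as centralizer of a transvection in `PSp_4(3)`. -/

set_option autoImplicit false
set_option linter.style.haveILetI false

namespace Cfsg.Agent.H22.P648

open Subgroup Matrix
open scoped commutatorElement MatrixGroups
open U320 (card_sup_le normal_of_le_cen)

variable {H : Type*} [Group H]

/-- the defining relations -/
structure Rl (a b z j k t : H) : Prop where
  r1 : a * b = z * b * a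
  r2 : z * a = a * z
  r3 : z * b = b * z
  r4 : a ^ 3 = 1
  r5 : b ^ 3 = 1
  r6 : z ^ 3 = 1
  r7 : t * a = a * t
  r8 : t * b = a * b * z * t
  r9 : j * a = b * j
  r10 : a * j * b = j
  r11 : t ^ 3 = 1
  r12 : j * j * (j * j) = 1
  r13 : k * k = j * j
  r14 : j * k * j = k
  r15 : t * j = k * t
  r16 : t * k = j * k * t

theorem nrm [Finite H] {K : Subgroup H} {x : H} (h : K ≤ K.comap (MulAut.conj x).toMonoidHom) :
    x ∈ normalizer (K : Set H) := mem_normalizer_fintype h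

theorem zp {K : Subgroup H} {x y w : H} (e : x * y = w * x) (h : w ∈ K) :
    zpowers y ≤ K.comap (MulAut.conj x).toMonoidHom :=
  zpowers_le.2 (show x * y * x⁻¹ ∈ K by rw [e, mul_inv_cancel_right]; exact h)

theorem nl {N K : Subgroup H} {x : H} (h : x ∈ normalizer (N : Set H)) (hK : N ≤ K) :
    N ≤ K.comap (MulAut.conj x).toMonoidHom := fun n hn => hK ((mem_normalizer_iff.1 h n).1 hn)

theorem Rl.card_le [Finite H] {a b z j k t : H} (h : Rl a b z j k t) :
    Nat.card (closure {a, b, z, j, k, t}) ≤ 648 := by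
  haveI : Fact (Nat.Prime 3) := ⟨Nat.prime_three⟩
  have mz : ∀ (K : Subgroup H) x, x ∈ K ⊔ zpowers x := fun K x => mem_sup_right (mem_zpowers x)
  have c1 := card_sup_le (p := 3) (N := ⊥) (x := z) (nrm bot_le) h.r6
  have c2 := card_sup_le (p := 3) (N := ⊥ ⊔ zpowers z) (x := a)
    (nrm (sup_le bot_le (zp h.r2.symm (mz _ _)))) (h.r4 ▸ one_mem _)
  have c3 := card_sup_le (p := 3) (N := ⊥ ⊔ zpowers z ⊔ zpowers a) (x := b)
    (nrm (sup_le (sup_le bot_le (zp h.r3.symm (mem_sup_left (mz _ _)))) (zp (w := z⁻¹ * a)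
      (by rw [mul_assoc, h.r1]; group) (mul_mem (inv_mem (mem_sup_left (mz _ _))) (mz _ _)))))
    (h.r5 ▸ one_mem _)
  rw [card_bot] at c1
  set N := ⊥ ⊔ zpowers z ⊔ zpowers a ⊔ zpowers b with hN
  have m1 : z ∈ N := mem_sup_left (mem_sup_left (mz _ _))
  have m2 : a ∈ N := mem_sup_left (mz _ _)
  have m3 : b ∈ N := mz _ _
  have key : ∀ x u v, x * a = u * x → x * b = v * x → u ∈ N → v ∈ N → x ∈ normalizer (N : Set H) :=
    fun x u v e1 e2 hu hv => nrm (sup_le (sup_le (sup_le bot_le (zp (w := u * v * u⁻¹ * v⁻¹) (by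
      calc x * z = x * (a * b) * a⁻¹ * b⁻¹ := by rw [h.r1]; group
        _ = (x * a * x⁻¹) * (x * b * x⁻¹) * (x * a * x⁻¹)⁻¹ * (x * b * x⁻¹)⁻¹ * x := by group
        _ = _ := by rw [e1, e2, mul_inv_cancel_right, mul_inv_cancel_right])
      (mul_mem (mul_mem (mul_mem hu hv) (inv_mem hu)) (inv_mem hv)))) (zp e1 hu)) (zp e2 hv))
  have nj := key j b a⁻¹ h.r9 (by rw [eq_inv_mul_iff_mul_eq, ← mul_assoc, h.r10]) m3 (inv_mem m2)
  have nt := key t a _ h.r7 h.r8 m2 (mul_mem (mul_mem m2 m3) m1)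
  have nk : k ∈ normalizer (N : Set H) := by
    rw [← mul_inv_eq_iff_eq_mul.2 h.r15]; exact mul_mem (mul_mem nt nj) (inv_mem nt)
  have c4 := card_sup_le (p := 2) (N := N) (x := j * j) (mul_mem nj nj) (by
    rw [pow_two, h.r12]; exact one_mem _)
  have c5 := card_sup_le (p := 2) (N := N ⊔ zpowers (j * j)) (x := j)
    (nrm (sup_le (nl nj le_sup_left) (zp (mul_assoc _ _ _).symm (mz _ _)))) (by
      rw [pow_two]; exact mz _ _)
  have c6 := card_sup_le (p := 2) (N := N ⊔ zpowers (j * j) ⊔ zpowers j) (x := k)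
    (nrm (sup_le (sup_le (nl nk (le_sup_left.trans le_sup_left)) (zp (w := j * j)
      (by rw [← h.r13, mul_assoc]) (mem_sup_left (mz _ _)))) (zp (w := j⁻¹)
        (by rw [eq_inv_mul_iff_mul_eq, ← mul_assoc, h.r14]) (inv_mem (mz _ _))))) (by
      rw [pow_two, h.r13]; exact mem_sup_left (mz _ _))
  have c7 := card_sup_le (p := 3) (N := N ⊔ zpowers (j * j) ⊔ zpowers j ⊔ zpowers k) (x := t)
    (nrm (sup_le (sup_le (sup_le (nl nt ((le_sup_left.trans le_sup_left).trans le_sup_left))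
      (zp (w := k * k) (by rw [← mul_assoc, h.r15, mul_assoc, h.r15, mul_assoc])
        (mul_mem (mz _ _) (mz _ _)))) (zp h.r15 (mz _ _)))
      (zp h.r16 (mul_mem (mem_sup_left (mz _ _)) (mz _ _))))) (h.r11 ▸ one_mem _)
  refine (card_le_of_le ((closure_le _).2 ?_)).trans (c7.trans (by omega))
  have l1 : N ≤ N ⊔ zpowers (j * j) ⊔ zpowers j ⊔ zpowers k ⊔ zpowers t :=
    ((le_sup_left.trans le_sup_left).trans le_sup_left).trans le_sup_left
  rintro _ (rfl | rfl | rfl | rfl | rfl | rfl)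
  exacts [l1 m2, l1 m3, l1 m1, mem_sup_left (mem_sup_left (mz _ _)), mem_sup_left (mz _ _), mz _ _]

theorem Rl.hom {G K : Type*} [Group G] [Group K] [Finite G] [Finite K] {a b z j k t : G}
    {a' b' z' j' k' t' : K} (h : Rl a b z j k t) (h' : Rl a' b' z' j' k' t')
    (hg : closure {a, b, z, j, k, t} = ⊤) (hG : Nat.card G = 648) :
    ∃ f : G →* K, f z = z' ∧ ∀ L : Subgroup K, a' ∈ L → b' ∈ L → z' ∈ L → j' ∈ L → k' ∈ L → t' ∈ L →
      ∀ g, f g ∈ L := by
  have hD : Rl (a, a') (b, b') (z, z') (j, j') (k, k') (t, t') :=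
    ⟨Prod.ext h.r1 h'.r1, Prod.ext h.r2 h'.r2, Prod.ext h.r3 h'.r3, Prod.ext h.r4 h'.r4,
      Prod.ext h.r5 h'.r5, Prod.ext h.r6 h'.r6, Prod.ext h.r7 h'.r7, Prod.ext h.r8 h'.r8,
      Prod.ext h.r9 h'.r9, Prod.ext h.r10 h'.r10, Prod.ext h.r11 h'.r11, Prod.ext h.r12 h'.r12,
      Prod.ext h.r13 h'.r13, Prod.ext h.r14 h'.r14, Prod.ext h.r15 h'.r15, Prod.ext h.r16 h'.r16⟩
  have h1 := hD.card_le
  set D := closure ({(a, a'), (b, b'), (z, z'), (j, j'), (k, k'), (t, t')} : Set (G × K)) with hD'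
  let p₁ : D →* G := (MonoidHom.fst G K).comp D.subtype
  let p₂ : D →* K := (MonoidHom.snd G K).comp D.subtype
  have h3 : Function.Surjective p₁ := MonoidHom.range_eq_top.1 (eq_top_iff.2 (hg.ge.trans
    ((closure_le _).2 (by
      rintro _ (rfl | rfl | rfl | rfl | rfl | rfl)
      exacts [⟨⟨(_, a'), subset_closure (by simp)⟩, rfl⟩, ⟨⟨(_, b'), subset_closure (by simp)⟩, rfl⟩,
        ⟨⟨(_, z'), subset_closure (by simp)⟩, rfl⟩, ⟨⟨(_, j'), subset_closure (by simp)⟩, rfl⟩,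
        ⟨⟨(_, k'), subset_closure (by simp)⟩, rfl⟩, ⟨⟨(_, t'), subset_closure (by simp)⟩, rfl⟩]))))
  let e := MulEquiv.ofBijective p₁ ((Nat.bijective_iff_surjective_and_card p₁).2
    ⟨h3, le_antisymm (by omega) (Nat.card_le_card_of_surjective _ h3)⟩)
  refine ⟨p₂.comp e.symm.toMonoidHom, congrArg p₂ (e.symm_apply_eq.2 rfl :
    e.symm z = ⟨(z, z'), subset_closure (by simp)⟩), fun L m1 m2 m3 m4 m5 m6 g => ?_⟩
  refine (show D ≤ L.comap (MonoidHom.snd G K) from (closure_le _).2 ?_) (e.symm g).2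
  rintro _ (rfl | rfl | rfl | rfl | rfl | rfl)
  exacts [m1, m2, m3, m4, m5, m6]

theorem F1 : ∀ g : SL(2, ZMod 3), ∃ x y : SL(2, ZMod 3), g = x * x * (y * y) := by decide +kernel
theorem F2 : ∀ g : SL(2, ZMod 3), g = 1 ∨ g = -1 ∨
    ∃ h : SL(2, ZMod 3), ⁅g, h⁆ = -1 ∨ ⁅g, h⁆ * ⁅g, h⁆ = -1 := by decide +kernel
theorem F3 : ∀ g : SL(2, ZMod 3), g ^ 8 = 1 → g = 1 ∨ g = -1 ∨ g * g = -1 := by decide +kernel
theorem F4 : Fintype.card {g : SL(2, ZMod 3) // g ^ 8 = 1} = 8 := by decide +kernel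
theorem F5 : Fintype.card SL(2, ZMod 3) = 24 := by decide +kernel
theorem F6 : (-1 : SL(2, ZMod 3)) ≠ 1 := by decide +kernel

/-- `Sp_4(3)` -/
abbrev Sp := symplecticGroup (Fin 2) (ZMod 3)
/-- generator -/
def ma : Sp := ⟨fromBlocks 1 !![0, -1; -1, 0] 0 1, by rw [SymplecticGroup.mem_iff]; decide +kernel⟩
/-- generator -/
def mb : Sp := ⟨fromBlocks !![1, 1; 0, 1] 0 0 !![1, 0; -1, 1], by
  rw [SymplecticGroup.mem_iff]; decide +kernel⟩
/-- generator -/
def mz : Sp := ⟨fromBlocks 1 !![-1, 0; 0, 0] 0 1, by rw [SymplecticGroup.mem_iff]; decide +kernel⟩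
/-- generator -/
def mj : Sp := ⟨fromBlocks !![1, 0; 0, 0] !![0, 0; 0, -1] !![0, 0; 0, 1] !![1, 0; 0, 0], by
  rw [SymplecticGroup.mem_iff]; decide +kernel⟩
/-- generator -/
def mk : Sp := ⟨fromBlocks 1 !![0, 0; 0, 1] !![0, 0; 0, 1] !![1, 0; 0, -1], by
  rw [SymplecticGroup.mem_iff]; decide +kernel⟩
/-- generator -/
def mt : Sp := ⟨fromBlocks 1 !![0, 0; 0, 1] 0 1, by rw [SymplecticGroup.mem_iff]; decide +kernel⟩
/-- the central involution -/
def mn : Sp := ⟨-1, by rw [SymplecticGroup.mem_iff]; decide +kernel⟩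

theorem rl_sp : Rl ma mb mz mj mk mt := by
  refine ⟨?_, ?_, ?_, ?_, ?_, ?_, ?_, ?_, ?_, ?_, ?_, ?_, ?_, ?_, ?_, ?_⟩ <;> decide +kernel

theorem cm_sp : mj * mz = mz * mj ∧ mk * mz = mz * mk ∧ mt * mz = mz * mt ∧ mz * mz ≠ 1 := by
  decide +kernel

theorem card_Sp : Nat.card Sp = 51840 := by
  rw [H12.card_sp, Nat.card_zmod]; simp [H12.spOrd, Finset.prod_range_succ]

theorem sq_cen {w : Sp} (hw : w ∈ center Sp) : w * w = 1 := by
  have := orderOf_dvd_natCard (⟨w, hw⟩ : center Sp)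
  rw [H12.card_center_sp, Nat.card_zmod, ← Subgroup.orderOf_coe] at this
  rw [← pow_two]; exact orderOf_dvd_iff_pow_eq_one.1 this

theorem card_cent : Nat.card (centralizer {QuotientGroup.mk' (center Sp) mz}) ≤ 648 := by
  let e₁ : Fin 2 ⊕ Fin 2 → ZMod 3 := Pi.single (Sum.inl 0) 1
  let ε := H12.spEquiv (Fin 2) (ZMod 3)
  have h1 : Nat.card (MulAction.stabilizer (H12.UG (H12.spB (Fin 2) (ZMod 3))) e₁) = 648 := by
    have h2 := (MulAction.stabilizer (H12.UG (H12.spB (Fin 2) (ZMod 3))) e₁).card_mul_index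
    have h0 : e₁ ≠ 0 := by decide +kernel
    have h3 : MulAction.orbit (H12.UG (H12.spB (Fin 2) (ZMod 3))) e₁ = {0}ᶜ := Set.ext fun v =>
      ⟨fun ⟨g, hg⟩ => hg ▸ H12.UG_ne_zero g h0, fun hv => H12.sd_spB.witt_one h0 hv (by
        simp only [H12.spB_apply', mul_comm, sub_self])⟩
    rw [MulAction.index_stabilizer, h3, Set.ncard_compl, Set.ncard_singleton, ← Nat.card_congr ε.toEquiv,
      card_Sp, Nat.card_fun, Nat.card_zmod] at h2
    rw [Nat.card_eq_fintype_card (α := Fin 2 ⊕ Fin 2), Fintype.card_sum, Fintype.card_fin] at h2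
    exact Nat.eq_of_mul_eq_mul_right (by norm_num : 0 < 80) h2
  rw [← h1, ← card_map_of_injective (f := ε.symm.toMonoidHom) ε.symm.injective]
  refine le_trans (card_le_of_le (fun x hx => ?_ : _ ≤ map (QuotientGroup.mk' (center Sp)) _))
    (Nat.le_of_dvd Nat.card_pos (card_map_dvd _ _))
  obtain ⟨g, rfl⟩ := QuotientGroup.mk'_surjective _ x
  have h2 := mem_centralizer_singleton_iff.1 hx
  rw [← map_mul, ← map_mul, QuotientGroup.mk'_eq_mk'] at h2
  obtain ⟨w, hw, h2⟩ := h2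
  have h3 : w = 1 := by
    have h4 : (g⁻¹ * mz * g) ^ 3 = 1 := by
      rw [show g⁻¹ * mz * g = g⁻¹ * mz * g⁻¹⁻¹ by rw [inv_inv], conj_pow, rl_sp.r6]; group
    rw [mul_assoc, ← h2, mul_assoc, inv_mul_cancel_left,
      (show Commute mz w from mem_center_iff.1 hw _).mul_pow, rl_sp.r6, one_mul, pow_three',
      sq_cen hw, one_mul] at h4
    exact h4
  rw [h3, mul_one] at h2
  have h4 : ∀ i, g.1 i (Sum.inl 0) = g.1 (Sum.inr 0) (Sum.inr 0) * e₁ i := fun i => by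
    have := congrArg (fun x : Sp => x.1 i (Sum.inr 0)) h2
    rcases i with i | i <;> fin_cases i <;>
      simp [mz, Matrix.mul_apply, Fintype.sum_sum_type, Fin.sum_univ_two, e₁] at this ⊢ <;>
      first | exact this | linear_combination -this
  have h5 : g.1 *ᵥ e₁ = g.1 (Sum.inr 0) (Sum.inr 0) • e₁ := by
    ext i; simp only [e₁, mulVec_single_one, col_apply, Pi.smul_apply, smul_eq_mul]; exact h4 i
  have h6 : ∀ g : Sp, g.1 *ᵥ e₁ = e₁ → g ∈ map ε.symm.toMonoidHom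
      (MulAction.stabilizer (H12.UG (H12.spB (Fin 2) (ZMod 3))) e₁) := fun g hg =>
    ⟨ε g, (H12.spEquiv_apply g e₁).trans hg, ε.symm_apply_apply g⟩
  have h7 : ∀ c : ZMod 3, c = 0 ∨ c = 1 ∨ c = -1 := by decide
  rcases h7 (g.1 (Sum.inr 0) (Sum.inr 0)) with h | h | h <;> rw [h] at h5
  · exact absurd ((H12.spEquiv_apply g e₁).trans (h5.trans (zero_smul _ _)))
      (H12.UG_ne_zero _ (by decide +kernel))
  · exact ⟨g, h6 g (h5.trans (one_smul _ _)), rfl⟩
  · refine ⟨mn * g, h6 _ (by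
      change (-1 * g.1) *ᵥ e₁ = e₁
      rw [neg_one_mul, neg_mulVec, h5]; simp), ?_⟩
    rw [map_mul, QuotientGroup.mk'_apply, (QuotientGroup.eq_one_iff _).2
      (mem_center_iff.2 fun x => Subtype.ext (by change x.1 * -1 = -1 * x.1; simp)), one_mul]

theorem struct {X : Type*} [Group X] [Finite X] (hR : IsExtraspecial 3 (pCore 3 X))
    (cR : Nat.card (pCore 3 X) = 27) (hexp : ∀ r ∈ pCore 3 X, r ^ 3 = 1)
    (e : X ⧸ pCore 3 X ≃* SL(2, ZMod 3)) (hO2 : pCore 2 X = ⊥) {E : Subgroup X}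
    (hE1 : IsMulCommutative E) (hE2 : ∀ a ∈ E, a ^ 3 = 1) (hE3 : Nat.card E = 27) :
    Nat.card X = 648 ∧ ∃ a b z j k t : X, Rl a b z j k t ∧ closure {a, b, z, j, k, t} = ⊤ ∧
      ∀ N : Subgroup X, N.Normal → z ∉ N → N = ⊥ := by
  haveI : Fact (Nat.Prime 3) := ⟨Nat.prime_three⟩
  set R := pCore 3 X with hR'
  let π : X →* SL(2, ZMod 3) := e.toMonoidHom.comp (QuotientGroup.mk' R)
  have hπ : Function.Surjective π := e.surjective.comp (QuotientGroup.mk'_surjective _)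
  have kπ : ∀ g, π g = 1 ↔ g ∈ R := fun g =>
    (map_eq_one_iff _ e.injective).trans (QuotientGroup.eq_one_iff g)
  have eπ : ∀ g h, π g = π h → g⁻¹ * h ∈ R := fun g h e => (kπ _).1 (by
    rw [map_mul, map_inv, e, inv_mul_cancel])
  have cS : Nat.card SL(2, ZMod 3) = 24 := Nat.card_eq_fintype_card.trans F5
  have cX : Nat.card X = 648 := by
    rw [card_eq_card_quotient_mul_card_subgroup R, Nat.card_congr e.toEquiv, cS, cR]
  refine ⟨cX, ?_⟩
  set Z := (center R).map R.subtype with hZ'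
  have cZ : Nat.card Z = 3 := by rw [hZ', card_map_of_injective R.subtype_injective, hR.2]
  have ZR : Z ≤ R := map_subtype_le _
  have mZ : ∀ x ∈ R, (∀ y ∈ R, y * x = x * y) → x ∈ Z := fun x hx h =>
    ⟨⟨x, hx⟩, mem_center_iff.2 fun y => Subtype.ext (h y y.2), rfl⟩
  have RR : ∀ x ∈ R, ∀ y ∈ R, ⁅x, y⁆ ∈ Z := fun x hx y hy =>
    ⟨⁅⟨x, hx⟩, ⟨y, hy⟩⁆, hR.1.2.2.le (commutator_mem_commutator trivial trivial), rfl⟩
  have sq1 : ∀ r ∈ R, r * r = 1 → r = 1 := fun r hr h => by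
    have := hexp r hr
    rwa [pow_three', h, one_mul] at this
  have Zc : Z ≤ center X := by
    have h1 : Nat.card (MulAut Z) = 2 := by
      haveI := isCyclic_of_prime_card cZ
      rw [IsCyclic.card_mulAut, cZ]; rfl
    have h2 : ∀ g : X, MulAut.conjNormal (H := Z) g = 1 := fun g => by
      obtain ⟨x, y, h⟩ := F1 (π g)
      obtain ⟨x, rfl⟩ := hπ x
      obtain ⟨y, rfl⟩ := hπ y
      have h3 : ∀ u : MulAut Z, u * u = 1 := fun u => by rw [← pow_two, ← h1, pow_card_eq_one']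
      have h4 := eπ _ _ (show π (x * x * (y * y)) = π g by rw [h]; simp only [map_mul])
      rw [show g = x * x * (y * y) * ((x * x * (y * y))⁻¹ * g) by group, map_mul, map_mul, map_mul,
        map_mul, h3, h3, one_mul, one_mul]
      ext ⟨_, w, hw, rfl⟩
      exact mul_inv_eq_iff_eq_mul.2 (congrArg Subtype.val (mem_center_iff.1 hw ⟨_, h4⟩))
    exact fun w hw => mem_center_iff.2 fun g => mul_inv_eq_iff_eq_mul.1
      (congrArg (fun u : MulAut Z => (u ⟨w, hw⟩).1) (h2 g))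
  have zc : ∀ w ∈ Z, ∀ g, g * w = w * g := fun w hw => mem_center_iff.1 (Zc hw)
  obtain ⟨Q, cQ⟩ := Sylow.exists_subgroup_card_pow_prime (G := X) 2 (n := 3) (by rw [cX]; norm_num)
  have pQ := IsPGroup.of_card cQ
  replace cQ : Nat.card Q = 8 := cQ
  have q8 : ∀ q ∈ Q, q ^ 8 = 1 := fun q hq =>
    congrArg Subtype.val (cQ ▸ pow_card_eq_one' (x := (⟨q, hq⟩ : Q)))
  have r8 : ∀ r ∈ R, r ^ 8 = 1 → r = 1 := fun r hr h => sq1 r hr (by
    rwa [show r ^ 8 = (r ^ 3) ^ 2 * (r * r) by group, hexp r hr, one_pow, one_mul] at h)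
  have iQ : ∀ q ∈ Q, ∀ q' ∈ Q, π q = π q' → q = q' :=
    fun q hq q' hq' h => inv_mul_eq_one.1 (r8 _ (eπ _ _ h) (q8 _ (mul_mem (inv_mem hq) hq')))
  have sQ : ∀ g : SL(2, ZMod 3), g ^ 8 = 1 → ∃ q ∈ Q, π q = g := fun g hg => by
    obtain ⟨q, hq⟩ := ((Nat.bijective_iff_injective_and_card (fun q : Q =>
      (⟨π q, by rw [← map_pow, q8 _ q.2, map_one]⟩ : {g : SL(2, ZMod 3) // g ^ 8 = 1}))).2
      ⟨fun q q' h => Subtype.ext (iQ _ q.2 _ q'.2 (congrArg Subtype.val h)),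
        by rw [cQ, Nat.card_eq_fintype_card, F4]⟩).2 ⟨g, hg⟩
    exact ⟨q, q.2, congrArg Subtype.val hq⟩
  obtain ⟨i, iq, hi⟩ := sQ (-1) (by decide +kernel)
  have ii : i * i = 1 := iQ _ (mul_mem iq iq) _ (one_mem _) (by simp [hi])
  have i1 : i⁻¹ = i := inv_eq_of_mul_eq_one_right ii
  have Qi : ∀ q ∈ Q, q * i = i * q := fun q hq =>
    iQ _ (mul_mem hq iq) _ (mul_mem iq hq) (by simp [hi])
  have Qc : ∀ q ∈ Q, q = 1 ∨ q = i ∨ q * q = i := fun q hq =>
    (F3 (π q) (by rw [← map_pow, q8 q hq, map_one])).imp (fun h => iQ _ hq _ (one_mem _) (by simp [h]))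
      (Or.imp (fun h => iQ _ hq _ iq (h.trans hi.symm)) fun h =>
        iQ _ (mul_mem hq hq) _ iq (by rw [map_mul, h, hi]))
  have ci : ∀ g, g⁻¹ * (i * g * i⁻¹) ∈ R := fun g => eπ _ _ (by simp [hi])
  let I : Set X := {x | x ∈ R ∧ i * x * i⁻¹ = x⁻¹}
  have Ic : ∀ g, g * i = i * g → ∀ x ∈ I, g * x * g⁻¹ ∈ I := fun g hg x hx =>
    ⟨Normal.conj_mem inferInstance x hx.1 g, by
      calc i * (g * x * g⁻¹) * i⁻¹ = (i * g) * x * (i * g)⁻¹ := by group
        _ = g * (i * x * i⁻¹) * g⁻¹ := by rw [← hg]; group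
        _ = _ := by rw [hx.2]; group⟩
  have If : ∀ x ∈ I, i * x * i⁻¹ = x → x = 1 := fun x hx h =>
    sq1 x hx.1 (by rw [hx.2] at h; nth_rw 1 [← h]; exact inv_mul_cancel x)
  have sr : ∀ x ∈ I, x ≠ 1 → ∀ q ∈ Q, ∀ q' ∈ Q,
      q * x * q⁻¹ = q' * x * q'⁻¹ → q = q' := fun x hx x1 q hq q' hq' h => by
    have h1 : q'⁻¹ * q * x * (q'⁻¹ * q)⁻¹ = x := by
      calc _ = q'⁻¹ * (q * x * q⁻¹) * q' := by group
        _ = _ := by rw [h]; group
    rcases Qc _ (mul_mem (inv_mem hq') hq) with h2 | h2 | h2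
    · exact (inv_mul_eq_one.1 h2).symm
    · exact absurd (If x hx (h2 ▸ h1)) x1
    · refine absurd (If x hx ?_) x1
      generalize q'⁻¹ * q = u at h1 h2
      calc i * x * i⁻¹ = u * (u * x * u⁻¹) * u⁻¹ := by rw [← h2]; group
        _ = x := by rw [h1, h1]
  obtain ⟨x₀, hx₀, x1⟩ : ∃ x ∈ I, x ≠ 1 := by
    by_contra h0
    push Not at h0
    have h1 : ∀ r ∈ R, i * r * i⁻¹ = r := fun r hr => (inv_mul_eq_one.1 (h0 _ ⟨ci r, by
      calc i * (r⁻¹ * (i * r * i⁻¹)) * i⁻¹ = i * r⁻¹ * i * r * (i * i)⁻¹ := by group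
        _ = i * r⁻¹ * i⁻¹ * r := by rw [ii, i1, inv_one, mul_one]
        _ = _ := by group⟩)).symm
    have h2 : zpowers i ≤ center X := zpowers_le.2 (mem_center_iff.2 fun g => by
      have h3 := eπ i (g * i * g⁻¹) (by simp [hi])
      have h4 := sq1 _ h3 (by
        calc _ = (i * (i⁻¹ * (g * i * g⁻¹)) * i⁻¹) * (i⁻¹ * (g * i * g⁻¹)) := by rw [h1 _ h3]
          _ = g * i * g⁻¹ * (i * i)⁻¹ * (g * i * g⁻¹) := by group
          _ = g * (i * i) * g⁻¹ := by rw [show (i * i)⁻¹ = 1 by rw [ii, inv_one]]; group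
          _ = 1 := by rw [ii]; group)
      exact mul_inv_eq_iff_eq_mul.1 (inv_mul_eq_one.1 h4).symm)
    haveI := normal_of_le_cen h2
    have h3 := H1.le_pCore (N := zpowers i) (pQ.to_le (zpowers_le.2 iq)) (mem_zpowers i)
    rw [hO2, mem_bot] at h3
    exact F6 (by rw [← hi, h3, map_one])
  have one_I : (1 : X) ∈ I := ⟨one_mem _, by simp⟩
  have orb : ∀ x ∈ I, x ≠ 1 → ∃ f : Q → ↥(I \ {1}), Function.Injective f ∧
      ∀ q, (f q : X) = q * x * (q : X)⁻¹ := fun x hx x1 =>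
    ⟨fun q => ⟨q * x * (q : X)⁻¹, Ic _ (Qi _ q.2) x hx, fun h => x1 (by simpa using h)⟩,
      fun q q' h => Subtype.ext (sr x hx x1 _ q.2 _ q'.2 (congrArg Subtype.val h)), fun _ => rfl⟩
  have cI1 := Set.ncard_sdiff_singleton_add_one one_I
  have cI : 8 ≤ (I \ {1}).ncard := by
    obtain ⟨f, hf, -⟩ := orb x₀ hx₀ x1
    exact cQ ▸ Nat.card_le_card_of_injective f hf
  have inj : ∀ x ∈ I, ∀ y ∈ I, ∀ w v, i * w * i⁻¹ = w → i * v * i⁻¹ = v → x * w = y * v → x = y :=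
    fun x hx y hy w v hw hv h => by
      have h1 : x⁻¹ * w = y⁻¹ * v := by
        calc x⁻¹ * w = i * (x * w) * i⁻¹ := by rw [← hx.2]; nth_rw 1 [← hw]; group
          _ = _ := by rw [h, ← hy.2]; nth_rw 2 [← hv]; group
      have h2 : x * x = y * y := by
        calc x * x = (x * w) * (x⁻¹ * w)⁻¹ := by group
          _ = _ := by rw [h, h1]; group
      calc x = (x * x) * (x * x) * (x ^ 3)⁻¹ := by group
        _ = (y * y) * (y * y) * (y ^ 3)⁻¹ := by rw [h2, hexp x hx.1, hexp y hy.1]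
        _ = y := by group
  have prd : ∀ W : Subgroup X, W ≤ R → (∀ w ∈ W, i * w * i⁻¹ = w) →
      ∃ f : I × W → R, Function.Injective f ∧ ∀ p, (f p : X) = p.1 * p.2 := fun W h1 h2 =>
    ⟨fun p => ⟨p.1 * p.2, mul_mem p.1.2.1 (h1 p.2.2)⟩, fun p q h => by
      have h3 : (p.1 : X) * p.2 = q.1 * q.2 := congrArg Subtype.val h
      have h4 := inj _ p.1.2 _ q.1.2 _ _ (h2 _ p.2.2) (h2 _ q.2.2) h3
      exact Prod.ext (Subtype.ext h4) (Subtype.ext (mul_left_cancel (h4 ▸ h3))), fun _ => rfl⟩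
  have Zi : ∀ w ∈ Z, i * w * i⁻¹ = w := fun w hw => by rw [zc w hw, mul_inv_cancel_right]
  have CZ : R ⊓ centralizer {i} ≤ Z := by
    obtain ⟨f, hf, -⟩ := prd (R ⊓ centralizer {i}) inf_le_left fun w hw => by
      rw [← mem_centralizer_singleton_iff.1 hw.2, mul_inv_cancel_right]
    have h1 := Nat.card_le_card_of_injective f hf
    rw [Nat.card_prod, cR, Nat.card_coe_set_eq] at h1
    exact (eq_of_le_of_card_ge (le_inf ZR fun w hw => mem_centralizer_singleton_iff.2 (zc w hw i).symm)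
      (by nlinarith)).ge
  obtain ⟨cI9, dec⟩ : I.ncard ≤ 9 ∧ ∀ r ∈ R, ∃ x ∈ I, ∃ w ∈ Z, x * w = r := by
    obtain ⟨f, hf, hf'⟩ := prd Z ZR Zi
    have h1 := Nat.card_le_card_of_injective f hf
    rw [Nat.card_prod, cR, cZ, Nat.card_coe_set_eq] at h1
    refine ⟨by omega, fun r hr => ?_⟩
    obtain ⟨p, hp⟩ := ((Nat.bijective_iff_injective_and_card f).2 ⟨hf, by
      rw [Nat.card_prod, cR, cZ, Nat.card_coe_set_eq]; omega⟩).2 ⟨r, hr⟩
    exact ⟨_, p.1.2, _, p.2.2, (hf' p).symm.trans (congrArg Subtype.val hp)⟩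
  have tr : ∀ x ∈ I, x ≠ 1 → ∀ y ∈ I, y ≠ 1 → ∃ q ∈ Q, q * x * q⁻¹ = y :=
    fun x hx x1 y hy y1 => by
      obtain ⟨f, hf, hf'⟩ := orb x hx x1
      obtain ⟨q, hq⟩ := ((Nat.bijective_iff_injective_and_card f).2 ⟨hf, by
        rw [cQ, Nat.card_coe_set_eq]; omega⟩).2 ⟨y, hy, y1⟩
      exact ⟨q, q.2, (hf' q).symm.trans (congrArg Subtype.val hq)⟩
  have hQ : ∀ g, g * i = i * g → g ^ 8 = 1 → g ∈ Q := fun g h1 h2 => by
    obtain ⟨q, hq, h3⟩ := sQ (π g) (by rw [← map_pow, h2, map_one])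
    have h4 : q⁻¹ * g ∈ Z := CZ (mem_inf.2 ⟨eπ _ _ h3, mul_mem (inv_mem
      (mem_centralizer_singleton_iff.2 (Qi q hq))) (mem_centralizer_singleton_iff.2 h1)⟩)
    have h5 : (q * (q⁻¹ * g)) ^ 8 = 1 := by rw [mul_inv_cancel_left, h2]
    rw [(show Commute q _ from zc _ h4 q).mul_pow, q8 q hq, one_mul] at h5
    exact inv_mul_eq_one.1 (r8 _ (ZR h4) h5) ▸ hq
  have KR : ∀ g, (∀ r ∈ R, ⁅g, r⁆ ∈ Z) → g ∈ R := fun g hg => by
    haveI := normal_of_le_cen Zc
    let K : Subgroup X := centralizer (R.map (QuotientGroup.mk' Z)) |>.comap (QuotientGroup.mk' Z)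
    have hK : ∀ g, g ∈ K ↔ ∀ r ∈ R, ⁅g, r⁆ ∈ Z := fun g => by
      simp only [K, mem_comap, mem_centralizer_iff, SetLike.mem_coe, mem_map, forall_exists_index,
        and_imp, forall_apply_eq_imp_iff₂]
      refine forall₂_congr fun r _ => ?_
      rw [eq_comm, ← commutatorElement_eq_one_iff_mul_comm, ← map_commutatorElement]
      exact QuotientGroup.eq_one_iff _
    haveI := (inferInstance : R.Normal).map _ (QuotientGroup.mk'_surjective Z)
    have h1 : ∀ u ∈ K, π u ≠ -1 := fun u hu h => by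
      have h2 : i ∈ K := by
        simpa using mul_mem hu ((hK _).2 (RR _ (eπ u i (h.trans hi.symm))))
      have h3 := (hK _).1 h2 x₀ hx₀.1
      rw [commutatorElement_def, hx₀.2] at h3
      refine x1 (If x₀ hx₀ (Zi _ ?_))
      rw [show x₀ = x₀⁻¹ * x₀⁻¹ * x₀ ^ 3 by group, hexp x₀ hx₀.1, mul_one]
      exact h3
    have h2 := (hK g).2 hg
    have h3 : ∀ h, ⁅g, h⁆ ∈ K := fun h => by
      rw [commutatorElement_def, mul_assoc, mul_assoc, ← mul_assoc h]
      exact mul_mem h2 (Normal.conj_mem inferInstance _ (inv_mem h2) h)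
    rcases F2 (π g) with h | h | ⟨u, h⟩
    · exact (kπ g).1 h
    · exact absurd h (h1 g h2)
    · obtain ⟨u, rfl⟩ := hπ u
      rw [← map_commutatorElement, ← map_mul] at h
      exact h.elim (fun h => absurd h (h1 _ (h3 u))) fun h => absurd h (h1 _ (mul_mem (h3 u) (h3 u)))
  have Ec : ∀ x ∈ E, ∀ y ∈ E, x * y = y * x := fun x hx y hy =>
    congrArg Subtype.val (hE1.is_comm.comm ⟨x, hx⟩ ⟨y, hy⟩)
  have nR : ∀ A ≤ R, 9 ≤ Nat.card A → ¬ R ≤ centralizer (A : Set X) := fun A h1 h2 h3 => by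
    have := card_le_of_le (show A ≤ Z from fun x hx => mZ x (h1 hx) fun y hy => (h3 hy x hx).symm)
    omega
  obtain ⟨s, sE, sR⟩ : ∃ s ∈ E, s ∉ R := by
    by_contra h0
    push Not at h0
    exact nR E h0 (by omega) ((eq_of_le_of_card_ge h0 (by omega)).ge.trans fun x hx y hy => Ec y hy x hx)
  set A := E ⊓ R with hA
  have cA : 9 ≤ Nat.card A := by
    have h1 := H1.card_inf_mul_relIndex R E
    have h2 : R.relIndex E ∣ Nat.gcd 27 24 := Nat.dvd_gcd (hE3 ▸ relIndex_dvd_card _ _) (by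
      rw [← cS, ← Nat.card_congr e.toEquiv]; exact relIndex_dvd_index_of_normal R E)
    rw [inf_comm, hE3] at h1
    have := Nat.le_of_dvd (by norm_num) h2
    norm_num at this
    nlinarith
  have BA : R ⊓ centralizer (A : Set X) = A := by
    have h0 : A ≤ R ⊓ centralizer (A : Set X) := le_inf inf_le_right fun x hx y hy => Ec y hy.1 x hx.1
    obtain ⟨m, hm, h1⟩ := (Nat.dvd_prime_pow Nat.prime_three (m := 3)).1
      (cR ▸ card_dvd_of_le (inf_le_left : R ⊓ centralizer (A : Set X) ≤ R))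
    refine (eq_of_le_of_card_ge h0 (le_trans ?_ cA)).symm
    rcases (show m = 3 ∨ m ≤ 2 by omega) with rfl | h2
    · exact absurd (inf_eq_left.1 (eq_of_le_of_card_ge inf_le_left (by omega))) (nR A inf_le_right cA)
    · exact h1 ▸ Nat.pow_le_pow_right (by norm_num) h2
  have ZA : Z ≤ A := fun w hw => BA.le ⟨ZR hw, fun y _ => zc w hw y⟩
  have conjA : ∀ g, (∀ x ∈ A, g⁻¹ * x * g ∈ A) → ∀ u ∈ E, g * u * g⁻¹ ∈ centralizer (A : Set X) :=
    fun g hg u hu x hx => by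
      calc x * (g * u * g⁻¹) = g * (g⁻¹ * x * g * u) * g⁻¹ := by group
        _ = _ := by rw [Ec _ (hg x hx).1 u hu]; group
  have EA : E ≤ centralizer (A : Set X) := fun u hu x hx => Ec x hx.1 u hu
  have s' : i * s * i⁻¹ ∈ E := by
    have h1 := BA.le (mem_inf.2 ⟨ci s, mul_mem (inv_mem (EA sE)) (conjA i (fun x hx => by
      obtain ⟨y, hy, w, hw, rfl⟩ := dec x hx.2
      have h2 : y ∈ A := by simpa using mul_mem hx (inv_mem (ZA hw))
      rw [show i⁻¹ * (y * w) * i = i * (y * w) * i⁻¹ by rw [i1],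
        show i * (y * w) * i⁻¹ = (i * y * i⁻¹) * (i * w * i⁻¹) by group, hy.2, Zi w hw]
      exact mul_mem (inv_mem h2) (ZA hw)) s sE)⟩)
    simpa using mul_mem sE h1.1
  obtain ⟨t, tE, ti, tR⟩ : ∃ t ∈ E, t * i = i * t ∧ t ∉ R := ⟨s * (i * s * i⁻¹), mul_mem sE s', by
    calc s * (i * s * i⁻¹) * i = (i * i) * s * i * s := by rw [ii]; group
      _ = i * (i * s * i⁻¹ * s) := by rw [i1]; group
      _ = _ := by rw [Ec _ s' _ sE], fun h => sR (by
      have h1 := mul_mem h (inv_mem (ci s))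
      rw [show s * (i * s * i⁻¹) * (s⁻¹ * (i * s * i⁻¹))⁻¹ = s * s by group] at h1
      rw [show s = (s * s)⁻¹ * s ^ 3 by group, hE2 s sE, mul_one]
      exact inv_mem h1)⟩
  have t3 := hE2 t tE
  obtain ⟨b, hb, tb⟩ : ∃ b ∈ I, ⁅t, b⁆ ∉ Z := by
    by_contra h0
    push Not at h0
    refine tR (KR t fun r hr => ?_)
    obtain ⟨x, hx, w, hw, rfl⟩ := dec r hr
    rw [show ⁅t, x * w⁆ = t * x * (w * t⁻¹ * w⁻¹) * x⁻¹ by rw [commutatorElement_def]; group,
      ← zc w hw, mul_inv_cancel_right]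
    exact h0 x hx
  have tbA : ⁅t, b⁆ ∈ A := BA.le (mem_inf.2 ⟨by
      rw [commutatorElement_def]; exact mul_mem (Normal.conj_mem inferInstance b hb.1 t) (inv_mem hb.1), by
    rw [commutatorElement_def, mul_assoc, mul_assoc, ← mul_assoc b]
    exact mul_mem (EA tE) (conjA b (fun x hx => by
      rw [show b⁻¹ * x * b = ⁅b⁻¹, x⁆ * x by rw [commutatorElement_def]; group]
      exact mul_mem (ZA (RR _ (inv_mem hb.1) _ hx.2)) hx) _ (inv_mem tE))⟩)
  obtain ⟨a, ha, w, hw, e1⟩ := dec _ tbA.2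
  have aA : a ∈ A := by simpa [← e1] using mul_mem tbA (inv_mem (ZA hw))
  have aZ : a ∉ Z := fun h => tb (e1 ▸ mul_mem h hw)
  have a1 : a ≠ 1 := fun h => aZ (h ▸ one_mem _)
  have bA : b ∉ A := fun h => tb (by
    rw [commutatorElement_eq_one_iff_mul_comm.2 (Ec t tE b h.1)]; exact one_mem _)
  haveI := normal_of_le_cen Zc
  have gA : Z ⊔ zpowers a = A := eq_of_le_of_card_ge (sup_le ZA (zpowers_le.2 aA)) (by
    rw [H3.card_sup_zpowers (p := 3) (le_normalizer_of_normal (mem_top _)) aZ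
      (hexp a ha.1 ▸ one_mem _), cZ]
    obtain ⟨m, hm, h1⟩ := (Nat.dvd_prime_pow Nat.prime_three (m := 3)).1
      (cR ▸ card_dvd_of_le (inf_le_right : A ≤ R))
    rcases (show m = 3 ∨ m ≤ 2 by omega) with rfl | h2
    · exact absurd ((eq_of_le_of_card_ge (inf_le_right : A ≤ R) (by omega)).ge hb.1) bA
    · exact h1 ▸ Nat.pow_le_pow_right (by norm_num) h2)
  obtain ⟨z, hz⟩ : ∃ z, z = ⁅a, b⁆ := ⟨_, rfl⟩
  have zZ : z ∈ Z := hz ▸ RR a ha.1 b hb.1
  have r1 : a * b = z * b * a := by rw [hz, commutatorElement_def]; group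
  have z1 : z ≠ 1 := fun h => bA (BA.le ⟨hb.1, le_centralizer_iff.1 (show A ≤ centralizer (zpowers b) by
    rw [← gA, zpowers_eq_closure b, centralizer_closure]
    exact sup_le (fun w hw => mem_centralizer_singleton_iff.2 (zc w hw b).symm)
      (zpowers_le.2 (mem_centralizer_singleton_iff.2 (by rw [r1, h, one_mul])))) (mem_zpowers b)⟩)
  have z3 := hexp z (ZR zZ)
  have cz := zc z zZ
  have r7 : t * a = a * t := Ec t tE a aA.1
  have r8' : t * b * t⁻¹ = a * b * z := by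
    refine inj _ (Ic t ti b hb) _ ⟨mul_mem (mul_mem ha.1 hb.1) (ZR zZ), ?_⟩ z w (Zi z zZ) (Zi w hw) ?_
    · calc i * (a * b * z) * i⁻¹ = (i * a * i⁻¹) * (i * b * i⁻¹) * (i * z * i⁻¹) := by group
        _ = a⁻¹ * b⁻¹ * z := by rw [ha.2, hb.2, Zi z zZ]
        _ = _ := eq_inv_of_mul_eq_one_right (by
          calc a * b * z * (a⁻¹ * b⁻¹ * z) = a * b * (z * (a⁻¹ * b⁻¹)) * z := by group
            _ = ⁅a, b⁆ * z * z := by rw [← cz, commutatorElement_def]; group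
            _ = 1 := by rw [← hz, ← pow_three', z3])
    · rw [show t * b * t⁻¹ = ⁅t, b⁆ * b by rw [commutatorElement_def]; group, ← e1, mul_assoc a w,
        ← zc w hw b, mul_assoc (a * b), ← cz w]
      simp only [mul_assoc]
  obtain ⟨j, jQ, hj⟩ := tr a ha a1 b hb fun h => bA (h ▸ one_mem _)
  have jj : j * j = i := by
    rcases Qc j jQ with h | h | h
    · exact absurd (by rw [← hj, h]; simpa using aA) bA
    · exact absurd (by rw [← hj, h, ha.2]; exact inv_mem aA) bA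
    · exact h
  have jb : j * b * j⁻¹ = a⁻¹ := by rw [← hj, ← ha.2, ← jj]; group
  have tQ : ∀ q ∈ Q, t * q * t⁻¹ ∈ Q := fun q hq => hQ _ (by
    calc t * q * t⁻¹ * i = t * q * t⁻¹ * (t * i * t⁻¹) := by rw [ti, mul_inv_cancel_right]
      _ = t * (q * i) * t⁻¹ := by group
      _ = _ := by rw [Qi q hq, ← mul_assoc, ti]; group) (by rw [conj_pow, q8 q hq]; group)
  obtain ⟨k, hk⟩ : ∃ k, k = t * j * t⁻¹ := ⟨_, rfl⟩
  have kQ : k ∈ Q := hk ▸ tQ j jQ
  have ta : t⁻¹ * a * t = a := by rw [mul_assoc, ← r7, inv_mul_cancel_left]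
  have ka : k * a * k⁻¹ = a * b * z := by
    calc k * a * k⁻¹ = t * (j * (t⁻¹ * a * t) * j⁻¹) * t⁻¹ := by rw [hk]; group
      _ = _ := by rw [ta, hj, r8']
  have kk : k * k = j * j := by
    calc k * k = t * (j * j) * t⁻¹ := by rw [hk]; group
      _ = _ := by rw [jj, ti, mul_inv_cancel_right]
  have jk : j * k * j = k := by
    rcases Qc _ (mul_mem jQ kQ) with h | h | h
    · have h1 : b * b = a⁻¹ * z⁻¹ := by
        calc b * b = a⁻¹ * (a * b * z) * (z⁻¹ * b * z) * z⁻¹ := by group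
          _ = a⁻¹ * (j⁻¹ * (a * (j * b * j⁻¹)) * j) * z⁻¹ := by
            rw [← ka, eq_inv_of_mul_eq_one_right h, mul_assoc z⁻¹, cz b, inv_mul_cancel_left]; group
          _ = _ := by rw [jb]; group
      refine absurd ?_ bA
      rw [show b = (b * b)⁻¹ * b ^ 3 by group, hexp b hb.1, mul_one, h1]
      exact inv_mem (mul_mem (inv_mem aA) (inv_mem (ZA zZ)))
    · rw [← jj, mul_right_inj] at h
      rw [h, hj] at ka
      exact absurd (by rw [mul_assoc, cz, ← mul_assoc, eq_comm, mul_eq_right, mul_eq_one_iff_eq_inv] at ka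
                       exact ka ▸ inv_mem zZ) aZ
    · rw [← jj, ← kk, ← mul_assoc, mul_left_inj] at h
      exact h
  have r15 : t * j = k * t := by rw [hk, inv_mul_cancel_right]
  have a3 := hexp a ha.1
  have r16 : t * k * t⁻¹ = j * k := sr a ha a1 _ (tQ k kQ) _ (mul_mem jQ kQ) (by
    have z' : ∀ g, g * z * g⁻¹ = z := fun g => by rw [cz, mul_inv_cancel_right]
    calc t * k * t⁻¹ * a * (t * k * t⁻¹)⁻¹ = t * (k * (t⁻¹ * a * t) * k⁻¹) * t⁻¹ := by group
      _ = (t * a * t⁻¹) * (t * b * t⁻¹) * (t * z * t⁻¹) := by rw [ta, ka]; group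
      _ = a ^ 3 * a⁻¹ * (b * z * a) * a⁻¹ * z * (a * z * a⁻¹) * z⁻¹ := by
        rw [r7, mul_inv_cancel_right, r8', z' t, z' a, pow_three']; group
      _ = a⁻¹ * (a * b) * a⁻¹ * z := by rw [a3, cz b, ← r1, z' a]; group
      _ = (j * a * j⁻¹) * (j * b * j⁻¹) * (j * z * j⁻¹) := by rw [hj, jb, z' j]; group
      _ = _ := by rw [show j * k * a * (j * k)⁻¹ = j * (k * a * k⁻¹) * j⁻¹ by group, ka]; group)
  refine ⟨a, b, z, j, k, t, ⟨r1, (cz a).symm, (cz b).symm, a3, hexp b hb.1, z3, r7,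
    mul_inv_eq_iff_eq_mul.1 r8', mul_inv_eq_iff_eq_mul.1 hj, by
      rw [mul_assoc, mul_inv_eq_iff_eq_mul.1 jb, mul_inv_cancel_left], t3, by rw [jj, ii], kk, jk, r15,
    mul_inv_eq_iff_eq_mul.1 r16⟩, ?_, fun N hN zN => ?_⟩
  · set L := closure {a, b, z, j, k, t} with hL
    have gZ : zpowers z = Z := eq_of_le_of_card_ge (zpowers_le.2 zZ)
      (by rw [Nat.card_zpowers, orderOf_eq_prime z3 z1, cZ])
    have AL : A ≤ L := gA.ge.trans (sup_le (gZ.ge.trans (zpowers_le.2 (subset_closure (by simp))))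
      (zpowers_le.2 (subset_closure (by simp))))
    have RL : R ≤ L := by
      have h1 := card_le_of_le (le_sup_left : A ≤ A ⊔ zpowers b)
      have h0 : A ⊔ zpowers b ≤ R := sup_le inf_le_right (zpowers_le.2 hb.1)
      obtain ⟨m, hm, h2⟩ := (Nat.dvd_prime_pow Nat.prime_three (m := 3)).1 (cR ▸ card_dvd_of_le h0)
      rcases (show m = 3 ∨ m ≤ 2 by omega) with rfl | h3
      · exact (eq_of_le_of_card_ge h0 (by omega)).ge.trans
          (sup_le AL (zpowers_le.2 (subset_closure (by simp))))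
      · have := Nat.pow_le_pow_right (n := 3) (by norm_num) h3
        exact absurd ((eq_of_le_of_card_ge (le_sup_left : A ≤ A ⊔ zpowers b) (by omega)).ge
          (mem_sup_right (mem_zpowers b))) bA
    have h1 : 4 ∣ Nat.card (L.map π) := by
      have := orderOf_dvd_natCard (⟨π j, j, subset_closure (by simp), rfl⟩ : L.map π)
      rwa [← Subgroup.orderOf_coe, orderOf_eq_prime_pow (p := 2) (n := 1)
        (by rw [pow_one, pow_two, ← map_mul, jj, hi]; exact F6)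
        (by rw [show 2 ^ (1 + 1) = 2 * 2 by rfl, pow_mul, pow_two (π j), ← map_mul, jj, hi]; simp)] at this
    have h2 : 3 ∣ Nat.card (L.map π) := by
      have := orderOf_dvd_natCard (⟨π t, t, subset_closure (by simp), rfl⟩ : L.map π)
      rwa [← Subgroup.orderOf_coe, orderOf_eq_prime (by rw [← map_pow, t3, map_one])
        fun h => tR ((kπ t).1 h)] at this
    have h3 := (L.map π).card_mul_index
    obtain ⟨c, hc⟩ := (Nat.Coprime.mul_dvd_of_dvd_of_dvd (by norm_num) h1 h2)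
    rw [cS, hc] at h3
    have h4 : (L.map π).index ∣ 2 := ⟨c, by linarith⟩
    have h5 : L.map π = ⊤ := by
      rcases (Nat.dvd_prime Nat.prime_two).1 h4 with h | h
      · exact index_eq_one.1 h
      · refine eq_top_iff.2 fun g _ => ?_
        obtain ⟨x, y, rfl⟩ := F1 g
        exact mul_mem (mul_self_mem_of_index_two h x) (mul_self_mem_of_index_two h y)
    refine eq_top_iff.2 fun g _ => ?_
    obtain ⟨u, hu, h6⟩ := h5.ge (mem_top (π g))
    simpa using mul_mem hu (RL (eπ _ _ h6))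
  · have h1 : N ⊓ Z = ⊥ := by
      rcases (Nat.dvd_prime Nat.prime_three).1 (cZ ▸ card_dvd_of_le (inf_le_right : N ⊓ Z ≤ Z)) with h | h
      · exact card_eq_one.1 h
      · exact absurd ((eq_of_le_of_card_ge (inf_le_right : N ⊓ Z ≤ Z) (by omega)).ge zZ).1 zN
    have h2 : N ⊓ R = ⊥ := eq_bot_iff.2 fun x hx => h1.le ⟨hx.1, mZ x hx.2 fun y hy =>
      commutatorElement_eq_one_iff_mul_comm.1 (mem_bot.1 (h1.le ⟨commutator_le_right ⊤ N
        (commutator_mem_commutator trivial hx.1), RR y hy x hx.2⟩))⟩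
    refine eq_bot_iff.2 fun x hx => h2.le ⟨hx, KR x fun r hr => ?_⟩
    rw [mem_bot.1 (h2.le (commutator_le_inf N R (commutator_mem_commutator hx hr)))]
    exact one_mem _

theorem main {X : Type*} [Group X] [Finite X] (hX : Nat.card X = 648) {a b z j k t : X}
    (h : Rl a b z j k t) (hg : closure {a, b, z, j, k, t} = ⊤)
    (hN : ∀ N : Subgroup X, N.Normal → z ∉ N → N = ⊥) {P : Type*} [Group P] (ε : PSp 2 (ZMod 3) ≃* P) :
    ∃ (c : P) (S : Sylow 3 P), orderOf c = 3 ∧ c ∈ (S : Subgroup P) ∧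
      c ∈ centralizer ((S : Subgroup P) : Set P) ∧ Nonempty (X ≃* centralizer ({c} : Set P)) := by
  haveI : Fact (Nat.Prime 3) := ⟨Nat.prime_three⟩
  haveI : Finite P := Finite.of_equiv _ ε.toEquiv
  obtain ⟨f, f1, f2⟩ := h.hom rl_sp hg hX
  let φ : Sp →* P := ε.toMonoidHom.comp (QuotientGroup.mk' _)
  have h1 : φ mz ≠ 1 := fun e => cm_sp.2.2.2 (sq_cen ((QuotientGroup.eq_one_iff _).1
    ((map_eq_one_iff _ ε.injective).1 e)))
  have h2 : Function.Injective (φ.comp f) := (MonoidHom.ker_eq_bot_iff _).1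
    (hN _ inferInstance fun e => h1 (f1 ▸ e))
  have h3 : ∀ g, (φ.comp f) g ∈ centralizer {φ mz} := fun g => mem_centralizer_singleton_iff.2 (by
    have := f2 (centralizer {mz}) (mem_centralizer_singleton_iff.2 rl_sp.r2.symm)
      (mem_centralizer_singleton_iff.2 rl_sp.r3.symm) (mem_centralizer_singleton_iff.2 rfl)
      (mem_centralizer_singleton_iff.2 cm_sp.1) (mem_centralizer_singleton_iff.2 cm_sp.2.1)
      (mem_centralizer_singleton_iff.2 cm_sp.2.2.1) g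
    rw [MonoidHom.comp_apply, ← map_mul, mem_centralizer_singleton_iff.1 this, map_mul])
  have h4 : Function.Injective ((φ.comp f).codRestrict _ h3) := fun _ _ e =>
    h2 (congrArg Subtype.val e)
  have h5 : Nat.card (centralizer {φ mz}) ≤ 648 := le_trans (Nat.card_le_card_of_injective
    (fun g => (⟨ε.symm g, mem_centralizer_singleton_iff.2 (ε.injective (by
      rw [map_mul, map_mul, ε.apply_symm_apply]; exact mem_centralizer_singleton_iff.1 g.2))⟩ :
      centralizer {QuotientGroup.mk' (center Sp) mz}))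
    fun _ _ e => Subtype.ext (ε.symm.injective (congrArg Subtype.val e))) card_cent
  have h6 : Nat.card (centralizer {φ mz}) = 648 :=
    le_antisymm h5 (hX ▸ Nat.card_le_card_of_injective _ h4)
  have h7 : φ mz ^ 3 = 1 := by rw [← map_pow, rl_sp.r6, map_one]
  have cP : Nat.card P = 25920 := by
    have := card_eq_card_quotient_mul_card_subgroup (center Sp)
    rw [card_Sp, H12.card_center_sp, Nat.card_zmod, Nat.card_congr ε.toEquiv] at this
    norm_num at this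
    omega
  obtain ⟨T, hT⟩ := IsPGroup.exists_le_sylow (p := 3)
    (P := zpowers (⟨φ mz, mem_centralizer_singleton_iff.2 rfl⟩ : centralizer {φ mz}))
    (IsPGroup.of_card (n := 1) (by
      rw [Nat.card_zpowers, ← Subgroup.orderOf_coe, orderOf_eq_prime h7 h1, pow_one]))
  have f3 : ∀ m, ¬ 3 ∣ m → (3 ^ 4 * m).factorization 3 = 4 := fun m hm => by
    rw [Nat.factorization_mul (by norm_num) (by rintro rfl; simp at hm), Finsupp.add_apply,
      Nat.factorization_pow_self Nat.prime_three, Nat.factorization_eq_zero_of_not_dvd hm]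
  refine ⟨φ mz, Sylow.ofCard ((T : Subgroup _).map (centralizer {φ mz}).subtype) (by
    rw [card_map_of_injective (subtype_injective _), T.card_eq_multiplicity, h6, cP,
      show Nat.factorization 648 3 = 4 from f3 8 (by norm_num),
      show Nat.factorization 25920 3 = 4 from f3 320 (by norm_num)]), orderOf_eq_prime h7 h1, ⟨_, hT (mem_zpowers _), rfl⟩, ?_,
    ⟨MulEquiv.ofBijective _ ((Nat.bijective_iff_injective_and_card _).2 ⟨h4, hX.trans h6.symm⟩)⟩⟩
  rintro _ ⟨g, -, rfl⟩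
  exact mem_centralizer_singleton_iff.1 g.2

end Cfsg.Agent.H22.P648
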