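import Cfsg.Agent.H27.SL2d
import Cfsg.Agent.H12.Root2
import Cfsg.Agent.H1.Basic

/-! Elements lying in a unique Sylow subgroup of `SL₂(q)`. -/

set_option autoImplicit false
set_option linter.style.haveILetI false

namespace Cfsg.Agent.H22.Red

open Matrix Cfsg.Agent.H12 Cfsg.Agent.H27 Subgroup
open scoped MatrixGroups Pointwise

/-- some `p`-element lies in a unique Sylow subgroup -/
def U (p : ℕ) (G : Type*) [Group G] : Prop :=
  ∃ x : G, (∃ k : ℕ, orderOf x = p ^ k) ∧ ∃! P : Sylow p G, x ∈ P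

section
variable {G : Type*} [Group G] {p : ℕ} [Fact p.Prime]

theorem ord_of_mem [Finite G] {P : Sylow p G} {x : G} (h : x ∈ P) : ∃ k : ℕ, orderOf x = p ^ k := by
  obtain ⟨k, hk⟩ := (IsPGroup.iff_orderOf.1 P.2) ⟨x, h⟩
  exact ⟨k, by rw [← hk]; exact (orderOf_coe (⟨x, h⟩ : (P : Subgroup G)))⟩

omit [Fact p.Prime] in
theorem eq_of_le {P Q : Sylow p G} (h : (P : Subgroup G) ≤ Q) : Q = P :=
  Sylow.ext (P.3 Q.2 h)

theorem U_of [Finite G] (P : Sylow p G) {x : G} (hx : x ∈ P)
    (h : ∀ Q : Sylow p G, x ∈ Q → Q = P) : U p G :=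
  ⟨x, ord_of_mem hx, P, hx, h⟩

theorem U_of_cyc [Finite G] (P : Sylow p G) {y : G} (h : (P : Subgroup G) = zpowers y) : U p G :=
  U_of P (x := y) (show y ∈ (P : Subgroup G) from h ▸ mem_zpowers y) fun _ hQ =>
    eq_of_le (h.le.trans (zpowers_le.2 hQ))

omit [Fact p.Prime] in
theorem mem_norm_of_unique {P : Sylow p G} {x g : G} (h : ∀ Q : Sylow p G, x ∈ Q → Q = P)
    (hx : x ∈ P) (hg : g * x = x * g) : g ∈ normalizer ((P : Subgroup G) : Set G) := by
  refine Sylow.smul_eq_iff_mem_normalizer.1 (h _ ?_)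
  change x ∈ ((g • P : Sylow p G) : Subgroup G)
  rw [Sylow.coe_subgroup_smul, H1.mem_conj_smul, mul_assoc, ← hg, inv_mul_cancel_left]
  exact hx

theorem U_quot [Finite G] : U p (G ⧸ center G) ↔ U p G := by
  have hf : Function.Surjective (QuotientGroup.mk' (center G)) := QuotientGroup.mk'_surjective _
  have key : ∀ (Q : Sylow p G) (x : G), (∃ k : ℕ, orderOf x = p ^ k) →
      QuotientGroup.mk' (center G) x ∈ Q.mapSurjective hf → x ∈ Q := by
    rintro Q x ⟨k, hk⟩ ⟨y, hy, e⟩
    obtain ⟨z, hz, rfl⟩ := (QuotientGroup.mk'_eq_mk' _).1 e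
    have h3 : IsPGroup p (zpowers (y * z)) := IsPGroup.of_card (by rw [Nat.card_zpowers, hk])
    exact ((h3.inf_normalizer_sylow Q).le ⟨mem_zpowers _, Subgroup.mul_mem _ (le_normalizer hy)
      (center_le_normalizer _ hz)⟩).2
  constructor
  · rintro ⟨x, -, Q, hQ, hu⟩
    obtain ⟨P, rfl⟩ := Sylow.mapSurjective_surjective hf p Q
    obtain ⟨y, hy, rfl⟩ := hQ
    refine U_of P hy fun R hR => ?_
    have := hu (R.mapSurjective hf) ⟨y, hR, rfl⟩
    exact eq_of_le fun a ha => key R a (ord_of_mem ha) (this ▸ ⟨a, ha, rfl⟩)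
  · rintro ⟨x, hx, P, hP, hu⟩
    refine U_of (P.mapSurjective hf) (x := QuotientGroup.mk' _ x) ⟨x, hP, rfl⟩ fun R hR => ?_
    obtain ⟨Q, rfl⟩ := Sylow.mapSurjective_surjective hf p R
    rw [hu Q (key Q x hx hR)]

end

variable {F : Type*} [Field F] [Fintype F]

theorem card_torS {g : SL(2, F)} (hg : Reg g) :
    Nat.card (torS g) = Fintype.card F - 1 ∨ Nat.card (torS g) = Fintype.card F + 1 := by
  rw [← Nat.card_eq_fintype_card]
  rcases type_cases (g : M2 F) with h | h | h | h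
  · exact (hg.not_scal h).elim
  · exact (hg.not_uni h).elim
  · exact Or.inl (card_torS_spl h)
  · exact Or.inr (card_torS_ell h)

theorem U_char (p : ℕ) [Fact p.Prime] [CharP F p] : U p SL(2, F) := by
  obtain ⟨⟨x, hx⟩, hx1⟩ := ne_bot_iff_exists_ne_one.1 (rootSL_ne_bot (inf F))
  refine U_of (rootSylow p (inf F)) (x := x) hx fun Q hQ => ?_
  obtain ⟨y, hy⟩ := sylow_SL2_eq_rootSL p Q
  by_cases h : y = inf F
  · exact Sylow.ext (by rw [hy, h]; rfl)
  · refine (hx1 (Subtype.ext ?_)).elim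
    exact mem_bot.1 ((rootSL_inf_eq_bot h).le ⟨hy ▸ hQ, hx⟩)

theorem U_odd (p : ℕ) [hp : Fact p.Prime] (h2 : p ≠ 2) : U p SL(2, F) := by
  obtain ⟨P⟩ : Nonempty (Sylow p SL(2, F)) := inferInstance
  by_cases h : p ∣ Nat.card SL(2, F)
  · rw [card_S2, sq_sub_one_nat, Nat.card_eq_fintype_card] at h
    rcases (Nat.Prime.dvd_mul hp.out).1 h with h | h
    · haveI : CharP F p := (CharP.charP_iff_prime_eq_zero hp.out).2
        ((prime_dvd_char_iff_dvd_card p).2 h |> fun h' => (ringChar.spec F p).2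
          (((Nat.prime_dvd_prime_iff_eq hp.out (CharP.char_is_prime F _)).1 h').symm.dvd))
      exact U_char p
    · rcases (Nat.Prime.dvd_mul hp.out).1 h with h | h
      · obtain ⟨y, -, hy, -⟩ := sylow_odd h2 P (Or.inl rfl) h
        exact U_of_cyc P hy
      · obtain ⟨y, -, hy, -⟩ := sylow_odd h2 P (Or.inr rfl) h
        exact U_of_cyc P hy
  · refine U_of_cyc P (y := 1) ?_
    rw [zpowers_one_eq_bot]
    obtain ⟨n, hn⟩ := P.2.exists_card_eq
    rcases n with _ | n
    · exact card_eq_one.1 hn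
    · exact (h ((dvd_pow_self p n.succ_ne_zero).trans (hn ▸ card_subgroup_dvd_card _))).elim

theorem U_two (hodd : Odd (Fintype.card F)) :
    U 2 SL(2, F) ↔ (∃ k, Fintype.card F + 1 = 2 ^ k) ∨ ∃ k, Fintype.card F = 2 ^ k + 1 := by
  have h2 : (2 : F) ≠ 0 := two_ne_zero_iff_odd.2 hodd
  have hq : 1 < Fintype.card F := Fintype.one_lt_card
  constructor
  · rintro ⟨x, -, S, hx, hu⟩
    have key : ∀ t w : SL(2, F), Reg t → w ∈ (S : Subgroup SL(2, F)) → w * t * w⁻¹ = t⁻¹ →
        x ∈ torS t → (∃ k, Fintype.card F + 1 = 2 ^ k) ∨ ∃ k, Fintype.card F = 2 ^ k + 1 := by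
      intro t w ht hw e hxt
      have hle : torS t ≤ S := fun s hs => two_mem_of_mem_torS ht hw e
        (mem_norm_of_unique hu hx (torS_comm ht.not_scal hs hxt)) hs
      obtain ⟨n, hn⟩ := (S.2.to_le hle).exists_card_eq
      rcases card_torS ht with h | h
      · exact Or.inr ⟨n, by omega⟩
      · exact Or.inl ⟨n, by omega⟩
    obtain ⟨k, t, w, hk, ht, ho, -, htS, hwS, hw, hS⟩ := sylow_two hodd S
    by_cases hxt : x ∈ torS t
    · exact key t w ht hwS hw hxt
    · have hn := two_le_normalizer ht hw hS hx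
      have hxx := mul_self_of_not_mem ht hn hxt
      have hi := inverts_of_not_mem ht hn hxt
      obtain ⟨j, rfl⟩ : ∃ j, k = j + 1 := ⟨k - 1, by omega⟩
      have hii : t ^ 2 ^ j * t ^ 2 ^ j = -1 := by
        have h1 : (t ^ 2 ^ j * t ^ 2 ^ j) * (t ^ 2 ^ j * t ^ 2 ^ j) = 1 := by
          rw [← pow_add, ← pow_add, ← pow_orderOf_eq_one t, ho]; congr 1; ring
        refine (sl2_eq_of_mul_self h2 h1).resolve_left fun h => ?_
        rw [← pow_add, ← orderOf_dvd_iff_pow_eq_one, ho] at h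
        have := Nat.le_of_dvd (by positivity) h
        have : 0 < 2 ^ j := by positivity
        rw [pow_succ] at *
        omega
      have hxr : Reg x := by
        rcases central_or_trace_ne (n := 2) (g := x) (by simpa using h2) (Or.inr (by rw [sq, hxx]))
          with e | e | e
        · exact (hxt (e ▸ Subgroup.one_mem _)).elim
        · exact (hxt (e ▸ neg_one_mem_torS t)).elim
        · exact e
      refine key x (t ^ 2 ^ j) hxr (Subgroup.pow_mem _ htS _) ?_ (self_mem_torS x)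
      have h3 := inverts_torS ht hi ((torS t).inv_mem ((torS t).pow_mem (self_mem_torS t) (2 ^ j)))
      rw [inv_inv, mul_inv_eq_iff_eq_mul] at h3
      rw [mul_assoc, h3, ← mul_assoc, hii, eq_inv_iff_mul_eq_one, mul_assoc, hxx]
      simp
  · intro h
    obtain ⟨S⟩ : Nonempty (Sylow 2 SL(2, F)) := inferInstance
    obtain ⟨k, t, w, hk, ht, ho, hc, htS, hwS, hw, hS⟩ := sylow_two hodd S
    have h4 : 4 ∣ Nat.card (torS t) := by
      refine Dvd.dvd.trans ?_ (card_dvd_of_le (zpowers_le_torS t))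
      rw [Nat.card_zpowers, ho]
      exact mul_dvd_mul_left 2 (dvd_pow_self 2 (by omega))
    have hp : ∃ n, Nat.card (torS t) = 2 ^ n := by
      have aux : ∀ m, 2 ^ m % 4 = 2 → 2 ^ m = 2 := by
        intro m hm
        rcases m with _ | _ | m
        · simp at hm
        · rfl
        · rw [pow_add, pow_add] at hm; omega
      rcases card_torS ht with e | e <;> rcases h with ⟨m, hm⟩ | ⟨m, hm⟩
      · have := aux m (by omega); omega
      · exact ⟨m, by omega⟩
      · exact ⟨m, by omega⟩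
      · have := aux m (by omega); exact ⟨2, by omega⟩
    obtain ⟨n, hn⟩ := hp
    have hN : normalizer (torS t : Set SL(2, F)) = S :=
      S.3 (IsPGroup.of_card (n := n + 1) (by rw [card_normalizer_torS ht, hn]; ring))
        (two_le_normalizer ht hw hS)
    refine U_of S htS fun Q hQ => (eq_of_le ?_).symm
    rw [← hN, ← normalizer_zpowers_eq ht]
    have hle : zpowers t ≤ (Q : Subgroup SL(2, F)) := zpowers_le.2 hQ
    rw [← normal_subgroupOf_iff_le_normalizer hle]
    refine normal_of_index_eq_two ?_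
    have c1 := card_mul_index ((zpowers t).subgroupOf Q)
    rw [Nat.card_congr (subgroupOfEquivOfLe hle).toEquiv, Nat.card_zpowers, ho,
      Nat.card_congr (Q.equiv S).toEquiv, hc] at c1
    exact Nat.eq_of_mul_eq_mul_left (show 0 < 2 * 2 ^ k by positivity) (by rw [c1]; ring)

theorem main (p : ℕ) [Fact p.Prime] : ¬ U p SL(2, F) ↔
    (p = 2 ∧ (¬ ∃ k : ℕ, Fintype.card F + 1 = 2 ^ k) ∧ (¬ ∃ k : ℕ, Fintype.card F = 2 ^ k) ∧
      ¬ ∃ k : ℕ, Fintype.card F = 2 ^ k + 1) := by
  by_cases hp : p = 2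
  · subst hp
    by_cases hodd : Odd (Fintype.card F)
    · rw [U_two hodd]
      have : ¬ ∃ k : ℕ, Fintype.card F = 2 ^ k := by
        rintro ⟨k, hk⟩
        have hq : 1 < Fintype.card F := Fintype.one_lt_card
        rcases k with _ | k
        · omega
        · rw [hk, pow_succ] at hodd
          exact (Nat.not_odd_iff_even.2 (by simp)) hodd
      tauto
    · haveI : CharP F 2 := (CharP.charP_iff_prime_eq_zero Nat.prime_two).2 (by
        by_contra h
        exact hodd (two_ne_zero_iff_odd.1 (by simpa using h)))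
      obtain ⟨n, -, hn⟩ := FiniteField.card F 2
      exact iff_of_false (not_not.2 (U_char 2)) fun h => h.2.2.1 ⟨n, hn⟩
  · exact iff_of_false (not_not.2 (U_odd p hp)) fun h => hp h.1

end Cfsg.Agent.H22.Red
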