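import Cfsg.Agent.H22.Red
import Cfsg.Agent.H12.Lin

/-! Sylow `p`-subgroups of `GL_p(q)` when `p` exactly divides `q - 1`. -/

set_option autoImplicit false
set_option linter.style.haveILetI false

namespace Cfsg.Agent.H22.Red

open Matrix Subgroup
open scoped Pointwise

theorem uniq_conj {G : Type*} [Group G] {p : ℕ} {x : G} (g : G) (h : ∃! P : Sylow p G, x ∈ P) :
    ∃! P : Sylow p G, g * x * g⁻¹ ∈ P := by
  have key : ∀ (P : Sylow p G), g * x * g⁻¹ ∈ P ↔ x ∈ g⁻¹ • P := fun P => by
    change _ ↔ x ∈ ((g⁻¹ • P : Sylow p G) : Subgroup G)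
    rw [Sylow.coe_subgroup_smul, H1.mem_conj_smul, inv_inv]; rfl
  obtain ⟨P, hP, hu⟩ := h
  refine ⟨g • P, (key _).2 (by rwa [inv_smul_smul]), fun Q hQ => ?_⟩
  rw [← hu _ ((key Q).1 hQ), smul_inv_smul]

theorem val_GL {p q : ℕ} [hp : Fact p.Prime] (h2 : p ≠ 2) (hq : 1 < q) (h1 : p ∣ q - 1)
    (h3 : ¬ p ^ 2 ∣ q - 1) : (∏ i : Fin p, (q ^ p - q ^ (i : ℕ))).factorization p = p + 1 := by
  have hpq : ¬ p ∣ q := fun h => by
    have := (Nat.dvd_sub_iff_right hq.le h).1 h1
    exact hp.out.one_lt.ne' (Nat.dvd_one.1 this)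
  have v1 : padicValNat p (q - 1) = 1 := by
    have a := one_le_padicValNat_of_dvd (by omega) h1
    by_contra h
    exact h3 ((padicValNat_dvd_iff_le (by omega)).2 (by omega))
  have hv : ∀ i : Fin p, (q ^ p - q ^ (i : ℕ)).factorization p =
      1 + if i = 0 then 1 else 0 := fun i => by
    have hi := i.2
    have e : q ^ p - q ^ (i : ℕ) = q ^ (i : ℕ) * (q ^ (p - i) - 1 ^ (p - i)) := by
      rw [one_pow, Nat.mul_sub, ← pow_add, mul_one, Nat.add_sub_cancel' hi.le]
    have h0 : q ^ (p - i) - 1 ^ (p - i) ≠ 0 := by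
      have := Nat.one_lt_pow (n := p - i) (by omega) hq
      rw [one_pow]; omega
    rw [Nat.factorization_def _ hp.out, e, padicValNat.mul (by positivity) h0,
      padicValNat.eq_zero_of_not_dvd (fun h => hpq (hp.out.dvd_of_dvd_pow h)),
      padicValNat.pow_sub_pow (hp.out.odd_of_ne_two h2) hq h1 hpq (by omega), v1, zero_add]
    congr 1
    split_ifs with h
    · simp [h]
    · refine padicValNat.eq_zero_of_not_dvd fun hd => h (Fin.ext ?_)
      have := Nat.le_of_dvd (by omega) hd
      rw [Fin.val_zero]; omega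
  rw [Nat.factorization_prod_apply (fun i _ => by
    have := Nat.pow_lt_pow_right hq i.2
    omega), Finset.sum_congr rfl fun i _ => hv i]
  simp [Finset.sum_add_distrib]

variable {F : Type*} [Field F] {p : ℕ} [hp : Fact p.Prime]

/-- monomial matrix -/
def mm (k : Fin p) (d : Fin p → rootsOfUnity p F) : Matrix (Fin p) (Fin p) F :=
  Matrix.of fun a b => if a = b + k then ((d b : Fˣ) : F) else 0

theorem mm_mul (k l : Fin p) (d e : Fin p → rootsOfUnity p F) :
    mm k d * mm l e = mm (l + k) fun b => d (b + l) * e b := by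
  ext a b
  simp [mm, Matrix.mul_apply, add_assoc]

theorem mm_one : mm (0 : Fin p) (1 : Fin p → rootsOfUnity p F) = 1 := by
  ext a b
  simp [mm, Matrix.one_apply]

/-- monomial element of `GL` -/
def mk (k : Fin p) (d : Fin p → rootsOfUnity p F) : GL (Fin p) F :=
  ⟨mm k d, mm (-k) fun b => (d (b - k))⁻¹, by
    rw [mm_mul, ← mm_one]; congr 1
    · simp
    · ext b; simp [sub_eq_add_neg], by
    rw [mm_mul, ← mm_one]; congr 1
    · simp
    · ext b; simp⟩

theorem mk_apply (k : Fin p) (d : Fin p → rootsOfUnity p F) (a b : Fin p) :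
    (mk k d : Matrix (Fin p) (Fin p) F) a b = if a = b + k then ((d b : Fˣ) : F) else 0 := rfl

theorem mk_mul (k l : Fin p) (d e : Fin p → rootsOfUnity p F) :
    mk k d * mk l e = mk (l + k) fun b => d (b + l) * e b := Units.ext (mm_mul k l d e)

theorem mk_inj {k l : Fin p} {d e : Fin p → rootsOfUnity p F} (h : mk k d = mk l e) :
    k = l ∧ d = e := by
  have h1 : ∀ b, ((d b : Fˣ) : F) = if b + k = b + l then ((e b : Fˣ) : F) else 0 := fun b => by
    rw [← mk_apply, ← h, mk_apply, if_pos rfl]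
  have h2 : k = l := by
    by_contra hn
    have := h1 0
    rw [if_neg (by simpa using hn)] at this
    exact Units.ne_zero _ this
  refine ⟨h2, funext fun b => Subtype.ext (Units.ext ?_)⟩
  rw [h1, h2, if_pos rfl]

theorem mk_pow (k : Fin p) (d : Fin p → rootsOfUnity p F) (n : ℕ) :
    ∃ e, mk k d ^ n = mk (n • k) e := by
  induction n with
  | zero => exact ⟨1, by rw [pow_zero, zero_smul]; exact Units.ext mm_one.symm⟩
  | succ n ih =>
    obtain ⟨e, he⟩ := ih
    exact ⟨_, by rw [pow_succ', he, mk_mul, succ_nsmul]⟩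

variable (F p) in
/-- the monomial `p`-group -/
def W : Subgroup (GL (Fin p) F) where
  carrier := {g | ∃ k d, g = mk k d}
  one_mem' := ⟨0, 1, Units.ext mm_one.symm⟩
  mul_mem' := by
    rintro _ _ ⟨k, d, rfl⟩ ⟨l, e, rfl⟩
    exact ⟨_, _, mk_mul k l d e⟩
  inv_mem' := by
    rintro _ ⟨k, d, rfl⟩
    exact ⟨-k, fun b => (d (b - k))⁻¹, Units.ext rfl⟩

theorem card_W (h : Nat.card (rootsOfUnity p F) = p) : Nat.card (W F p) = p ^ (p + 1) := by
  have : Function.Bijective (fun q : Fin p × (Fin p → rootsOfUnity p F) =>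
      (⟨mk q.1 q.2, _, _, rfl⟩ : W F p)) :=
    ⟨fun a b hab => by
      obtain ⟨h1, h2⟩ := mk_inj (congrArg Subtype.val hab)
      exact Prod.ext h1 h2, by rintro ⟨_, k, d, rfl⟩; exact ⟨(k, d), rfl⟩⟩
  rw [← Nat.card_eq_of_bijective _ this, Nat.card_prod, Nat.card_fun, h]
  simp [pow_succ']

theorem ord_fin {k : Fin p} (hk : k ≠ 0) : addOrderOf k = p :=
  addOrderOf_eq_prime (by simpa using card_nsmul_eq_zero (x := k)) hk

theorem col (h2 : p ≠ 2) {ω : rootsOfUnity p F} (hω : ω ≠ 1) {g : GL (Fin p) F}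
    (hg : g ∈ normalizer (W F p : Set (GL (Fin p) F))) {i a a' : Fin p}
    (ha : (g : Matrix (Fin p) (Fin p) F) a i ≠ 0) (ha' : (g : Matrix (Fin p) (Fin p) F) a' i ≠ 0) :
    a = a' := by
  have hω' : ((ω : Fˣ) : F) - 1 ≠ 0 := fun h => hω (Subtype.ext (Units.ext (sub_eq_zero.1 h)))
  let z : GL (Fin p) F := mk 0 (Function.update 1 i ω)
  have hz : (z : Matrix (Fin p) (Fin p) F) = 1 + (((ω : Fˣ) : F) - 1) • single i i 1 := by
    ext a b
    rw [mk_apply]
    by_cases hb : b = i
    · subst hb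
      by_cases hab : a = b
      · subst hab; simp
      · simp [hab, Ne.symm hab]
    · by_cases hab : a = b
      · subst hab; simp [hb, Ne.symm hb]
      · simp [hab, Ne.symm hb]
  obtain ⟨k, d, hy⟩ := (mem_normalizer_iff.1 hg z).1 ⟨_, _, rfl⟩
  have hE : ∀ a b, ((g : Matrix (Fin p) (Fin p) F) * single i i (1 : F) *
      (g⁻¹ : GL (Fin p) F).1) a b = g.1 a i * (g⁻¹).1 i b := fun a b => by
    simp [Matrix.mul_apply, Matrix.single_apply, ite_and]
  have hy' : ∀ a b, (if a = b + k then ((d b : Fˣ) : F) else 0) =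
      (if a = b then 1 else 0) + (((ω : Fˣ) : F) - 1) * (g.1 a i * (g⁻¹).1 i b) := fun a b => by
    rw [← mk_apply, ← hy, Units.val_mul, Units.val_mul, hz, mul_add, add_mul, mul_one,
      Units.mul_inv, mul_smul_comm, smul_mul_assoc, Matrix.add_apply, Matrix.smul_apply, hE,
      Matrix.one_apply, smul_eq_mul]
  have hk : k = 0 := by
    by_contra hk
    have e1 := hy' 0 0
    have e2 := hy' (k + k) (k + k)
    have e3 := hy' (k + k) 0
    have hkk : k + k ≠ 0 := fun h => by
      have := addOrderOf_dvd_of_nsmul_eq_zero (show 2 • k = 0 by rw [two_nsmul, h])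
      rw [ord_fin hk] at this
      exact h2 ((Nat.prime_dvd_prime_iff_eq hp.out Nat.prime_two).1 this)
    rw [if_neg (by simpa using Ne.symm hk), if_pos rfl] at e1
    rw [if_neg (by simpa using hk), if_pos rfl] at e2
    rw [if_neg (by simpa using hk), if_neg hkk, zero_add] at e3
    rcases mul_eq_zero.1 ((mul_eq_zero.1 e3.symm).resolve_left hω') with e | e
    · rw [e] at e2; simp at e2
    · rw [e] at e1; simp at e1
  obtain ⟨b, hb⟩ : ∃ b, (g⁻¹).1 i b ≠ 0 := by
    by_contra hh
    push Not at hh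
    have := congrFun (congrFun g.inv_mul i) i
    simp only [Matrix.mul_apply, hh, zero_mul, Finset.sum_const_zero, one_apply_eq] at this
    exact zero_ne_one this
  have : ∀ c, g.1 c i ≠ 0 → c = b := fun c hc => by
    by_contra hn
    have := hy' c b
    rw [hk, add_zero, if_neg hn, if_neg hn, zero_add] at this
    exact mul_ne_zero hω' (mul_ne_zero hc hb) this.symm
  rw [this a ha, this a' ha']

theorem shift (h2 : p ≠ 2) (hp0 : (p : F) ≠ 0) {ω : rootsOfUnity p F} (hω : ω ≠ 1) {k : Fin p}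
    (hk : k ≠ 0) (d : Fin p → rootsOfUnity p F)
    (h : ∀ g, g * mk k d = mk k d * g → g ∈ normalizer (W F p : Set (GL (Fin p) F))) : False := by
  have hω' : ((ω : Fˣ) : F) - 1 ≠ 0 := fun h => hω (Subtype.ext (Units.ext (sub_eq_zero.1 h)))
  set x : Matrix (Fin p) (Fin p) F := (mk k d).1 with hx
  let s := ∑ n ∈ Finset.range p, x ^ n
  have hs : ∀ a b, s a b ≠ 0 := fun a b => by
    have hinj := nsmul_injOn_Iio_addOrderOf (x := k)
    rw [ord_fin hk] at hinj
    obtain ⟨n, hn, hnk⟩ : ∃ n < p, n • k = a - b := by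
      have := mem_multiples_of_prime_card (p := p) (by simp) hk (g' := a - b)
      rw [mem_multiples_iff_mem_range_addOrderOf, ord_fin hk] at this
      simpa using this
    simp only [s, Matrix.sum_apply]
    rw [Finset.sum_eq_single n]
    · obtain ⟨e, he⟩ := mk_pow k d n
      rw [hx, ← Units.val_pow_eq_pow_val, he, mk_apply, if_pos (by rw [hnk]; simp)]
      exact Units.ne_zero _
    · intro m hm hmn
      obtain ⟨e, he⟩ := mk_pow k d m
      rw [hx, ← Units.val_pow_eq_pow_val, he, mk_apply, if_neg]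
      intro hh
      exact hmn (hinj (Finset.mem_range.1 hm) hn (by simp only; rw [hnk, hh]; simp))
    · intro hn'
      exact (hn' (Finset.mem_range.2 hn)).elim
  have hsx : Commute s x := Commute.sum_left _ _ _ fun n _ => (Commute.refl x).pow_left n
  obtain ⟨c, hc⟩ : ∃ c : F, x ^ p = c • 1 := by
    obtain ⟨e, he⟩ := mk_pow k d p
    rw [show p • k = 0 by simpa using card_nsmul_eq_zero (x := k)] at he
    have hc : mk k d * mk 0 e = mk 0 e * mk k d := by rw [← he, ← pow_succ, pow_succ']
    rw [mk_mul, mk_mul] at hc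
    have h1 : ∀ b, e (b + k) = e b := fun b => by
      have := congrFun (mk_inj hc).2 b
      simp only [add_zero] at this
      rw [mul_comm] at this
      exact (mul_right_cancel this).symm
    have h3 : ∀ n : ℕ, e (n • k) = e 0 := fun n => by
      induction n with
      | zero => rw [zero_smul]
      | succ n ih => rw [succ_nsmul, h1, ih]
    refine ⟨((e 0 : Fˣ) : F), ?_⟩
    ext a b
    obtain ⟨n, hn⟩ := mem_multiples_of_prime_card (p := p) (by simp) hk (g' := b)
    rw [hx, ← Units.val_pow_eq_pow_val, he, mk_apply, ← h3 n]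
    simp only at hn
    simp [hn, Matrix.one_apply]
  have hg : s * (x - 1) = (c - 1) • 1 := by rw [geom_sum_mul, hc, sub_smul, one_smul]
  have h3 : 2 < p := lt_of_le_of_ne hp.out.two_le (Ne.symm h2)
  have fin : ∀ (g : GL (Fin p) F) (u v : F), v ≠ 0 → g.1 = u • 1 + v • s → False := by
    intro g u v hv e
    have hn := h g (Units.ext (by
      rw [Units.val_mul, Units.val_mul, e, ← hx]
      exact ((Commute.one_left x).smul_left u).add_left (hsx.smul_left v)))
    have key : ∀ a : Fin p, a ≠ 0 → g.1 a 0 ≠ 0 := fun a ha => by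
      rw [e]
      simpa [ha, hv] using hs a 0
    have := col h2 hω hn (key ⟨1, by omega⟩ (by simp [Fin.ext_iff]))
      (key ⟨2, by omega⟩ (by simp [Fin.ext_iff]))
    simp at this
  by_cases hc1 : c - 1 = 0
  · rw [hc1, zero_smul, mul_sub, mul_one, sub_eq_zero] at hg
    have hss : s * s = (p : F) • s := by
      have : ∀ n, s * x ^ n = s := fun n => by
        induction n with
        | zero => simp
        | succ n ih => rw [pow_succ, ← mul_assoc, ih, hg]
      conv_lhs => rw [show s * s = s * ∑ n ∈ Finset.range p, x ^ n from rfl]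
      simp [Finset.mul_sum, this, Nat.cast_smul_eq_nsmul]
    have hu : IsUnit ((1 : F) • (1 : Matrix (Fin p) (Fin p) F) + ((((ω : Fˣ) : F) - 1) / p) • s) := by
      refine IsUnit.of_mul_eq_one (1 + ((((ω : Fˣ) : F)⁻¹ - 1) / p) • s) ?_
      have := (ω : Fˣ).ne_zero
      rw [one_smul, add_mul, mul_add, mul_add, smul_mul_smul_comm, hss, smul_smul, mul_one, mul_one,
        one_mul, add_assoc, ← add_smul, ← add_smul, add_eq_left]
      convert zero_smul F s
      field_simp
      ring
    exact fin hu.unit 1 _ (div_ne_zero hω' hp0) rfl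
  · have hu : IsUnit ((0 : F) • (1 : Matrix (Fin p) (Fin p) F) + (1 : F) • s) := by
      refine IsUnit.of_mul_eq_one ((c - 1)⁻¹ • (x - 1)) ?_
      rw [zero_smul, zero_add, one_smul, mul_smul_comm, hg, smul_smul, inv_mul_cancel₀ hc1, one_smul]
    exact fin hu.unit 0 _ one_ne_zero rfl

theorem not_U [Fintype F] (h2 : p ≠ 2) (h1 : p ∣ Fintype.card F - 1)
    (h3 : ¬ p ^ 2 ∣ Fintype.card F - 1) : ¬ U p (GL (Fin p) F) := by
  have hq : 1 < Fintype.card F := Fintype.one_lt_card
  have hc : Nat.card (rootsOfUnity p F) = p := by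
    rw [H12.card_rootsOfUnity_finite, Nat.card_eq_fintype_card, Nat.gcd_eq_left h1]
  have hp0 : (p : F) ≠ 0 := fun h => by
    obtain ⟨m, hm⟩ := h1
    have := FiniteField.cast_card_eq_zero F
    rw [show Fintype.card F = p * m + 1 by omega] at this
    simp [h] at this
  obtain ⟨ω, hω⟩ : ∃ ω : rootsOfUnity p F, ω ≠ 1 := by
    haveI := Finite.one_lt_card_iff_nontrivial.1 (hc.symm ▸ hp.out.one_lt)
    exact exists_ne 1
  let S : Sylow p (GL (Fin p) F) := Sylow.ofCard (W F p) (by
    rw [card_W hc, H12.card_GL_fin rfl, val_GL h2 hq h1 h3])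
  have key : ∀ k d, (∃! P : Sylow p (GL (Fin p) F), mk k d ∈ P) → ∀ g, g * mk k d = mk k d * g →
      g ∈ normalizer (W F p : Set (GL (Fin p) F)) := fun k d h g hg =>
    have hS : mk k d ∈ S := ⟨k, d, rfl⟩
    mem_norm_of_unique (P := S) (fun Q hQ => h.unique hQ hS) hS hg
  rintro ⟨x, -, hx⟩
  obtain ⟨P, hP, -⟩ := id hx
  obtain ⟨g, hg⟩ := MulAction.exists_smul_eq (GL (Fin p) F) P S
  have hxS : g * x * g⁻¹ ∈ (S : Subgroup (GL (Fin p) F)) := by
    rw [← hg, Sylow.coe_subgroup_smul, H1.mem_conj_smul]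
    simpa [mul_assoc] using show x ∈ (P : Subgroup (GL (Fin p) F)) from hP
  obtain ⟨k, d, e⟩ := hxS
  have hy := uniq_conj g hx
  rw [e] at hy
  by_cases hk : k = 0
  swap
  · exact shift h2 hp0 hω hk d (key k d hy)
  subst hk
  by_cases hd : Function.Injective d
  · have hV : IsUnit (vandermonde fun b => ((d b : Fˣ) : F)) := by
      rw [isUnit_iff_isUnit_det, isUnit_iff_ne_zero, det_vandermonde_ne_zero_iff]
      exact fun a b h => hd (Subtype.ext (Units.ext h))
    let V : GL (Fin p) F := ((Matrix.isUnit_transpose _).2 hV).unit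
    have hV' : V * mk 0 d * V⁻¹ = mk (-1) 1 := by
      rw [mul_inv_eq_iff_eq_mul]
      refine Units.ext ?_
      ext a b
      have h1 : ((d b : Fˣ) : F) ^ p = 1 := by
        rw [← Units.val_pow_eq_pow_val, (mem_rootsOfUnity _ _).1 (d b).2, Units.val_one]
      simp only [Units.val_mul, Matrix.mul_apply, mk_apply, V, IsUnit.unit_spec, transpose_apply,
        vandermonde_apply, ← sub_eq_add_neg, eq_sub_iff_add_eq]
      simp [Fin.val_add, ← pow_eq_pow_mod _ h1, pow_add]
    have := uniq_conj V hy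
    rw [hV'] at this
    exact shift h2 hp0 hω (by simpa using hp.out.one_lt.ne') _ (key _ _ this)
  · simp only [Function.Injective, not_forall] at hd
    obtain ⟨a, b, hab, hne⟩ := hd
    let t : GL (Fin p) F := Matrix.SpecialLinearGroup.toGL (SpecialLinearGroup.transvection hne 1)
    have ht : t.1 = 1 + single a b 1 := rfl
    have := key 0 d hy t (Units.ext (by
      rw [Units.val_mul, Units.val_mul, ht, add_mul, mul_add, one_mul, mul_one]
      congr 1
      ext i j
      simp only [Matrix.mul_apply, mk_apply, Matrix.single_apply, ite_and, add_zero]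
      by_cases h1 : a = i <;> by_cases h2 : b = j <;> simp [h1, h2]
      · subst h1 h2; rw [hab]
      · exact fun h => (h1 h.symm).elim))
    exact hne (col h2 hω this (i := b) (by simp [ht, hne]) (by simp [ht, hne]))

end Cfsg.Agent.H22.Red
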