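import Cfsg.Agent.H11.TwoGp
import Cfsg.Agent.H11.MC2
import Cfsg.Agent.BG.S04a
import Cfsg.Agent.H26.ES4
import Cfsg.Agent.S0110

/-! P. Hall's theorem on `p`-groups of symplectic type. -/

set_option autoImplicit false
set_option linter.style.haveILetI false

namespace Cfsg.Agent.H22.Sp

open Subgroup
open scoped commutatorElement

variable {G : Type*} [Group G]

theorem mc_cases {n : ℕ} {e f : ZMod (2 ^ n)} {X Y : ZMod (2 ^ n) → G}
    (h : H11.MC (⊤ : Subgroup G) n e f X Y) :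
    (∃ m : ℕ, Nonempty (G ≃* DihedralGroup m)) ∨ (∃ m : ℕ, Nonempty (G ≃* QuaternionGroup m)) ∨
      IsQuasiDihedral G := by
  have h2 := h.two_le
  rcases h.he with rfl | ⟨h3, rfl⟩
  · rcases h.hf with rfl | rfl
    · refine Or.inl ⟨2 ^ n, ?_⟩
      obtain ⟨φ⟩ := h.nonempty_dihedral (c := 1) (k := 0) (by simp) (by simp)
      rw [← h.eq_closure rfl, h.orderOf_X_one] at φ
      exact ⟨Subgroup.topEquiv.symm.trans φ⟩
    · refine Or.inr (Or.inl ⟨2 ^ (n - 1), ?_⟩)
      obtain ⟨φ⟩ := h.nonempty_quaternion (j := n - 1) (k := 0) (by omega) (by simp) (by simp)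
      rw [show n - 1 + 1 = n by omega, H11.MC.fr_self, ← h.eq_closure rfl] at φ
      exact ⟨Subgroup.topEquiv.symm.trans φ⟩
  · refine Or.inr (Or.inr ⟨n, h3, by rw [← h.card, Subgroup.card_top], ?_⟩)
    obtain ⟨k, hk⟩ : ∃ k, f + H11.hh n * k = 0 := by
      rcases h.hf with rfl | rfl
      · exact ⟨0, by simp⟩
      · exact ⟨1, by linear_combination h.hh2⟩
    refine ⟨X 1, Y k, h.orderOf_X_one, h.orderOf_Y_two.2 hk, ?_⟩
    rw [h.YXY, h.X_pow]
    congr 1
    rw [Nat.cast_sub (Nat.one_le_two_pow), H11.hh, H11.fr]; push_cast; ring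

/-- The central elements of order dividing `p`. -/
def Z1 (p : ℕ) (G : Type*) [Group G] : Subgroup G where
  carrier := {x | x ∈ center G ∧ x ^ p = 1}
  mul_mem' := fun {a b} ha hb => ⟨mul_mem ha.1 hb.1, by
    rw [Commute.mul_pow (mem_center_iff.1 hb.1 a), ha.2, hb.2, one_mul]⟩
  one_mem' := ⟨one_mem _, one_pow _⟩
  inv_mem' := fun {a} ha => ⟨inv_mem ha.1, by rw [inv_pow, ha.2, inv_one]⟩

instance Z1_char (p : ℕ) : (Z1 p G).Characteristic := by
  refine characteristic_iff_le_comap.2 fun φ x hx => ⟨?_, ?_⟩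
  · exact characteristic_iff_le_comap.1 (centerCharacteristic (G := G)) φ hx.1
  · change (φ x) ^ p = 1
    rw [← map_pow, hx.2, map_one]

theorem mem_of_cyclic [Finite G] {p : ℕ} [hp : Fact p.Prime] {A Z : Subgroup G} (hA : IsCyclic A)
    (hZA : Z ≤ A) (hZ : Nat.card Z = p) {x : G} (hx : x ∈ A) (h1 : x ^ p = 1) : x ∈ Z := by
  classical
  haveI := Fintype.ofFinite A
  have h2 := IsCyclic.card_pow_eq_one_le (α := A) hp.out.pos
  have h3 : (Finset.univ.filter (fun a : A => (a : G) ∈ Z)) ⊆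
      Finset.univ.filter (fun a : A => a ^ p = 1) := by
    intro a ha
    simp only [Finset.mem_filter, Finset.mem_univ, true_and] at ha ⊢
    apply Subtype.ext
    have := pow_card_eq_one' (x := (⟨a, ha⟩ : Z))
    rw [hZ] at this
    simpa using congrArg Subtype.val this
  have h4 : (Finset.univ.filter (fun a : A => (a : G) ∈ Z)).card = p := by
    rw [← hZ, ← Nat.card_congr (subgroupOfEquivOfLe hZA).toEquiv, Nat.card_eq_fintype_card,
      Fintype.card_subtype]
    rfl
  have h5 := Finset.eq_of_subset_of_card_le h3 (by omega)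
  have h6 : (⟨x, hx⟩ : A) ∈ Finset.univ.filter (fun a : A => a ^ p = 1) := by
    simp only [Finset.mem_filter, Finset.mem_univ, true_and]
    exact Subtype.ext h1
  rw [← h5] at h6
  simpa using h6

theorem card_Z1 [Finite G] [Nontrivial G] {p : ℕ} [hp : Fact p.Prime] (hG : IsPGroup p G)
    (hc : IsCyclic (center G)) : Nat.card (Z1 p G) = p := by
  haveI := hG.center_nontrivial
  obtain ⟨k, hk0, hk⟩ := (hG.to_subgroup (center G)).nontrivial_iff_card.1 inferInstance
  obtain ⟨z, hz⟩ := exists_prime_orderOf_dvd_card' (G := center G) p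
    (hk ▸ dvd_pow_self p hk0.ne')
  have hz' : orderOf (z : G) = p := by rw [Subgroup.orderOf_coe, hz]
  have : Z1 p G = zpowers (z : G) := by
    apply le_antisymm
    · intro x hx
      exact mem_of_cyclic hc (zpowers_le.2 z.2) (by rw [Nat.card_zpowers, hz']) hx.1 hx.2
    · exact zpowers_le.2 ⟨z.2, by rw [← hz', pow_orderOf_eq_one]⟩
  rw [this, Nat.card_zpowers, hz']

theorem hall [Finite G] {p : ℕ} [hp : Fact p.Prime] (hG : IsPGroup p G)
    (hs : ∀ A : Subgroup G, A.Characteristic → IsMulCommutative A → IsCyclic A) :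
    ∃ E R : Subgroup G, (∀ e ∈ E, ∀ r ∈ R, e * r = r * e) ∧ E ⊔ R = ⊤ ∧
      (E = ⊥ ∨ IsExtraspecial p E) ∧ (IsCyclic R ∨ (p = 2 ∧ 16 ≤ Nat.card R ∧
        ((∃ m : ℕ, Nonempty (R ≃* DihedralGroup m)) ∨ (∃ m : ℕ, Nonempty (R ≃* QuaternionGroup m)) ∨
          IsQuasiDihedral R))) := by
  rcases subsingleton_or_nontrivial G with h0 | h0
  · exact ⟨⊥, ⊤, fun _ _ _ _ => Subsingleton.elim _ _, bot_sup_eq _, Or.inl rfl,
      Or.inl inferInstance⟩
  set Z := Z1 p G with hZdef
  have hZ : Nat.card Z = p := card_Z1 hG (hs _ inferInstance inferInstance)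
  have hZc : ∀ z ∈ Z, ∀ g, g * z = z * g := fun z hz g => mem_center_iff.1 hz.1 g
  set K := (Z1 p (G ⧸ Z)).comap (QuotientGroup.mk' Z) with hKdef
  haveI hKc : K.Characteristic := Characteristic.comap_quotient_mk inferInstance
  have mK : ∀ x : G, x ∈ K ↔ (∀ g : G, ⁅g, x⁆ ∈ Z) ∧ x ^ p ∈ Z := by
    intro x
    rw [hKdef, mem_comap]
    change (_ ∈ center _ ∧ _) ↔ _
    rw [mem_center_iff, ← map_pow, QuotientGroup.mk'_apply, QuotientGroup.mk'_apply,
      QuotientGroup.eq_one_iff, QuotientGroup.mk_surjective.forall]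
    refine and_congr_left fun _ => forall_congr' fun g => ?_
    rw [← commutatorElement_eq_one_iff_mul_comm, ← QuotientGroup.eq_one_iff]
    rfl
  have hZK : Z ≤ K := fun z hz => (mK z).2 ⟨fun g => by
    rw [commutatorElement_eq_one_iff_mul_comm.2 (hZc z hz g)]; exact one_mem _, pow_mem hz p⟩
  set A := K ⊓ centralizer (K : Set G) with hAdef
  have hA : IsCyclic A := hs A inferInstance ⟨⟨fun a b => Subtype.ext (b.2.2 a a.2.1)⟩⟩
  have hZA : Z ≤ A := le_inf hZK fun z hz k _ => hZc z hz k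
  obtain ⟨m, c, hc⟩ := H26.exists_ES_of_card (E := K) (p := p) (Z := Z.subgroupOf K)
    (by rw [Nat.card_congr (subgroupOfEquivOfLe hZK).toEquiv, hZ])
    (fun z hz => mem_center_iff.2 fun g => Subtype.ext (hZc z hz g))
    (by
      rw [_root_.commutator_def, commutator_le]
      intro a _ b _
      exact ((mK b).1 b.2).1 a)
    (fun x => ((mK x).1 x.2).2)
  obtain ⟨W, hW⟩ := Submodule.exists_isCompl (LinearMap.ker c.B)
  have hnd : (c.res W).ND := by
    intro v hv
    have h1 : (v : Fin m → ZMod p) ∈ LinearMap.ker c.B := by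
      rw [LinearMap.mem_ker]
      refine LinearMap.ext fun w => ?_
      obtain ⟨a, ha, b, hb, rfl⟩ := Submodule.mem_sup.1 (hW.sup_eq_top ▸ Submodule.mem_top (x := w))
      have h2 : c.B v b = 0 := hv ⟨b, hb⟩
      have h3 : c.B v a = 0 := by rw [c.B_swap, LinearMap.mem_ker.1 ha]; simp
      simp [h2, h3]
    exact Subtype.ext (Submodule.disjoint_def.1 hW.disjoint _ h1 v.2)
  set E := (c.up W).map K.subtype with hEdef
  have hEK : E ≤ K := map_subtype_le _
  have hZE : Z ≤ E := fun z hz => ⟨⟨z, hZK hz⟩, c.Z_le_up W (hc ▸ hz), rfl⟩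
  set R := centralizer (E : Set G) with hRdef
  have hRK : ∀ x ∈ K, x ∈ R → x ∈ A := by
    intro x hx hxR
    refine ⟨hx, fun k hk => ?_⟩
    have key : (⟨k, hk⟩ : K) * ⟨x, hx⟩ = ⟨x, hx⟩ * ⟨k, hk⟩ := by
      rw [c.commute_iff]
      obtain ⟨a, ha, b, hb, he⟩ := Submodule.mem_sup.1
        (hW.sup_eq_top ▸ Submodule.mem_top (x := c.π ⟨k, hk⟩))
      obtain ⟨y, rfl⟩ := c.surj b
      have h1 : y * ⟨x, hx⟩ = ⟨x, hx⟩ * y := Subtype.ext (hxR y ⟨y, c.mem_up.2 hb, rfl⟩)
      rw [c.commute_iff] at h1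
      rw [← he, map_add, LinearMap.add_apply, h1, LinearMap.mem_ker.1 ha]; simp
    exact congrArg Subtype.val key
  have hE : (E = Z ∧ R = ⊤) ∨ (IsExtraspecial p E ∧ E ⊔ R = ⊤) := by
    rcases subsingleton_or_nontrivial W with h1 | h1
    · left
      have h2 : E = Z := by
        refine le_antisymm ?_ hZE
        rintro _ ⟨x, hx, rfl⟩
        have h3 : c.π x = 0 := congrArg Subtype.val
          (Subsingleton.elim (⟨c.π x, c.mem_up.1 hx⟩ : W) 0)
        have h4 := c.mem_Z.2 h3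
        rw [hc] at h4
        exact h4
      refine ⟨h2, eq_top_iff.2 fun g _ z hz => ?_⟩
      rw [h2] at hz
      exact (hZc z hz g).symm
    · right
      have h2 : IsExtraspecial p E := H26.isExtraspecial_congr ((c.res W).isExtraspecial hnd)
        (equivMapOfInjective _ _ K.subtype_injective)
      refine ⟨h2, S0110.result hG E h2 ?_⟩
      rw [commutator_le]
      intro g _ e he
      have h3 := ((mK e).1 (hEK he)).1 g
      exact ⟨hZE h3, fun k _ => hZc _ h3 k⟩
  have hsup : E ⊔ R = ⊤ := by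
    rcases hE with h | h
    · rw [h.2, sup_top_eq]
    · exact h.2
  haveI hEn : E.Normal := ⟨fun e he g => by
    have h1 : g * e * g⁻¹ = ⁅g, e⁆ * e := by group
    rw [h1]
    exact mul_mem (hZE (((mK e).1 (hEK he)).1 g)) he⟩
  have hdec : ∀ g, ∃ e ∈ E, ∃ r ∈ R, e * r = g := fun g =>
    mem_sup_of_normal_left.1 (hsup ▸ mem_top g)
  have hcomm : ∀ x ∈ R, (∀ r ∈ R, ⁅r, x⁆ ∈ Z) → ∀ g : G, ⁅g, x⁆ ∈ Z := by
    intro x hx h g
    obtain ⟨e, he, r, hr, rfl⟩ := hdec g
    have h1 : ⁅e * r, x⁆ = e * ⁅r, x⁆ * e⁻¹ * ⁅e, x⁆ := by group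
    rw [h1, commutatorElement_eq_one_iff_mul_comm.2 (hx e he), mul_one, hZc _ (h r hr),
      mul_inv_cancel_right]
    exact h r hr
  have hZR : Z ≤ R := fun z hz e _ => hZc z hz e
  have hRp : IsPGroup p R := hG.to_subgroup R
  have hno : ∀ V : Subgroup R, V.Normal → (∀ v ∈ V, v ^ p = 1) → Nat.card V ≠ p ^ 2 := by
    intro V hVn hV hcard
    set Z' := Z.subgroupOf R with hZ'
    haveI : Z'.Normal := inferInstance
    have hne : V.map (QuotientGroup.mk' Z') ≠ ⊥ := by
      intro h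
      rw [Subgroup.map_eq_bot_iff, QuotientGroup.ker_mk'] at h
      have h1 := card_le_of_le h
      rw [hcard, Nat.card_congr (subgroupOfEquivOfLe hZR).toEquiv, hZ] at h1
      have := hp.out.one_lt
      nlinarith
    haveI : (V.map (QuotientGroup.mk' Z')).Normal := hVn.map _ (QuotientGroup.mk'_surjective _)
    have h2 := bot_lt_iff_ne_bot.2
      (H3.inf_center_ne_bot (hRp.to_quotient Z').isNilpotent (V.map (QuotientGroup.mk' Z')) hne)
    obtain ⟨_, ⟨⟨v, hv, rfl⟩, hvc⟩, hv1⟩ := SetLike.exists_of_lt h2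
    have hvp : (v : G) ^ p = 1 := by simpa using congrArg Subtype.val (hV v hv)
    have h3 : (v : G) ∈ K := by
      refine (mK v).2 ⟨hcomm v v.2 fun r hr => ?_, by rw [hvp]; exact one_mem _⟩
      have h4 := mem_center_iff.1 hvc (QuotientGroup.mk' Z' ⟨r, hr⟩)
      rw [← commutatorElement_eq_one_iff_mul_comm, ← map_commutatorElement, QuotientGroup.mk'_apply,
        QuotientGroup.eq_one_iff] at h4
      exact h4
    apply hv1
    rw [mem_bot, QuotientGroup.mk'_apply, QuotientGroup.eq_one_iff]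
    exact mem_of_cyclic hA hZA hZ (hRK v h3 v.2) hvp
  have hR : IsCyclic R ∨ (p = 2 ∧ 16 ≤ Nat.card R ∧
        ((∃ m : ℕ, Nonempty (R ≃* DihedralGroup m)) ∨ (∃ m : ℕ, Nonempty (R ≃* QuaternionGroup m)) ∨
          IsQuasiDihedral R)) := by
    by_cases hnc : IsCyclic R
    · exact Or.inl hnc
    right
    have hp2 : p = 2 := by
      by_contra h
      have hodd : Odd (Nat.card (⊤ : Subgroup R)) := by
        obtain ⟨k, hk⟩ := IsPGroup.iff_card.1 (hRp.to_subgroup ⊤)
        rw [hk]; exact (hp.out.odd_of_ne_two h).pow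
      obtain ⟨V, hV, hV2⟩ := BG.ex_odd_normal_p2Elem (hRp.to_subgroup ⊤) hodd
        (fun h => hnc (isCyclic_of_surjective _ Subgroup.topEquiv.surjective))
      exact hno V (normalizer_eq_top_iff.1 (eq_top_iff.2 hV.2)) hV2.elem.2 hV2.card
    subst hp2
    obtain h | ⟨n, e, f, X, Y, h⟩ := H11.isCyclic_or_MC_of_no_normal_klein hRp fun V hV hk =>
      hno V hV (fun v hv => by
        have := IsKleinFour.mul_self (⟨v, hv⟩ : V)
        rw [pow_two]; exact congrArg Subtype.val this) hk.card_four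
    · exact absurd h hnc
    refine ⟨rfl, ?_, mc_cases h⟩
    have h2 := h.two_le
    rw [← Subgroup.card_top, h.card]
    by_contra hlt
    have hn2 : n = 2 := by
      by_contra h'
      exact hlt (by calc 16 = 2 ^ (3 + 1) := rfl
        _ ≤ _ := Nat.pow_le_pow_right (by norm_num) (by omega))
    subst hn2
    have hz : ((X (H11.hh 2) : R) : G) ∈ Z := by
      refine ⟨mem_center_iff.2 fun g => ?_, ?_⟩
      · obtain ⟨a, ha, r, hr, rfl⟩ := hdec g
        have h3 := congrArg Subtype.val (h.z_comm (s := ⟨r, hr⟩) trivial)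
        simp only [coe_mul] at h3
        rw [mul_assoc, h3, ← mul_assoc, (X (H11.hh 2)).2 a ha, mul_assoc]
      · rw [pow_two, ← coe_mul, H11.mul_self_of_orderOf_two h.orderOf_z]; rfl
    have hzz : ∀ s : R, s ∈ zpowers (X (H11.hh 2)) → (s : G) ∈ Z := by
      rintro _ ⟨k, rfl⟩
      simpa using zpow_mem hz k
    have hh2 : H11.hh 2 = 2 := by decide
    have hall : ∀ s : R, (s : G) ∈ A := by
      intro s
      refine hRK s ((mK s).2 ⟨hcomm s s.2 fun r hr => hzz ⁅(⟨r, hr⟩ : R), s⁆ ?_, hzz (s ^ 2) ?_⟩) s.2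
      · rw [hh2, ← h.commutator_eq]
        exact commutator_mem_commutator trivial trivial
      · obtain ⟨a, rfl | rfl⟩ := (h.mem s).1 trivial
        · rw [h.X_pow, hh2]; exact h.mem_zpowers_X.2 ⟨a, rfl⟩
        · rw [pow_two, h.Y_sq, h.mem_zpowers_z]
          rcases h.Y_sq_cases a with h3 | h3 <;> rw [h3]
          · exact Or.inl h.X_zero
          · exact Or.inr rfl
    have h5 : X 1 * Y 0 = Y 0 * X 1 := Subtype.ext ((hall (Y 0)).2 _ (hall (X 1)).1)
    rw [h.XY_comm_iff, hh2] at h5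
    revert h5; decide
  rcases hE with h | h
  · exact ⟨⊥, R, fun e he r _ => by rw [mem_bot.1 he, one_mul, mul_one], by rw [h.2, bot_sup_eq],
      Or.inl rfl, hR⟩
  · exact ⟨E, R, fun e he r hr => hr e he, hsup, Or.inr h.1, hR⟩

end Cfsg.Agent.H22.Sp
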