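import Cfsg.Agent.H22.Sp1
import Cfsg.Agent.H26.Taussky
import Cfsg.Agent.S0058
import Cfsg.Agent.S0095
import Cfsg.Agent.S3742

/-! Non-cyclic abelian groups of automorphisms of a 2-group with few fixed involutions. -/

set_option autoImplicit false
set_option linter.style.haveILetI false

namespace Cfsg.Agent.H22.Sp

open Subgroup
open scoped commutatorElement

theorem extraspecial_of_char {G : Type*} [Group G] [Finite G] {p : ℕ} [hp : Fact p.Prime]
    (hG : IsPGroup p G) (hZ : Nat.card (center G) = p) (hna : center G ≠ ⊤)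
    (hs : ∀ A : Subgroup G, A.Characteristic → IsMulCommutative A → A ≤ center G) :
    IsExtraspecial p G := by
  set Z := center G with hZdef
  have hZc : ∀ z ∈ Z, ∀ g, g * z = z * g := fun z hz g => mem_center_iff.1 hz g
  set K := (center (G ⧸ Z)).comap (QuotientGroup.mk' Z) with hKdef
  haveI hKc : K.Characteristic := Characteristic.comap_quotient_mk inferInstance
  have mK : ∀ x : G, x ∈ K ↔ ∀ g : G, ⁅g, x⁆ ∈ Z := by
    intro x
    rw [hKdef, mem_comap, mem_center_iff, QuotientGroup.mk_surjective.forall]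
    refine forall_congr' fun g => ?_
    rw [← commutatorElement_eq_one_iff_mul_comm, ← QuotientGroup.eq_one_iff]
    rfl
  have hZK : Z ≤ K := fun z hz => (mK z).2 fun g => by
    rw [commutatorElement_eq_one_iff_mul_comm.2 (hZc z hz g)]; exact one_mem _
  have hA : K ⊓ centralizer (K : Set G) ≤ Z :=
    hs _ inferInstance ⟨⟨fun a b => Subtype.ext (b.2.2 a a.2.1)⟩⟩
  have hpow : ∀ x ∈ K, x ^ p ∈ Z := by
    intro x hx
    refine mem_center_iff.2 fun g => ?_
    have h1 := (mK x).1 hx g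
    have h2 : ⁅g, x⁆ ^ p = 1 := by
      have := pow_card_eq_one' (x := (⟨_, h1⟩ : Z))
      rw [hZ] at this
      exact congrArg Subtype.val this
    have h3 : g * x * g⁻¹ = ⁅g, x⁆ * x := by group
    rw [← mul_inv_eq_iff_eq_mul, ← conj_pow, h3, Commute.mul_pow (hZc _ h1 x).symm, h2, one_mul]
  have hne : ∀ C : Subgroup G, C.Normal → ¬ C ≤ Z → ∃ x ∈ C, x ∈ K ∧ x ∉ Z := by
    intro C hC h
    have h1 : C.map (QuotientGroup.mk' Z) ≠ ⊥ := by
      rwa [Ne, Subgroup.map_eq_bot_iff, QuotientGroup.ker_mk']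
    haveI : (C.map (QuotientGroup.mk' Z)).Normal := hC.map _ (QuotientGroup.mk'_surjective _)
    obtain ⟨_, ⟨⟨v, hv, rfl⟩, hvc⟩, hv1⟩ := SetLike.exists_of_lt (bot_lt_iff_ne_bot.2
      (H3.inf_center_ne_bot (hG.to_quotient Z).isNilpotent _ h1))
    refine ⟨v, hv, hvc, fun h => hv1 ?_⟩
    rwa [mem_bot, QuotientGroup.mk'_apply, QuotientGroup.eq_one_iff]
  obtain ⟨m, c, hc⟩ := H26.exists_ES_of_card (E := K) (p := p) (Z := Z.subgroupOf K)
    (by rw [Nat.card_congr (subgroupOfEquivOfLe hZK).toEquiv, hZ])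
    (fun z hz => mem_center_iff.2 fun g => Subtype.ext (hZc z hz g))
    (by
      rw [_root_.commutator_def, commutator_le]
      intro a _ b _
      exact (mK b).1 b.2 a)
    (fun x => hpow x x.2)
  have hnd : c.ND := by
    rw [c.nd_iff, hc]
    refine le_antisymm (fun x hx => hA ⟨x.2, fun k hk => ?_⟩)
      (fun z hz => mem_center_iff.2 fun g => Subtype.ext (hZc z hz g))
    exact congrArg Subtype.val (mem_center_iff.1 hx ⟨k, hk⟩)
  haveI : Nontrivial (Fin m → ZMod p) := by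
    obtain ⟨x, -, h1, h2⟩ := hne ⊤ inferInstance (fun h => hna (top_le_iff.1 h))
    refine ⟨c.π ⟨x, h1⟩, 0, fun h => h2 ?_⟩
    have := c.mem_Z.2 h
    rw [hc] at this
    exact this
  have hK := c.isExtraspecial hnd
  have hsup := S0110.result hG K hK (by
    rw [commutator_le]
    intro g _ e he
    have h3 := (mK e).1 he g
    exact ⟨hZK h3, fun k _ => hZc _ h3 k⟩)
  have hC : centralizer (K : Set G) ≤ Z := by
    by_contra h
    obtain ⟨x, h1, h2, h3⟩ := hne _ inferInstance h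
    exact h3 (hA ⟨h2, h1⟩)
  have htop : K = ⊤ := by rw [← hsup, sup_eq_left.2 (hC.trans hZK)]
  exact H26.isExtraspecial_congr hK ((MulEquiv.subgroupCongr htop).trans topEquiv)

theorem q8_of_aut {T : Type*} [Group T] [Finite T] (hT : IsPGroup 2 T)
    (h1 : ∀ x y : T, orderOf x = 2 → orderOf y = 2 → x = y) (h : ¬ IsPGroup 2 (MulAut T)) :
    Nonempty (T ≃* QuaternionGroup 2) := by
  haveI : Fact (Nat.Prime 2) := ⟨Nat.prime_two⟩
  obtain hc | ⟨n, e, f, X, Y, hm⟩ := H11.isCyclic_or_MC_of_no_normal_klein hT fun V _ hk => by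
    classical
    haveI := Fintype.ofFinite V
    obtain ⟨a, b, c, hab, hac, hbc⟩ := Fintype.two_lt_card_iff.1
      (show 2 < Fintype.card V by rw [IsKleinFour.card_four']; norm_num)
    have key : ∀ u v : V, u ≠ v → u = 1 ∨ v = 1 := by
      intro u v huv
      by_contra hn
      push Not at hn
      exact huv (Subtype.ext (h1 u v
        (H11.orderOf_two_of (fun e => hn.1 (Subtype.ext e)) (congrArg Subtype.val (IsKleinFour.mul_self u)))
        (H11.orderOf_two_of (fun e => hn.2 (Subtype.ext e)) (congrArg Subtype.val (IsKleinFour.mul_self v)))))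
    rcases key a b hab with rfl | rfl
    · rcases key b c hbc with rfl | rfl
      · exact hab rfl
      · exact hac rfl
    · rcases key a c hac with rfl | rfl
      · exact hab rfl
      · exact hbc rfl
  · exfalso
    apply h
    obtain ⟨k, hk⟩ := IsPGroup.iff_card.1 hT
    rcases k with _ | k
    · exact IsPGroup.of_card (n := 0) (by rw [IsCyclic.card_mulAut, hk]; simp)
    · exact IsPGroup.of_card (n := k) (by
        rw [IsCyclic.card_mulAut, hk, Nat.totient_prime_pow_succ Nat.prime_two]; simp)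
  have h2 := hm.two_le
  have h3 : ¬ 3 ≤ n := fun a => h (H26.MC_isPGroup_mulAut hm (Or.inr a))
  obtain rfl : n = 2 := by omega
  obtain rfl : e = 0 := hm.he.resolve_right fun a => h3 a.1
  obtain rfl : f = H11.hh 2 := hm.hf.resolve_left fun a => h (H26.MC_isPGroup_mulAut hm (Or.inl ⟨rfl, a⟩))
  obtain ⟨φ⟩ := hm.nonempty_quaternion (j := 1) (k := 0) le_rfl (by simp) (by simp)
  rw [show 1 + 1 = 2 from rfl, H11.MC.fr_self, ← hm.eq_closure rfl] at φ
  exact ⟨Subgroup.topEquiv.symm.trans φ⟩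

variable {W : Type*} [Group W]

/-- Fixed points of an automorphism. -/
def Fx (e : MulAut W) : Subgroup W := (e : W →* W).eqLocus (MonoidHom.id W)

theorem mem_Fx {e : MulAut W} {x : W} : x ∈ Fx e ↔ e x = x := Iff.rfl

/-- Common fixed points. -/
def Cx (E : Subgroup (MulAut W)) : Subgroup W := ⨅ e ∈ E, Fx e

theorem mem_Cx {E : Subgroup (MulAut W)} {x : W} : x ∈ Cx E ↔ ∀ e ∈ E, e x = x := by
  simp [Cx, mem_iInf, mem_Fx]

/-- Restriction to an invariant subgroup. -/
def resH (E : Subgroup (MulAut W)) (T : Subgroup W) (h : ∀ f ∈ E, ∀ x ∈ T, f x ∈ T) :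
    E →* MulAut T where
  toFun f :=
    { toFun := fun x => ⟨f.1 x, h f f.2 x x.2⟩
      invFun := fun x => ⟨(f⁻¹).1 x, h _ (f⁻¹).2 x x.2⟩
      left_inv := fun x => Subtype.ext (by simp)
      right_inv := fun x => Subtype.ext (by simp)
      map_mul' := fun x y => Subtype.ext (by simp) }
  map_one' := rfl
  map_mul' _ _ := rfl

theorem mem_ker_resH {E : Subgroup (MulAut W)} {T : Subgroup W} {h : ∀ f ∈ E, ∀ x ∈ T, f x ∈ T}
    {f : E} : f ∈ (resH E T h).ker ↔ T ≤ Fx f := by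
  rw [MonoidHom.mem_ker]
  constructor
  · intro a x hx
    exact congrArg Subtype.val (DFunLike.congr_fun a ⟨x, hx⟩)
  · intro a
    ext x
    exact a x.2

theorem q8_case [Finite W] (hW : IsPGroup 2 W) {p : ℕ} [hp : Fact p.Prime] (hp2 : p ≠ 2)
    {E : Subgroup (MulAut W)} (hE : IsPGroup p E) {T : Subgroup W}
    (h : ∀ f ∈ E, ∀ x ∈ T, f x ∈ T) (h1 : ∀ x ∈ T, ∀ y ∈ T, orderOf x = 2 → orderOf y = 2 → x = y)
    (hn : ¬ T ≤ Cx E) : p = 3 ∧ Nat.card T = 8 ∧ ¬ IsMulCommutative T ∧ (resH E T h).ker.index = 3 ∧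
      Nat.card (T ⊓ Cx E : Subgroup W) = 2 := by
  haveI : Fact (Nat.Prime 2) := ⟨Nat.prime_two⟩
  have hr : IsPGroup p (resH E T h).range := hE.of_surjective _ (resH E T h).rangeRestrict_surjective
  obtain ⟨k, hk⟩ := IsPGroup.iff_card.1 hr
  have hk0 : k ≠ 0 := by
    rintro rfl
    apply hn
    rw [pow_zero, card_eq_one, MonoidHom.range_eq_bot_iff] at hk
    intro x hx
    refine mem_Cx.2 fun f hf => ?_
    exact mem_ker_resH.1 (show (⟨f, hf⟩ : E) ∈ (resH E T h).ker by
      rw [MonoidHom.mem_ker, hk]; rfl) hx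
  have hd := card_subgroup_dvd_card (resH E T h).range
  rw [hk] at hd
  obtain ⟨φ⟩ := q8_of_aut (hW.to_subgroup T) (fun x y a b => Subtype.ext (h1 x x.2 y y.2
    (by rwa [Subgroup.orderOf_coe]) (by rwa [Subgroup.orderOf_coe]))) (fun a => by
      obtain ⟨j, hj⟩ := IsPGroup.iff_card.1 a
      rw [hj] at hd
      exact hp2 ((Nat.prime_dvd_prime_iff_eq hp.out Nat.prime_two).1
        (hp.out.dvd_of_dvd_pow ((dvd_pow_self p hk0).trans hd))))
  obtain ⟨ψ⟩ := S3742.result
  have h24 : Nat.card (MulAut T) = 24 := by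
    rw [Nat.card_congr ((MulAut.congr φ).trans ψ).toEquiv, Nat.card_perm]; simp [Nat.factorial]
  rw [h24] at hd
  have hp3 : p = 3 := by
    have h2 : p ∣ 2 ^ 3 * 3 := (dvd_pow_self p hk0).trans hd
    rcases (Nat.Prime.dvd_mul hp.out).1 h2 with h3 | h3
    · exact absurd ((Nat.prime_dvd_prime_iff_eq hp.out Nat.prime_two).1 (hp.out.dvd_of_dvd_pow h3)) hp2
    · exact (Nat.prime_dvd_prime_iff_eq hp.out Nat.prime_three).1 h3
  subst hp3
  have hk1 : k = 1 := by
    by_contra hc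
    have : 3 ^ 2 ∣ 24 := (pow_dvd_pow 3 (by omega)).trans hd
    omega
  have h8 : Nat.card T = 8 := by
    rw [Nat.card_congr φ.toEquiv, Nat.card_eq_fintype_card, QuaternionGroup.card]
  refine ⟨rfl, h8, fun hc => ?_, by rw [index_ker, hk, hk1, pow_one], ?_⟩
  · have := congrArg φ (hc.is_comm.comm (φ.symm (QuaternionGroup.a 1)) (φ.symm (QuaternionGroup.xa 0)))
    simp only [map_mul, MulEquiv.apply_symm_apply] at this
    revert this; decide
  · letI : MulAction E T := MulAction.compHom T (resH E T h)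
    have h2 := hE.card_modEq_card_fixedPoints T
    have h3 : Nat.card (MulAction.fixedPoints E T) = Nat.card (T ⊓ Cx E : Subgroup W) :=
      Nat.card_congr
        { toFun := fun x => ⟨x.1, x.1.2, mem_Cx.2 fun f hf => congrArg Subtype.val (x.2 ⟨f, hf⟩)⟩
          invFun := fun x => ⟨⟨x.1, x.2.1⟩, fun f => Subtype.ext (mem_Cx.1 x.2.2 f f.2)⟩
          left_inv := fun _ => rfl
          right_inv := fun _ => rfl }
    rw [h3, h8] at h2
    have h4 : Nat.card (T ⊓ Cx E : Subgroup W) ∣ 8 := h8 ▸ card_dvd_of_le inf_le_left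
    have h5 : Nat.card (T ⊓ Cx E : Subgroup W) ≠ 8 := fun e =>
      hn (inf_eq_left.1 (eq_of_le_of_card_ge inf_le_left (by rw [e, h8])))
    have h6 := Nat.le_of_dvd (by norm_num) h4
    unfold Nat.ModEq at h2
    generalize Nat.card (T ⊓ Cx E : Subgroup W) = m at h2 h4 h5 h6
    interval_cases m <;> omega

theorem gen_fix [Finite W] {E : Subgroup (MulAut W)} (hab : IsMulCommutative E) (hnc : ¬ IsCyclic E)
    (hcop : (Nat.card E).Coprime (Nat.card W)) {K L : Subgroup W} (h : ∀ f ∈ E, ∀ x ∈ K, f x ∈ K)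
    (hL : ∀ e ∈ E, e ≠ 1 → K ⊓ Fx e ≤ L) : K ≤ L := by
  let G := W ⋊[E.subtype] E
  haveI : Finite G := Finite.of_equiv _ SemidirectProduct.equivProd.symm
  let i : W →* G := SemidirectProduct.inl
  let j : E →* G := SemidirectProduct.inr
  have hi : Function.Injective i := SemidirectProduct.inl_injective
  have hj : Function.Injective j := SemidirectProduct.inr_injective
  have hc : ∀ (f : E) (x : W), j f * i x * (j f)⁻¹ = i (f.1 x) := fun f x => by
    rw [← map_inv]; exact (SemidirectProduct.inl_aut f x).symm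
  haveI : IsMulCommutative j.range := ⟨⟨by
    rintro ⟨_, a, rfl⟩ ⟨_, b, rfl⟩
    exact Subtype.ext (by simp only [coe_mul, ← map_mul, hab.is_comm.comm a b])⟩⟩
  have h1 := S0058.result j.range (K.map i)
    (fun a => hnc ((MonoidHom.ofInjective hj).isCyclic.2 a))
    (by
      rintro _ ⟨f, rfl⟩
      rw [mem_normalizer_iff]
      intro y
      constructor
      · rintro ⟨x, hx, rfl⟩
        exact ⟨_, h f f.2 x hx, (hc f x).symm⟩
      · rintro ⟨x, hx, e⟩
        refine ⟨_, h _ (f⁻¹).2 x hx, ?_⟩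
        rw [← hc, e, map_inv]; simp [mul_assoc])
    (by
      rw [← Nat.card_congr (MonoidHom.ofInjective hj).toEquiv, card_map_of_injective hi]
      exact hcop.coprime_dvd_right (card_subgroup_dvd_card K))
  rw [← map_le_map_iff_of_injective hi, ← h1]
  refine iSup₂_le ?_
  rintro _ ⟨⟨f, rfl⟩, hf⟩ _ ⟨⟨x, hx, rfl⟩, hx2⟩
  refine mem_map_of_mem i (hL f f.2 (fun e => hf (by rw [show f = 1 from Subtype.ext e, map_one])) ⟨hx, ?_⟩)
  apply hi
  change i (f.1 x) = i x
  rw [← hc, hx2 (j f) rfl, mul_inv_cancel_right]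

theorem card_sup_le [Finite W] {Z A B : Subgroup W} [A.Normal] (hZA : Z ≤ A) (hZB : Z ≤ B)
    (hZ : Nat.card Z = 2) (hB : Nat.card B ≤ 8) : Nat.card (A ⊔ B : Subgroup W) ≤ Nat.card A * 4 := by
  have h1 := (A.subgroupOf (A ⊔ B)).card_mul_index
  rw [Nat.card_congr (subgroupOfEquivOfLe le_sup_left).toEquiv] at h1
  have h2 := (Z.subgroupOf B).card_mul_index
  rw [Nat.card_congr (subgroupOfEquivOfLe hZB).toEquiv, hZ] at h2
  have h3 : A.relIndex (A ⊔ B) = A.relIndex B := relIndex_sup_left B A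
  have h4 : A.relIndex B ≤ Z.relIndex B :=
    Nat.le_of_dvd (Nat.pos_of_ne_zero index_ne_zero_of_finite) (relIndex_dvd_of_le_left B hZA)
  rw [← h1]
  unfold relIndex at h3 h4
  exact Nat.mul_le_mul_left _ (by omega)

theorem few_inv [Finite W] (hW : IsPGroup 2 W) {p : ℕ} [hp : Fact p.Prime] (hp2 : p ≠ 2)
    (E : Subgroup (MulAut W)) (hE : IsPGroup p E) (hab : IsMulCommutative E) (hnc : ¬ IsCyclic E)
    (hfix : ∀ e ∈ E, e ≠ 1 → ∀ x y : W, orderOf x = 2 → orderOf y = 2 → e x = x → e y = y → x = y) :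
    Nat.card E = 9 ∧ IsExtraspecial 2 W ∧
      (Nat.card W = 2 ^ 5 ∨ Nat.card W = 2 ^ 7 ∨ Nat.card W = 2 ^ 9) ∧
      {x : W | ∀ e ∈ E, e x = x} = (center W : Set W) := by
  classical
  haveI : Fact (Nat.Prime 2) := ⟨Nat.prime_two⟩
  have hcop : (Nat.card E).Coprime (Nat.card W) := by
    obtain ⟨a, ha⟩ := IsPGroup.iff_card.1 hE
    obtain ⟨b, hb⟩ := IsPGroup.iff_card.1 hW
    rw [ha, hb]
    exact Nat.Coprime.pow _ _ ((Nat.coprime_primes hp.out Nat.prime_two).2 hp2)
  have hinv : ∀ e ∈ E, ∀ f ∈ E, ∀ x ∈ Fx e, f x ∈ Fx e := by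
    intro e he f hf x hx
    have := congrArg (fun g : E => g.1 x) (hab.is_comm.comm ⟨e, he⟩ ⟨f, hf⟩)
    simp only [coe_mul, MulAut.mul_apply] at this
    rw [mem_Fx, this, mem_Fx.1 hx]
  have hq : ∀ e (he : e ∈ E), e ≠ 1 → ¬ Fx e ≤ Cx E → _ := fun e he h1 h2 =>
    q8_case hW hp2 hE (hinv e he) (fun x hx y hy a b => hfix e he h1 x y a b hx hy) h2
  have hCF : ∀ e ∈ E, Cx E ≤ Fx e := fun e he x hx => mem_Cx.1 hx e he
  have htop : ∀ e : MulAut W, ⊤ ≤ Fx e → e = 1 := fun e h => MulEquiv.ext fun x => h (mem_top x)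
  obtain ⟨e₁, he₁, h11, h12⟩ : ∃ e ∈ E, e ≠ 1 ∧ ¬ Fx e ≤ Cx E := by
    by_contra hn
    push Not at hn
    have h1 := gen_fix hab hnc hcop (K := ⊤) (fun _ _ _ _ => trivial)
      fun e he h => inf_le_right.trans (hn e he h)
    have h2 : E = ⊥ := eq_bot_iff.2 fun e he => htop e (h1.trans (hCF e he))
    subst h2
    exact hnc inferInstance
  obtain ⟨rfl, a1, -, a2, a3⟩ := hq e₁ he₁ h11 h12
  rw [inf_eq_right.2 (hCF e₁ he₁)] at a3
  obtain ⟨e₂, he₂, h21, h22⟩ : ∃ e ∈ E, e ≠ 1 ∧ ¬ Fx e ≤ Fx e₁ := by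
    by_contra hn
    push Not at hn
    exact h11 (htop _ (gen_fix hab hnc hcop (K := ⊤) (fun _ _ _ _ => trivial)
      fun e he h => inf_le_right.trans (hn e he h)))
  obtain ⟨-, -, -, b2, -⟩ := hq e₂ he₂ h21 fun h => h22 (h.trans (hCF e₁ he₁))
  have hE9 : Nat.card E = 9 := by
    have h1 : (resH E _ (hinv e₁ he₁)).ker ⊓ (resH E _ (hinv e₂ he₂)).ker = ⊥ := by
      rw [eq_bot_iff]
      rintro f ⟨h1, h2⟩
      by_contra hf
      have h3 := mem_ker_resH.1 h1
      have h4 := (hq f f.2 (fun e => hf (Subtype.ext e)) fun h => h12 (h3.trans h)).2.1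
      have h5 := eq_of_le_of_card_ge h3 (by rw [h4, a1])
      exact h22 (h5 ▸ mem_ker_resH.1 h2)
    have h2 := index_inf_le (H := (resH E _ (hinv e₁ he₁)).ker) (K := (resH E _ (hinv e₂ he₂)).ker)
    rw [h1, index_bot, a2, b2] at h2
    obtain ⟨k, hk⟩ := IsPGroup.iff_card.1 hE
    have h3 : k ≤ 2 := (Nat.pow_le_pow_iff_right (by norm_num : 1 < 3)).1 (hk ▸ h2)
    interval_cases k
    · exact absurd (isCyclic_of_card_dvd_prime (p := 3) (by rw [hk]; norm_num)) hnc
    · exact absurd (isCyclic_of_card_dvd_prime (p := 3) (by rw [hk]; norm_num)) hnc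
    · exact hk
  have hchar : ∀ A : Subgroup W, A.Characteristic → IsMulCommutative A → A ≤ Cx E := by
    intro A hA hc
    have h1 : ∀ f ∈ E, ∀ x ∈ A, f x ∈ A := fun f _ x hx => characteristic_iff_le_comap.1 hA f hx
    refine gen_fix hab hnc hcop h1 fun e he h => ?_
    by_contra hn
    refine (q8_case hW hp2 hE (T := A ⊓ Fx e) (fun f hf x hx => ⟨h1 f hf x hx.1, hinv e he f hf x hx.2⟩)
      (fun x hx y hy a b => hfix e he h x y a b hx.2 hy.2) hn).2.2.1 ⟨⟨fun a b => Subtype.ext ?_⟩⟩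
    exact congrArg (fun z : A => (z : W)) (hc.is_comm.comm ⟨a, a.2.1⟩ ⟨b, b.2.1⟩)
  have hlt : 8 < Nat.card W := by
    by_contra hn
    exact h11 (htop _ (eq_of_le_of_card_ge (le_top : Fx e₁ ≤ ⊤) (by rw [a1, card_top]; omega)).ge)
  haveI : Nontrivial W := Finite.one_lt_card_iff_nontrivial.1 (by omega)
  have hZ : center W = Cx E := by
    refine eq_of_le_of_card_ge (hchar _ inferInstance inferInstance) ?_
    rw [a3]
    haveI := hW.center_nontrivial
    exact Finite.one_lt_card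
  have hX : IsExtraspecial 2 W := extraspecial_of_char hW (by rw [hZ, a3])
    (fun h => by rw [← hZ, h, card_top] at a3; omega) (fun A a b => hZ ▸ hchar A a b)
  refine ⟨hE9, hX, ?_, by rw [hZ]; ext x; exact mem_Cx.symm⟩
  obtain ⟨n, -, hn⟩ := S0095.result hX
  have hnorm : ∀ A : Subgroup W, Cx E ≤ A → A.Normal := fun A h =>
    Normal.of_commutator_le W (hX.1.2.2 ▸ hZ ▸ h)
  have hbd : ∀ s : Finset E, (1 : E) ∉ s →
      Nat.card (Cx E ⊔ s.sup (fun e => Fx e.1) : Subgroup W) ≤ 2 * 4 ^ s.card := by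
    intro s
    induction s using Finset.induction_on with
    | empty => intro _; simp [a3]
    | insert e s he ih =>
      intro h1
      rw [Finset.mem_insert, not_or] at h1
      rw [Finset.sup_insert, Finset.card_insert_of_notMem he, sup_comm (Fx e.1), ← sup_assoc, pow_succ,
        ← mul_assoc]
      haveI := hnorm (Cx E ⊔ s.sup (fun e => Fx e.1)) le_sup_left
      refine (card_sup_le le_sup_left (hCF e e.2) a3 ?_).trans (Nat.mul_le_mul_right _ (ih h1.2))
      by_cases h2 : Fx e.1 ≤ Cx E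
      · exact (card_le_of_le h2).trans (by omega)
      · exact (hq e e.2 (fun h => h1.1 (Subtype.ext h.symm)) h2).2.1.le
  haveI := Fintype.ofFinite E
  let ι := Fintype.equivFin E
  set s : Finset E := Finset.univ.filter (fun e => ι e < ι e⁻¹) with hs
  have ms : ∀ e, e ∈ s ↔ ι e < ι e⁻¹ := by simp [hs]
  have hs4 : s.card ≤ 4 := by
    have h1 : Disjoint s (s.image (·⁻¹)) := by
      rw [Finset.disjoint_left]
      intro e h1 h2
      obtain ⟨f, hf, rfl⟩ := Finset.mem_image.1 h2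
      rw [ms] at h1 hf
      rw [inv_inv] at h1
      exact absurd (h1.trans hf) (lt_irrefl _)
    have h2 := Finset.card_le_univ (s ∪ s.image (·⁻¹))
    rw [Finset.card_union_of_disjoint h1, Finset.card_image_of_injective _ inv_injective,
      ← Nat.card_eq_fintype_card, hE9] at h2
    omega
  have hgen : ⊤ ≤ Cx E ⊔ s.sup (fun e => Fx e.1) := by
    refine gen_fix hab hnc hcop (K := ⊤) (fun _ _ _ _ => trivial) fun e he h => ?_
    refine inf_le_right.trans (le_trans ?_ le_sup_right)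
    rcases lt_trichotomy (ι ⟨e, he⟩) (ι ⟨e, he⟩⁻¹) with h1 | h1 | h1
    · exact Finset.le_sup (f := fun e : E => Fx e.1) ((ms _).2 h1)
    · exfalso
      have h2 := ι.injective h1
      have h3 : orderOf (⟨e, he⟩ : E) ∣ 2 := orderOf_dvd_of_pow_eq_one (by
        rw [pow_two]; nth_rewrite 1 [h2]; exact inv_mul_cancel _)
      have h4 := orderOf_dvd_natCard (⟨e, he⟩ : E)
      rw [hE9] at h4
      exact h (congrArg Subtype.val (orderOf_eq_one_iff.1
        (Nat.eq_one_of_dvd_coprimes (by norm_num : Nat.Coprime 2 9) h3 h4)))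
    · refine le_trans (fun x hx => ?_) (Finset.le_sup (f := fun e : E => Fx e.1)
        ((ms (⟨e, he⟩ : E)⁻¹).2 (by rwa [inv_inv])))
      change e⁻¹ x = x
      rw [MulAut.inv_def, MulEquiv.symm_apply_eq]
      exact (mem_Fx.1 hx).symm
  have h1 := (card_le_of_le hgen).trans (hbd s (by rw [ms]; simp))
  have h2 : 4 ^ s.card ≤ 4 ^ 4 := Nat.pow_le_pow_right (by norm_num) hs4
  rw [card_top] at h1
  rw [hn] at h1 hlt ⊢
  have h3 : 2 * n + 1 ≤ 9 := (Nat.pow_le_pow_iff_right (by norm_num : 1 < 2)).1 (by omega)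
  have h4 : 3 < 2 * n + 1 := (Nat.pow_lt_pow_iff_right (by norm_num : 1 < 2)).1 hlt
  rcases (by omega : n = 2 ∨ n = 3 ∨ n = 4) with rfl | rfl | rfl <;> simp

end Cfsg.Agent.H22.Sp
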