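import Cfsg.Agent.H22.Mb2
import Cfsg.Agent.H3.PGroup1
import Cfsg.Agent.H2.Prim

/-! The group of order `320` with derived group of order `64` and Klein four centre. -/

set_option autoImplicit false
set_option linter.style.haveILetI false

namespace Cfsg.Agent.H22.U320

open Subgroup
open scoped commutatorElement

variable {H : Type*} [Group H]

theorem card_sup_le [Finite H] {p : ℕ} [hp : Fact p.Prime] {N : Subgroup H} {x : H}
    (hn : x ∈ normalizer (N : Set H)) (h : x ^ p ∈ N) :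
    Nat.card (N ⊔ zpowers x : Subgroup H) ≤ p * Nat.card N := by
  by_cases hx : x ∈ N
  · rw [sup_eq_left.2 (zpowers_le.2 hx)]; exact Nat.le_mul_of_pos_left _ hp.out.pos
  · exact (H3.card_sup_zpowers hn hx h).le

theorem normal_of_le_cen {B : Subgroup H} (h : B ≤ center H) : B.Normal :=
  ⟨fun n hn g => by rw [mem_center_iff.1 (h hn) g, mul_inv_cancel_right]; exact hn⟩

theorem commutator_le_of_sup {A C : Subgroup H} (hC : C ≤ center H) : ⁅A ⊔ C, A ⊔ C⁆ ≤ ⁅A, A⁆ := by
  haveI := normal_of_le_cen hC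
  refine commutator_le.2 fun x hx y hy => ?_
  obtain ⟨a, ha, u, hu, rfl⟩ := mem_sup_of_normal_right.1 hx
  obtain ⟨b, hb, v, hv, rfl⟩ := mem_sup_of_normal_right.1 hy
  have : ⁅a * u, b * v⁆ = ⁅a, b⁆ := by
    calc ⁅a * u, b * v⁆ = a * (u * (b * (v * (u⁻¹ * a⁻¹) * v⁻¹))) * b⁻¹ := by
          rw [commutatorElement_def]; group
      _ = _ := by
          rw [← mem_center_iff.1 (hC hv), mul_inv_cancel_right, ← mul_assoc u,
            ← mem_center_iff.1 (hC hu) b, commutatorElement_def]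
          group
  exact this ▸ commutator_mem_commutator ha hb

/-- the conjugates of `a` under powers of `τ` -/
def c (a τ : H) (i : ℕ) : H := τ ^ i * a * (τ ^ i)⁻¹

theorem c_succ (a τ : H) (i : ℕ) : τ * c a τ i * τ⁻¹ = c a τ (i + 1) := by
  simp only [c, pow_succ']; group

theorem c_map {K : Type*} [Group K] (f : H →* K) (a τ : H) (i : ℕ) :
    f (c a τ i) = c (f a) (f τ) i := by simp [c]

theorem c_zero (a τ : H) : c a τ 0 = a := by simp [c]

theorem c_five {τ : H} (h : τ ^ 5 = 1) (a : H) : c a τ 5 = c a τ 0 := by simp [c, h]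

theorem cm_succ {a τ z : H} (hz : Commute τ z) {k : ℕ} (h : ⁅c a τ k, c a τ 0⁆ = z) (i : ℕ) :
    ⁅c a τ (k + i), c a τ i⁆ = z := by
  induction i with
  | zero => exact h
  | succ i ih =>
    rw [← add_assoc, ← c_succ, ← c_succ, ← conjugate_commutatorElement, ih, hz.eq,
      mul_inv_cancel_right]

/-- the defining relations -/
structure Rl (a τ : H) : Prop where
  five : τ ^ 5 = 1
  prod : c a τ 0 * c a τ 1 * c a τ 2 * c a τ 3 * c a τ 4 = 1
  cen : ∀ z, z = ⁅c a τ 1, c a τ 0⁆ ∨ z = ⁅c a τ 2, c a τ 0⁆ ∨ z = a * a →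
    Commute a z ∧ Commute τ z ∧ z * z = 1

theorem sq_mul {x y : H} {u v w : center H} (h1 : x * x = u) (h2 : y * y = v) (h3 : ⁅y, x⁆ = w) :
    x * y * (x * y) = (w * u * v : center H) := by
  calc x * y * (x * y) = x * ⁅y, x⁆ * (x * (y * y)) := by rw [commutatorElement_def]; group
    _ = _ := by
      rw [h3, mem_center_iff.1 w.2 x, h2, Subgroup.coe_mul, Subgroup.coe_mul, ← h1]
      simp only [mul_assoc]

theorem cm_mul {t x y : H} {u v : center H} (h1 : ⁅t, x⁆ = u) (h2 : ⁅t, y⁆ = v) :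
    ⁅t, x * y⁆ = (u * v : center H) := by
  calc ⁅t, x * y⁆ = ⁅t, x⁆ * (x * ⁅t, y⁆ * x⁻¹) := by simp only [commutatorElement_def]; group
    _ = _ := by rw [h1, h2, mem_center_iff.1 v.2 x, mul_inv_cancel_right, Subgroup.coe_mul]

theorem Rl.card_le [Finite H] {a τ : H} (h : Rl a τ) (hg : closure {a, τ} = ⊤) :
    Nat.card H ≤ 80 * Nat.card (closure {⁅c a τ 1, c a τ 0⁆, ⁅c a τ 2, c a τ 0⁆}) := by
  haveI : Fact (Nat.Prime 5) := ⟨Nat.prime_five⟩
  have hc : ∀ z, Commute a z → Commute τ z → z ∈ center H := fun z h1 h2 =>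
    mem_center_iff.2 fun g => mem_centralizer_singleton_iff.1 ((show ⊤ ≤ centralizer {z} by
      rw [← hg, closure_le]
      rintro _ (rfl | rfl)
      exacts [mem_centralizer_singleton_iff.2 h1, mem_centralizer_singleton_iff.2 h2]) trivial)
  obtain ⟨a1, a2, a3⟩ := h.cen _ (Or.inl rfl)
  obtain ⟨a4, a5, a6⟩ := h.cen _ (Or.inr (Or.inl rfl))
  obtain ⟨a7, a8, a9⟩ := h.cen _ (Or.inr (Or.inr rfl))
  let b₁ : center H := ⟨_, hc _ a1 a2⟩
  let b₂ : center H := ⟨_, hc _ a4 a5⟩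
  let s : center H := ⟨_, hc _ a7 a8⟩
  have q1 : b₁ * b₁ = 1 := Subtype.ext a3
  have q2 : b₂ * b₂ = 1 := Subtype.ext a6
  have q3 : s * s = 1 := Subtype.ext a9
  have e1 : ∀ i, ⁅c a τ (1 + i), c a τ i⁆ = b₁ := cm_succ a2 rfl
  have e2 : ∀ i, ⁅c a τ (2 + i), c a τ i⁆ = b₂ := cm_succ a5 rfl
  have e3 : ⁅c a τ 3, c a τ 0⁆ = b₂ := by
    rw [← commutatorElement_inv, ← c_five h.five, e2 3]
    exact inv_eq_of_mul_eq_one_right a6
  have e4 : ∀ i, c a τ i * c a τ i = s := fun i => by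
    calc c a τ i * c a τ i = τ ^ i * (a * a) * (τ ^ i)⁻¹ := by simp only [c]; group
      _ = _ := by rw [(a8.pow_left i).eq, mul_inv_cancel_right]
  have e5 : s = b₁ * b₂ := by
    have k := sq_mul (sq_mul (sq_mul (e4 0) (e4 1) (e1 0)) (e4 2) (cm_mul (e2 0) (e1 1))) (e4 3)
      (cm_mul (cm_mul e3 (e2 1)) (e1 2))
    rw [eq_inv_of_mul_eq_one_left h.prod, ← mul_inv_rev, e4, ← Subgroup.coe_inv, Subtype.coe_inj,
      inv_eq_of_mul_eq_one_right q3] at k
    refine k.trans ?_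
    calc _ = b₂ * b₂ * (b₁ * b₁) * (s * s) * (s * s) * (b₁ * b₂) := by ac_rfl
      _ = _ := by rw [q1, q2, q3]; simp
  set B := closure {⁅c a τ 1, c a τ 0⁆, ⁅c a τ 2, c a τ 0⁆} with hB
  have m1 : (b₁ : H) ∈ B := subset_closure (Or.inl rfl)
  have m2 : (b₂ : H) ∈ B := subset_closure (Or.inr rfl)
  haveI : B.Normal := normal_of_le_cen (by
    rw [hB, closure_le]
    rintro _ (rfl | rfl)
    exacts [b₁.2, b₂.2])
  let π := QuotientGroup.mk' B
  let x : ℕ → H ⧸ B := fun i => π (c a τ i)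
  have k1 : ∀ {i j}, ⁅c a τ i, c a τ j⁆ ∈ B → zpowers (x j) ≤ centralizer {x i} := fun h =>
    zpowers_le.2 (mem_centralizer_singleton_iff.2 (commutatorElement_eq_one_iff_mul_comm.1 (by
      rw [← map_commutatorElement]; exact (QuotientGroup.eq_one_iff _).2 h)).symm)
  have k2 : ∀ i, x i ^ 2 = 1 := fun i => by
    rw [← map_pow, sq, e4, e5]
    exact (QuotientGroup.eq_one_iff _).2 (mul_mem m1 m2)
  have k3 : ∀ (N : Subgroup (H ⧸ B)) i, N ≤ centralizer {x i} →
      Nat.card (N ⊔ zpowers (x i) : Subgroup _) ≤ 2 * Nat.card N := fun N i hN =>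
    card_sup_le (centralizer_le_normalizer _ (mem_centralizer_iff.2 fun g hg =>
      mem_centralizer_singleton_iff.1 (hN hg))) (by rw [k2]; exact one_mem _)
  have c0 := k3 ⊥ 0 bot_le
  have c1 := k3 _ 1 (sup_le bot_le (k1 (e1 0 ▸ m1)))
  have c2 := k3 _ 2 (sup_le (sup_le bot_le (k1 (e2 0 ▸ m2))) (k1 (e1 1 ▸ m1)))
  have c3 := k3 _ 3 (sup_le (sup_le (sup_le bot_le (k1 (e3 ▸ m2))) (k1 (e2 1 ▸ m2))) (k1 (e1 2 ▸ m1)))
  rw [card_bot] at c0
  set A := ⊥ ⊔ zpowers (x 0) ⊔ zpowers (x 1) ⊔ zpowers (x 2) ⊔ zpowers (x 3) with hA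
  have n0 : x 0 ∈ A := mem_sup_left (mem_sup_left (mem_sup_left (mem_sup_right (mem_zpowers _))))
  have n1 : x 1 ∈ A := mem_sup_left (mem_sup_left (mem_sup_right (mem_zpowers _)))
  have n2 : x 2 ∈ A := mem_sup_left (mem_sup_right (mem_zpowers _))
  have n3 : x 3 ∈ A := mem_sup_right (mem_zpowers _)
  have n4 : x 4 ∈ A := by
    have : x 4 = (x 0 * x 1 * x 2 * x 3)⁻¹ := by
      simp only [x, ← map_mul, ← map_inv]
      rw [eq_inv_of_mul_eq_one_right h.prod]
    exact this ▸ inv_mem (mul_mem (mul_mem (mul_mem n0 n1) n2) n3)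
  have k4 : ∀ i, x (i + 1) ∈ A → zpowers (x i) ≤ A.comap (MulAut.conj (π τ)).toMonoidHom :=
    fun i hi => zpowers_le.2 (by
      change π τ * π _ * (π τ)⁻¹ ∈ A
      rw [← map_inv, ← map_mul, ← map_mul, c_succ]; exact hi)
  have c4 := card_sup_le (p := 5) (N := A) (x := π τ) (mem_normalizer_fintype fun n hn =>
    (sup_le (sup_le (sup_le (sup_le bot_le (k4 0 n1)) (k4 1 n2)) (k4 2 n3)) (k4 3 n4)) hn)
    (by rw [← map_pow, h.five]; exact one_mem _)
  have k5 : A ⊔ zpowers (π τ) = ⊤ := by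
    rw [eq_top_iff, ← map_top_of_surjective _ (QuotientGroup.mk'_surjective B), ← hg,
      MonoidHom.map_closure, closure_le]
    rintro _ ⟨_, rfl | rfl, rfl⟩
    · exact mem_sup_left (by simpa only [x, c_zero] using n0)
    · exact mem_sup_right (mem_zpowers _)
  rw [k5, card_top] at c4
  rw [card_eq_card_quotient_mul_card_subgroup B]
  exact Nat.mul_le_mul_right _ (by omega)

theorem struct {G : Type*} [Group G] [Finite G] (hG : Nat.card G = 320)
    (hD : Nat.card (commutator G) = 64) (hZ : IsKleinFour (center (commutator G))) :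
    ∃ a τ : G, Rl a τ ∧ closure {a, τ} = ⊤ ∧ ∀ N : Subgroup G, N.Normal →
      ⁅c a τ 1, c a τ 0⁆ ∉ N → ⁅c a τ 2, c a τ 0⁆ ∉ N →
      ⁅c a τ 1, c a τ 0⁆ * ⁅c a τ 2, c a τ 0⁆ ∉ N → N = ⊥ := by
  haveI : Fact (Nat.Prime 5) := ⟨Nat.prime_five⟩
  set P := commutator G with hP
  set Z := (center P).map P.subtype with hZ'
  have cZ : Nat.card Z = 4 := by rw [hZ', card_map_of_injective P.subtype_injective, hZ.card_four]
  have ZP : Z ≤ P := map_subtype_le _
  have mZ : ∀ x ∈ P, (∀ y ∈ P, y * x = x * y) → x ∈ Z := fun x hx h =>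
    ⟨⟨x, hx⟩, mem_center_iff.2 fun y => Subtype.ext (h y y.2), rfl⟩
  have sZ : ∀ z ∈ Z, z * z = 1 := by
    rintro _ ⟨z, hz, rfl⟩
    exact congrArg (fun x : center P => x.1.1) (IsKleinFour.mul_self (⟨z, hz⟩ : center P))
  have pP : IsPGroup 2 P := IsPGroup.of_card (n := 6) hD
  have lt : ∀ K ≤ P, K ≠ ⊥ → ⁅K, K⁆ < K := fun K hK h0 => by
    haveI := (pP.to_le hK).isNilpotent
    haveI : Nontrivial K := (nontrivial_iff_ne_bot K).2 h0
    rw [← map_subtype_commutator]
    exact lt_of_le_of_ne (map_subtype_le _) fun e =>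
      (Group.IsSolvable.commutator_lt_top_of_nontrivial K).ne (map_injective K.subtype_injective
        (by rw [e, ← MonoidHom.range_eq_map, range_subtype]))
  have P0 : P ≠ ⊥ := fun e => by rw [e, card_bot] at hD; omega
  have iP : P.index = 5 := by have := P.card_mul_index; rw [hD, hG] at this; omega
  have gen : ∀ g ∉ P, P ⊔ zpowers g = ⊤ := fun g hg => by
    rcases (Nat.dvd_prime Nat.prime_five).1 (iP ▸ index_dvd_of_le (le_sup_left : P ≤ P ⊔ zpowers g))
      with h | h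
    · exact index_eq_one.1 h
    · have h1 := (P ⊔ zpowers g).card_mul_index
      rw [h, hG] at h1
      exact absurd ((eq_of_le_of_card_ge (le_sup_left : P ≤ P ⊔ zpowers g) (by omega)).ge
        (mem_sup_right (mem_zpowers g))) hg
  have ncen : ∀ g ∉ P, ¬ P ≤ centralizer {g} := fun g hg h => by
    have h1 : zpowers g ≤ center G := zpowers_le.2 (mem_center_iff.2 fun x =>
      mem_centralizer_singleton_iff.1 ((show ⊤ ≤ centralizer {g} from (gen g hg).ge.trans
        (sup_le h (zpowers_le.2 (mem_centralizer_singleton_iff.2 rfl)))) trivial))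
    have h2 := commutator_le_of_sup (A := P) h1
    rw [gen g hg] at h2
    exact (lt P le_rfl P0).not_ge h2
  obtain ⟨τ, hτ⟩ := exists_prime_orderOf_dvd_card' (G := G) 5 (by rw [hG]; norm_num)
  have τP : τ ∉ P := fun h => by
    have := orderOf_dvd_natCard (⟨τ, h⟩ : P)
    rw [← Subgroup.orderOf_coe, hτ, hD] at this
    omega
  have md : ∀ K : Subgroup G, τ ∈ normalizer (K : Set G) →
      Nat.card K ≡ Nat.card (K ⊓ centralizer {τ} : Subgroup G) [MOD 5] := fun K hK => by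
    have := H2.card_modEq_card_inf_centralizer (q := 5) (Q := zpowers τ) (V := K)
      (IsPGroup.of_card (n := 1) (by rw [Nat.card_zpowers, hτ, pow_one])) (zpowers_le.2 hK)
    rwa [zpowers_eq_closure, centralizer_closure] at this
  have Zτ : Z ≤ centralizer {τ} := by
    have h1 := md Z (le_normalizer_of_normal (mem_top τ))
    have h2 := card_le_of_le (inf_le_left : Z ⊓ centralizer {τ} ≤ Z)
    rw [cZ, Nat.ModEq] at h1
    exact inf_eq_left.1 (eq_of_le_of_card_ge inf_le_left (by omega))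
  have Zc : Z ≤ center G := fun z hz => mem_center_iff.2 fun x =>
    mem_centralizer_singleton_iff.1 ((show ⊤ ≤ centralizer {z} from (gen τ τP).ge.trans
      (sup_le (fun y hy => mem_centralizer_singleton_iff.2 (by
        obtain ⟨w, hw, rfl⟩ := hz
        exact congrArg Subtype.val (mem_center_iff.1 hw ⟨y, hy⟩))) (zpowers_le.2
          (mem_centralizer_singleton_iff.2 (mem_centralizer_singleton_iff.1 (Zτ hz)).symm)))) trivial)
  have two : ∀ K : Subgroup G, K ≤ P → Nat.card K % 5 = 4 → Nat.card K = 4 ∨ K = P := fun K hK h => by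
    obtain ⟨k, hk, e⟩ := (Nat.dvd_prime_pow Nat.prime_two (m := 6)).1 (hD ▸ card_dvd_of_le hK)
    have : k = 2 ∨ k = 6 := by
      rw [e] at h
      interval_cases k <;> simp_all
    rcases this with rfl | rfl
    · exact Or.inl e
    · exact Or.inr (eq_of_le_of_card_ge hK (by omega))
  have Cτ : P ⊓ centralizer {τ} = Z := by
    have h1 := md P (le_normalizer_of_normal (mem_top τ))
    rw [hD, Nat.ModEq] at h1
    rcases two _ (inf_le_left : P ⊓ centralizer {τ} ≤ P) (by omega) with h | h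
    · exact (eq_of_le_of_card_ge (le_inf ZP Zτ) (by omega)).symm
    · exact absurd (inf_eq_left.1 h) (ncen τ τP)
  have dich : ∀ K : Subgroup G, Z ≤ K → K ≤ P → (∀ k ∈ K, τ * k * τ⁻¹ ∈ K) → K = Z ∨ K = P :=
    fun K h1 h2 h3 => by
      have h4 := md K (mem_normalizer_fintype h3)
      rw [show K ⊓ centralizer {τ} = Z from le_antisymm (Cτ ▸ inf_le_inf_right _ h2) (le_inf h1 Zτ),
        cZ, Nat.ModEq] at h4
      exact (two K h2 (by omega)).imp_left fun h => (eq_of_le_of_card_ge h1 (by omega)).symm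
  haveI := normal_of_le_cen Zc
  have ZneP : Z ≠ P := fun e => by rw [e] at cZ; omega
  have nd : ∀ N : Subgroup G, N.Normal → N ≤ P → ¬ ⁅P, P⁆ ≤ ⁅N, N⁆ → N ≤ Z := fun N hN h1 h2 => by
    rcases dich (N ⊔ Z) le_sup_right (sup_le h1 ZP) (fun k hk => Normal.conj_mem inferInstance k hk τ)
      with h | h
    · exact le_sup_left.trans h.le
    · exact absurd (h ▸ commutator_le_of_sup Zc) h2
  have PP : ⁅P, P⁆ ≤ Z := nd _ inferInstance (commutator_le_right _ _) fun h => by
    have h0 : ⁅P, P⁆ ≠ ⊥ := fun e => ZneP (le_antisymm ZP fun x hx => mZ x hx fun y hy =>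
      commutatorElement_eq_one_iff_mul_comm.1 (mem_bot.1 (e ▸ commutator_mem_commutator hy hx)))
    exact (lt _ (commutator_le_right _ _) h0).not_ge h
  have sq : ∀ x ∈ P, x * x ∈ Z := fun x hx => mZ _ (mul_mem hx hx) fun y hy => by
    have h1 := PP (commutator_mem_commutator hy hx)
    have := cm_mul (u := ⟨_, Zc h1⟩) (v := ⟨_, Zc h1⟩) rfl rfl
    exact commutatorElement_eq_one_iff_mul_comm.1 (this.trans (sZ _ h1))
  have cP : ∀ a ∈ P, ∀ i, c a τ i ∈ P := fun a ha i => Normal.conj_mem inferInstance a ha _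
  have five : τ ^ 5 = 1 := by rw [← hτ, pow_orderOf_eq_one]
  obtain ⟨a₀, a0P, a0Z⟩ := SetLike.exists_of_lt (lt_of_le_of_ne ZP ZneP)
  obtain ⟨z, hz⟩ : ∃ z, z = c a₀ τ 0 * (c a₀ τ 1 * c a₀ τ 2 * c a₀ τ 3 * c a₀ τ 4) := ⟨_, rfl⟩
  have wP : c a₀ τ 1 * c a₀ τ 2 * c a₀ τ 3 * c a₀ τ 4 ∈ P :=
    mul_mem (mul_mem (mul_mem (cP _ a0P _) (cP _ a0P _)) (cP _ a0P _)) (cP _ a0P _)
  have zP : z ∈ P := hz ▸ mul_mem (cP _ a0P _) wP
  have zZ : z ∈ Z := by
    have h1 : τ * z * τ⁻¹ = ⁅c a₀ τ 1 * c a₀ τ 2 * c a₀ τ 3 * c a₀ τ 4, c a₀ τ 0⁆ * z := by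
      calc τ * z * τ⁻¹ = (τ * c a₀ τ 0 * τ⁻¹) * (τ * c a₀ τ 1 * τ⁻¹) * (τ * c a₀ τ 2 * τ⁻¹) *
            (τ * c a₀ τ 3 * τ⁻¹) * (τ * c a₀ τ 4 * τ⁻¹) := by rw [hz]; group
        _ = _ := by simp only [c_succ]; rw [c_five five, hz, commutatorElement_def]; group
    have h2 := card_sup_le (p := 2) (N := Z) (x := z) (le_normalizer_of_normal (mem_top _))
      (by rw [pow_two]; exact sq z zP)
    rcases dich (Z ⊔ zpowers z) le_sup_left (sup_le ZP (zpowers_le.2 zP)) (fun k hk =>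
      (show Z ⊔ zpowers z ≤ (Z ⊔ zpowers z).comap (MulAut.conj τ).toMonoidHom from sup_le
        (fun k hk => mem_sup_left (Normal.conj_mem inferInstance k hk τ)) (zpowers_le.2 (by
          change τ * z * τ⁻¹ ∈ Z ⊔ zpowers z
          rw [h1]
          exact mul_mem (mem_sup_left (PP (commutator_mem_commutator wP (cP _ a0P _))))
            (mem_sup_right (mem_zpowers _))))) hk) with h | h
    · exact h.le (mem_sup_right (mem_zpowers z))
    · rw [h] at h2; omega
  have aP : a₀ * z ∈ P := mul_mem a0P zP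
  have hR : Rl (a₀ * z) τ := ⟨five, by
    have h1 : ∀ i, c (a₀ * z) τ i = c a₀ τ i * z := fun i => by
      simp only [c, mul_assoc]; rw [mem_center_iff.1 (Zc zZ)]
    have h2 : ∀ g k : G, g * z * (k * z) = g * k := fun g k => by
      rw [mul_assoc, ← mul_assoc z, ← mem_center_iff.1 (Zc zZ), mul_assoc k, sZ z zZ, mul_one]
    simp only [h1]
    rw [mul_assoc (_ * z * (_ * z)), h2, h2, ← sZ z zZ]
    nth_rw 2 [hz]
    simp only [mul_assoc], fun w hw => by
      have : w ∈ Z := by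
        rcases hw with rfl | rfl | rfl
        exacts [PP (commutator_mem_commutator (cP _ aP _) (cP _ aP _)),
          PP (commutator_mem_commutator (cP _ aP _) (cP _ aP _)), sq _ aP]
      exact ⟨mem_center_iff.1 (Zc this) _, mem_center_iff.1 (Zc this) _, sZ _ this⟩⟩
  have aZ : a₀ * z ∉ Z := fun h => a0Z (by simpa using mul_mem h (inv_mem zZ))
  generalize a₀ * z = a at aP hR aZ
  have hg : closure {a, τ} = ⊤ := by
    have m1 : a ∈ closure {a, τ} := subset_closure (Or.inl rfl)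
    have m2 : τ ∈ closure {a, τ} := subset_closure (Or.inr rfl)
    rcases dich ((closure {a, τ} ⊔ Z) ⊓ P) (le_inf le_sup_right ZP) inf_le_right (fun k hk =>
      ⟨mul_mem (mul_mem (mem_sup_left m2) hk.1) (mem_sup_left (inv_mem m2)),
        Normal.conj_mem inferInstance k hk.2 τ⟩) with h | h
    · exact absurd (h.le ⟨mem_sup_left m1, aP⟩) aZ
    · have h1 : closure {a, τ} ⊔ Z = ⊤ := eq_top_iff.2 ((gen τ τP).ge.trans
        (sup_le (inf_eq_right.1 h) (zpowers_le.2 (mem_sup_left m2))))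
      have h2 := commutator_le_of_sup (A := closure {a, τ}) Zc
      rw [h1] at h2
      exact eq_top_iff.2 ((gen τ τP).ge.trans
        (sup_le (h2.trans (commutator_le_self _)) (zpowers_le.2 m2)))
  refine ⟨a, τ, hR, hg, fun N hN n1 n2 n3 => ?_⟩
  have m1 : ⁅c a τ 1, c a τ 0⁆ ∈ ⁅P, P⁆ := commutator_mem_commutator (cP _ aP _) (cP _ aP _)
  have m2 : ⁅c a τ 2, c a τ 0⁆ ∈ Z := PP (commutator_mem_commutator (cP _ aP _) (cP _ aP _))
  have h1 := nd (N ⊓ P) inferInstance inf_le_right fun h =>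
    n1 (commutator_le_self _ (h m1)).1
  have h2 : N ⊓ P = ⊥ := eq_bot_iff.2 fun x hx => by
    have s1 := sZ _ (PP m1)
    have s2 := sZ _ m2
    have m1 := PP m1
    generalize ⁅c a τ 1, c a τ 0⁆ = u at *
    generalize ⁅c a τ 2, c a τ 0⁆ = v at *
    by_contra x1
    have u1 : u ≠ 1 := fun e => n1 (e ▸ one_mem N)
    have v1 : v ≠ 1 := fun e => n2 (e ▸ one_mem N)
    have uv : u * v ≠ 1 := fun e => n3 (e ▸ one_mem N)
    have uv' : u ≠ v := fun e => uv (by rw [← e, s1])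
    have h3 : ({1, u, v, u * v, x} : Set G).ncard ≤ 4 := by
      rw [← cZ]
      refine Set.ncard_le_ncard (t := (Z : Set G)) ?_ (Set.toFinite _)
      rintro _ (rfl | rfl | rfl | rfl | rfl)
      exacts [one_mem _, m1, m2, mul_mem m1 m2, h1 hx]
    have x2 : u ≠ x := fun e => n1 (e ▸ hx.1)
    have x3 : v ≠ x := fun e => n2 (e ▸ hx.1)
    have x4 : u * v ≠ x := fun e => n3 (e ▸ hx.1)
    rw [Set.ncard_insert_of_notMem (by simp [u1.symm, v1.symm, uv.symm, Ne.symm x1]),
      Set.ncard_insert_of_notMem (by simp [uv', v1, x2]), Set.ncard_insert_of_notMem (by simp [u1, x3]),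
      Set.ncard_pair x4] at h3
    omega
  refine eq_bot_iff.2 fun g hg => ?_
  by_cases e : g ∈ P
  · exact h2.le ⟨hg, e⟩
  · refine absurd (fun y hy => mem_centralizer_singleton_iff.2
      (commutatorElement_eq_one_iff_mul_comm.1 (mem_bot.1 (h2.le ?_)))) (ncen g e)
    exact (inf_comm P N).le (commutator_le_inf P N (commutator_mem_commutator hy hg))

theorem Rl.hom {G K : Type*} [Group G] [Group K] [Finite G] [Finite K] {a τ : G} {a' τ' : K}
    (h : Rl a τ) (h' : Rl a' τ') (hg : closure {a, τ} = ⊤) (hG : Nat.card G = 320) :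
    ∃ f : G →* K, f a = a' ∧ f τ = τ' := by
  let D := closure ({(a, a'), (τ, τ')} : Set (G × K))
  let x : D := ⟨(a, a'), subset_closure (Or.inl rfl)⟩
  let y : D := ⟨(τ, τ'), subset_closure (Or.inr rfl)⟩
  let p₁ : D →* G := (MonoidHom.fst G K).comp D.subtype
  let p₂ : D →* K := (MonoidHom.snd G K).comp D.subtype
  have ex : ∀ {u v : D}, p₁ u = p₁ v → p₂ u = p₂ v → u = v := fun e1 e2 =>
    Subtype.ext (Prod.ext e1 e2)
  have hD : Rl x y := ⟨ex (by rw [map_pow, map_one]; exact h.five) (by rw [map_pow, map_one]; exact h'.five),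
    ex (by simp only [map_mul, c_map, map_one]; exact h.prod)
      (by simp only [map_mul, c_map, map_one]; exact h'.prod), fun z hz => by
      have e1 := h.cen (p₁ z) (by
        rcases hz with rfl | rfl | rfl <;> simp only [map_commutatorElement, c_map, map_mul] <;>
          simp [p₁, x, y])
      have e2 := h'.cen (p₂ z) (by
        rcases hz with rfl | rfl | rfl <;> simp only [map_commutatorElement, c_map, map_mul] <;>
          simp [p₂, x, y])
      exact ⟨ex e1.1 e2.1, ex e1.2.1 e2.2.1, ex e1.2.2 e2.2.2⟩⟩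
  have h1 := hD.card_le (map_injective D.subtype_injective (by
    rw [MonoidHom.map_closure, Set.image_pair, ← MonoidHom.range_eq_map, range_subtype]; rfl))
  have h2 : Nat.card (closure {⁅c x y 1, c x y 0⁆, ⁅c x y 2, c x y 0⁆}) ≤ 4 := by
    obtain ⟨a1, a2, a3⟩ := hD.cen _ (Or.inl rfl)
    obtain ⟨-, -, a4⟩ := hD.cen _ (Or.inr (Or.inl rfl))
    have a5 : ∀ i, Commute (c x y i) ⁅c x y 1, c x y 0⁆ := fun i =>
      ((a2.pow_left i).mul_left a1).mul_left (a2.pow_left i).inv_left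
    have a6 : Commute ⁅c x y 2, c x y 0⁆ ⁅c x y 1, c x y 0⁆ :=
      (((a5 2).mul_left (a5 0)).mul_left (a5 2).inv_left).mul_left (a5 0).inv_left
    generalize ⁅c x y 1, c x y 0⁆ = u at *
    generalize ⁅c x y 2, c x y 0⁆ = v at *
    have c1 := card_sup_le (p := 2) (N := ⊥) (x := u) (le_normalizer_of_normal (mem_top _))
      (by rw [pow_two]; exact a3)
    have c2 := card_sup_le (p := 2) (N := ⊥ ⊔ zpowers u) (x := v) (centralizer_le_normalizer _
      (mem_centralizer_iff.2 fun g hg => mem_centralizer_singleton_iff.1 ((sup_le bot_le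
        (zpowers_le.2 (mem_centralizer_singleton_iff.2 a6.symm)) : _ ≤ centralizer {v}) hg)))
      (by rw [pow_two, a4]; exact one_mem _)
    rw [card_bot] at c1
    refine (card_le_of_le ((closure_le _).2 ?_)).trans (c2.trans (by omega))
    rintro _ (rfl | rfl)
    exacts [mem_sup_left (mem_sup_right (mem_zpowers _)), mem_sup_right (mem_zpowers _)]
  have h3 : Function.Surjective p₁ := MonoidHom.range_eq_top.1 (eq_top_iff.2 (hg.ge.trans
    ((closure_le _).2 (by rintro _ (rfl | rfl); exacts [⟨x, rfl⟩, ⟨y, rfl⟩]))))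
  let e := MulEquiv.ofBijective p₁ ((Nat.bijective_iff_surjective_and_card p₁).2
    ⟨h3, le_antisymm (by omega) (Nat.card_le_card_of_surjective _ h3)⟩)
  exact ⟨p₂.comp e.symm.toMonoidHom, congrArg p₂ (e.symm_apply_eq.2 rfl : e.symm a = x),
    congrArg p₂ (e.symm_apply_eq.2 rfl : e.symm τ = y)⟩

open Matrix H28 Mb

variable {F : Type*} [Field F] {σ : F ≃+* F}

/-- diagonal matrices -/
def dd (l m : F) : Matrix (Fin 3) (Fin 3) F := !![l, 0, 0; 0, m, 0; 0, 0, l]

theorem dd_mul (l m x y z : F) {x' y' : F} (h1 : l * x = x' * m) (h2 : m * y = y' * l) :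
    dd l m * uu x y z = uu x' y' z * dd l m := by
  ext i j
  fin_cases i <;> fin_cases j <;> simp [dd, uu, Matrix.mul_apply, Fin.sum_univ_three, h1, h2, mul_comm]

theorem card_cent [Finite F] {Γ : Type*} [Group Γ] {φ : Γ →* Matrix (Fin 3) (Fin 3) F} (h : Md σ φ)
    (two : (2 : F) = 0) {ω : F} (hω : ω + σ ω = 1) {t : Γ} (ht : φ t = uu 0 0 1) :
    Nat.card (centralizer {t}) ≤
      Nat.card (H12.N1 (σ : F →+* F)) * Nat.card F * H12.q0 (σ : F →+* F) := by
  have key : ∀ g : centralizer {t}, φ g 1 0 = 0 ∧ φ g 2 0 = 0 ∧ φ g 2 1 = 0 ∧ φ g 2 2 = φ g 0 0 ∧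
      σ (φ g 0 0) * φ g 0 0 = 1 ∧ φ g 0 0 * φ g 1 1 * φ g 0 0 = 1 ∧
      σ (φ g 0 1) * φ g 0 0 + σ (φ g 1 1) * φ g 1 2 = 0 ∧
      σ (φ g 0 2) * φ g 0 0 + σ (φ g 1 2) * φ g 1 2 + σ (φ g 0 0) * φ g 0 2 = 0 := fun g => by
    have e := congrArg φ (mem_centralizer_singleton_iff.1 g.2)
    rw [map_mul, map_mul, ht] at e
    obtain ⟨o1, o2⟩ := h.ok g
    have e1 := congrFun (congrFun e 1) 2
    have e2 := congrFun (congrFun e 2) 2
    have e3 := congrFun (congrFun e 0) 1
    have e4 := congrFun (congrFun e 0) 2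
    have e5 := congrFun (congrFun o1 0) 2
    have e6 := congrFun (congrFun o1 1) 2
    have e7 := congrFun (congrFun o1 2) 2
    simp [uu, Matrix.mul_apply, Fin.sum_univ_three] at e1 e2 e3 e4
    have e8 : φ g 2 2 = φ g 0 0 := by linear_combination -e4
    simp [JJ, cT, Matrix.mul_apply, Fin.sum_univ_three, e1, e2, e3, e8] at e5 e6 e7
    rw [det_fin_three, e1, e2, e3, e8] at o2
    exact ⟨e1, e2, e3, e8, e5, by linear_combination o2, by linear_combination e6,
      by linear_combination e7⟩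
  rw [H12.q0, ← Nat.card_prod, ← Nat.card_prod]
  refine Nat.card_le_card_of_injective (fun g => ((⟨Units.mk0 (φ g 0 0) (right_ne_zero_of_mul_eq_one
    (key g).2.2.2.2.1), (key g).2.2.2.2.1⟩, φ g 1 2), ⟨σ (φ g 0 0) * φ g 0 2 + ω * (σ (φ g 1 2) * φ g 1 2), by
      have := (key g).2.2.2.2.2.2.2
      simp only [RingHom.coe_coe, map_add, map_mul, h.inv]
      linear_combination this + σ (φ g 1 2) * φ g 1 2 * hω - (σ (φ g 0 0) * φ g 0 2 +
        ω * (σ (φ g 1 2) * φ g 1 2)) * two⟩)) fun g k e => Subtype.ext (h.inj ?_)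
  simp only [Prod.mk.injEq, Subtype.mk.injEq, Units.mk0_inj] at e
  obtain ⟨⟨e1, e2⟩, e3⟩ := e
  replace e1 : φ g 0 0 = φ k 0 0 := congrArg (fun x : H12.N1 (σ : F →+* F) => (x.1 : F)) e1
  obtain ⟨a1, a2, a3, a4, a5, a6, a7, -⟩ := key g
  obtain ⟨b1, b2, b3, b4, b5, b6, b7, -⟩ := key k
  have h0 := right_ne_zero_of_mul_eq_one a5
  have e4 : φ g 1 1 = φ k 1 1 := mul_left_cancel₀ h0 (mul_right_cancel₀ h0 (by rw [a6, e1, b6]))
  have e5 : φ g 0 1 = φ k 0 1 := σ.injective (mul_right_cancel₀ h0 (by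
    rw [← e1, ← e2, ← e4] at b7; linear_combination a7 - b7))
  have e6 : φ g 0 2 = φ k 0 2 := mul_left_cancel₀ (left_ne_zero_of_mul_eq_one a5) (by
    rw [← e1, ← e2] at e3; linear_combination e3)
  ext i j
  fin_cases i <;> fin_cases j <;> simp [*]

theorem uu_congr {x y z x' y' z' : F} (h1 : x = x') (h2 : y = y') (h3 : z = z') :
    uu x y z = uu x' y' z' := by rw [h1, h2, h3]

theorem model [Finite F] {Γ G : Type*} [Group Γ] [Finite Γ] [Group G] [Finite G]
    {φ : Γ →* Matrix (Fin 3) (Fin 3) F} (h : Md σ φ) (two : (2 : F) = 0) (hσ : ∀ a, σ a = a ^ 4)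
    {l : F} (hl : orderOf l = 5) (c1 : Nat.card (H12.N1 (σ : F →+* F)) = 5) (c2 : Nat.card F = 16)
    (c3 : H12.q0 (σ : F →+* F) = 4) (hG : Nat.card G = 320) (hD : Nat.card (commutator G) = 64)
    (hZ : IsKleinFour (center (commutator G))) :
    ∃ t : Γ, orderOf t = 2 ∧ Nonempty (G ≃* centralizer ({t} : Set Γ)) := by
  have l5 : l ^ 5 = 1 := by rw [← hl, pow_orderOf_eq_one]
  have l0 : l ≠ 0 := fun e => by rw [e] at l5; simp at l5
  have l1 : l - 1 ≠ 0 := fun e => by rw [sub_eq_zero.1 e, orderOf_one] at hl; omega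
  have l3 : l ^ 3 - 1 ≠ 0 := fun e => by
    have := orderOf_dvd_of_pow_eq_one (sub_eq_zero.1 e)
    rw [hl] at this
    omega
  have l4 : l ^ 4 + l ^ 3 + l ^ 2 + l + 1 = 0 :=
    (mul_eq_zero.1 (show (l - 1) * _ = 0 by linear_combination l5)).resolve_left l1
  have s1 : σ (l ^ 4 + l ^ 3) = l + l ^ 2 := by
    rw [map_add, hσ, hσ]; linear_combination (l ^ 11 + l ^ 6 + l + l ^ 7 + l ^ 2) * l5
  obtain ⟨t, ht⟩ := h.surj _ (ok_uu h.inv (α := 0) (β := 1) (by simp; linear_combination two))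
  rw [map_zero, neg_zero] at ht
  obtain ⟨a', ha⟩ := h.surj _ (ok_uu h.inv (α := 1) (β := l ^ 4 + l ^ 3)
    (by rw [s1, map_one]; linear_combination l4))
  obtain ⟨τ', hτ⟩ := h.surj (dd l (l ^ 3)) ⟨by
    ext i j
    fin_cases i <;> fin_cases j <;> simp [dd, JJ, cT, Matrix.mul_apply, Fin.sum_univ_three, hσ]
    · linear_combination l5
    · linear_combination (l ^ 10 + l ^ 5 + 1) * l5
    · linear_combination l5, by simp [dd, det_fin_three]; linear_combination l5⟩
  have hc : ∀ i, φ (c a' τ' i) = uu (l ^ (3 * i)) (l ^ (2 * i)) (l ^ 4 + l ^ 3) := fun i => by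
    induction i with
    | zero => rw [c_zero, ha]; exact uu_congr (by simp; linear_combination -two) (by simp) rfl
    | succ i ih =>
      rw [← c_succ, map_mul, map_mul, ih, hτ, dd_mul _ _ _ _ _ (x' := l ^ (3 * (i + 1)))
        (y' := l ^ (2 * (i + 1))) (by linear_combination -(l ^ (3 * i) * l) * l5) (by ring), ← hτ,
        mul_assoc, ← map_mul, mul_inv_cancel, map_one, mul_one]
  have hm : ∀ i j, φ ⁅c a' τ' i, c a' τ' j⁆ =
      uu 0 0 (l ^ (3 * i) * l ^ (2 * j) - l ^ (3 * j) * l ^ (2 * i)) := fun i j => by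
    rw [commutatorElement_def, map_mul, map_mul, map_mul, Md.map_inv_uu (hc i), Md.map_inv_uu (hc j),
      hc, hc, uu_mul, uu_mul, uu_mul]
    exact uu_congr (by ring) (by ring) (by ring)
  have cz : ∀ z γ, φ z = uu 0 0 γ → Commute a' z ∧ Commute τ' z ∧ z * z = 1 := fun z γ e =>
    ⟨h.inj (by rw [map_mul, map_mul, e, ha, uu_mul, uu_mul]; exact uu_congr (by ring) (by ring) (by ring)),
      h.inj (by rw [map_mul, map_mul, e, hτ]; exact dd_mul _ _ _ _ _ (by simp) (by simp)),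
      h.inj (by
        rw [map_mul, e, uu_mul, map_one, ← uu_zero]
        exact uu_congr (by ring) (by ring) (by linear_combination γ * two))⟩
  have n1 : ∀ z γ, φ z = uu 0 0 γ → γ ≠ 0 → z ≠ 1 := fun z γ e h0 h1 => h0 (by
    rw [h1, map_one] at e
    simpa [uu] using (congrFun (congrFun e 0) 2).symm)
  have hR : Rl a' τ' := ⟨h.inj (by
      rw [map_pow, hτ, map_one]
      ext i j
      fin_cases i <;> fin_cases j <;> simp [dd, pow_succ, Matrix.mul_apply, Fin.sum_univ_three]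
      · linear_combination l5
      · linear_combination (l ^ 10 + l ^ 5 + 1) * l5
      · linear_combination l5), h.inj (by
      simp only [map_mul, hc, uu_mul, map_one]
      rw [← uu_zero]
      exact uu_congr (by grind) (by grind) (by grind)), by
    rintro z (rfl | rfl | rfl)
    · exact cz _ _ (hm 1 0)
    · exact cz _ _ (hm 2 0)
    · exact cz _ 1 (by
        rw [map_mul, ha, uu_mul, map_one]
        exact uu_congr (by grind) (by grind) (by grind))⟩
  obtain ⟨a, τ, hR', hg, hN⟩ := struct hG hD hZ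
  obtain ⟨f, f1, f2⟩ := hR'.hom hR hg hG
  have hf : Function.Injective f := by
    refine (MonoidHom.ker_eq_bot_iff f).1 (hN _ inferInstance ?_ ?_ ?_) <;>
      simp only [MonoidHom.mem_ker, map_mul, map_commutatorElement, c_map, f1, f2]
    · exact n1 _ _ (hm 1 0) fun e => mul_ne_zero (pow_ne_zero 2 l0) l1 (by linear_combination e)
    · exact n1 _ _ (hm 2 0) fun e => mul_ne_zero l0 l3 (by grind)
    · exact n1 _ 1 (by rw [map_mul, hm, hm, uu_mul]; exact uu_congr (by ring) (by ring) (by grind))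
        one_ne_zero
  obtain ⟨t1, t2, t3⟩ := cz t 1 ht
  have hr : ∀ g, f g ∈ centralizer ({t} : Set Γ) := fun g => (show ⊤ ≤ (centralizer {t}).comap f by
    rw [← hg, closure_le]
    rintro _ (rfl | rfl)
    · exact mem_centralizer_singleton_iff.2 (f1 ▸ t1)
    · exact mem_centralizer_singleton_iff.2 (f2 ▸ t2)) trivial
  have hf' : Function.Injective (f.codRestrict _ hr) := fun _ _ e => hf (congrArg Subtype.val e)
  have h4 := card_cent h two (ω := l ^ 4 + l ^ 3) (by rw [s1]; grind) ht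
  rw [c1, c2, c3] at h4
  exact ⟨t, orderOf_eq_prime (by rw [pow_two, t3]) (n1 t 1 ht one_ne_zero),
    ⟨MulEquiv.ofBijective _ ((Nat.bijective_iff_injective_and_card _).2
      ⟨hf', le_antisymm (Nat.card_le_card_of_injective _ hf') (by omega)⟩)⟩⟩

end Cfsg.Agent.H22.U320
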